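import Cfsg.Agent.Cit.Nil.SDWTwo_m3
import Cfsg.Agent.Cit.Nil.Dich
import Cfsg.Agent.KFacts.RgdFld.Two_m3
import Cfsg.Agent.Lib.LocalCore
import Cfsg.Agent.Cit.Nil.Comp.MThreeAbs
import Cfsg.Agent.Co2Type.Quad
import Cfsg.Agent.Cit.Commute
import Cfsg.Agent.Cit.OneBasic
import Cfsg.Prelude.Def_TwoFusion
import Cfsg.Agent.Cit.Sub
import Cfsg.Agent.Cit.CorTwo
import Cfsg.Agent.Cit.LemmaB
import Cfsg.Agent.Cit.Nil.RG.Tri
import Mathlib.Data.Nat.Multiplicity
import Cfsg.Agent.Transfer.SL23Section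
import Cfsg.Agent.Cit.OmB3.Torus_m3
import Cfsg.Agent.FastGrp
import Cfsg.Agent.Prune
set_option linter.all false

section
prune_inst 0x7fbcfefb2ff8afffffff7e7ffe95dffdb9fcffffffdffbcbffe0ebffafdf6b06fbe5fb8d9fe858fd0ef7e29430f87b13f9fece7fab6bdc7ffffd5ff45ffbfd9f8d6ebf8851f6883e1fbc6ffff3f07fce7f3fffffffffffffffffffffffffffbefffdffbfffff

-- part: Cit/Nil/VC
section
prune_inst 0x400000
set_option linter.all false
open scoped Cfsg.Agent.FastGrp

/-!
# S1309, 2-nilpotent members: (C3) or an equivariant choice of `V_K`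

`C3 K` : the Sylow 2-subgroup `Q` of `K` has order 8 and a 3-element of `N(K) ∩ N(Q)` acts nontrivially on `Q`.
`exists_vchoice` : for a 2-nilpotent `K` without (C3) there is a `VChoice (cls K) U`.
-/

set_option autoImplicit false
set_option linter.style.haveILetI false
set_option linter.unusedSectionVars false

namespace Cfsg.Agent.Cit.Nil

open Subgroup Cfsg Cit
open Transfer.SL23Recog

variable {G : Type*} [Group G]

/-- **(C3)** -/
def C3 (K : Subgroup G) : Prop := ∃ Q, Syl Q K ∧ Nat.card Q = 8 ∧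
  ∃ c ∈ normalizer (K : Set G), c ∈ normalizer (Q : Set G) ∧ IsPGroup 3 (zpowers c) ∧ ∃ q ∈ Q, c * q ≠ q * c

namespace VC

variable [Finite G] {K Q : Subgroup G} {c v z : G} {n : ℕ}

/-- if (C3) fails the elements of odd order of `N(K) ∩ N(Q)` centralise `Q` -/
theorem odd_cent (hC : ¬ C3 K) (hQ : Syl Q K) (hgq : IsGQ Q) {g : G} (hgK : g ∈ normalizer (K : Set G))
    (hgQ : g ∈ normalizer (Q : Set G)) (hg : Odd (orderOf g)) : g ∈ centralizer (Q : Set G) := by
  by_contra hgc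
  obtain ⟨m, hm⟩ := hgq
  obtain ⟨c, z, hq⟩ := Transfer.QuatSylow.exists_isQuat Q (m + 1) hm
  obtain ⟨i, j, t, ⟨hrel, hi2, hto⟩, hi, hj, ht, hcl⟩ := Slrel.exists_slrel hq Q le_rfl g hgQ hg hgc
  have htK : t ∈ normalizer (K : Set G) := (zpowers_le.2 hgK) ht
  have htQ : t ∈ normalizer (Q : Set G) := (zpowers_le.2 hgQ) ht
  apply hC
  have hQe : Q = Subgroup.closure {i, j} := by
    apply le_antisymm hcl
    rw [closure_le]
    rintro x (rfl | rfl)
    · exact hi
    · exact hj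
  have h8 : Nat.card Q = 8 := by rw [hQe]; exact Transfer.SL23Section.card_quaternion hrel.toQRel hi2
  -- `t ^ 3` centralises `i`
  have e1 : t * (i * j) * t⁻¹ = i := by
    have : t * (i * j) * t⁻¹ = (t * i * t⁻¹) * (t * j * t⁻¹) := by group
    rw [this, hrel.hti, hrel.htj, ← mul_assoc, hrel.toQRel.ji, mul_assoc, ← pow_two, hrel.hj, ← pow_add,
      show 3 + 2 = 4 + 1 from rfl, pow_add, hrel.hi, one_mul, pow_one]
  have ci : t ^ 3 * i * (t ^ 3)⁻¹ = i := by
    have : t ^ 3 * i * (t ^ 3)⁻¹ = t * (t * (t * i * t⁻¹) * t⁻¹) * t⁻¹ := by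
      simp [pow_succ, mul_assoc]
    rw [this, hrel.hti, hrel.htj, e1]
  have ci' : Commute (t ^ 3) i := by
    rw [mul_inv_eq_iff_eq_mul] at ci; exact ci
  have hij : j ≠ i := by
    rintro rfl
    exact Transfer.SL23Section.j_not_commute hrel.toQRel hi2 (Commute.refl _)
  -- the 3-part of `t`
  obtain ⟨a, m', hm', ham⟩ : ∃ a m', ¬ 3 ∣ m' ∧ orderOf t = 3 ^ a * m' :=
    Nat.exists_eq_pow_mul_and_not_dvd (orderOf_pos t).ne' 3 (by norm_num)
  have hco : Nat.Coprime m' 3 := (Nat.coprime_comm.1 ((Nat.Prime.coprime_iff_not_dvd Nat.prime_three).2 hm'))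
  refine ⟨Q, hQ, h8, t ^ m', pow_mem htK _, pow_mem htQ _, ?_, i, hi, ?_⟩
  · rintro ⟨_, k, rfl⟩
    refine ⟨a, Subtype.ext ?_⟩
    show ((t ^ m') ^ k) ^ 3 ^ a = 1
    rw [← zpow_natCast, ← zpow_mul, mul_comm, zpow_mul, zpow_natCast, ← pow_mul, mul_comm m', ← ham,
      pow_orderOf_eq_one, one_zpow]
  · intro hc
    -- `t` is a product of powers of `t ^ m'` and `t ^ 3`
    have h1 : Commute t i := by
      obtain ⟨x, y, hxy⟩ : ∃ x y : ℤ, (m' : ℤ) * x + 3 * y = 1 := by
        have := Nat.gcd_eq_gcd_ab m' 3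
        rw [hco] at this
        exact ⟨_, _, by exact_mod_cast this.symm⟩
      have h2 : t = (t ^ m') ^ x * (t ^ 3) ^ y := by
        rw [← zpow_natCast t m', ← zpow_natCast t 3, ← zpow_mul, ← zpow_mul, ← zpow_add]
        push_cast
        rw [hxy, zpow_one]
      rw [h2]
      exact (Commute.zpow_left hc x).mul_left (ci'.zpow_left y)
    apply hij
    rw [← hrel.hti, h1.eq, mul_inv_cancel_right]

/-- a cyclic subgroup of order 4 of `Q` normalised by `N(K) ∩ N(Q)` -/
theorem exists_v (hC : ¬ C3 K) (hQ : Syl Q K) (hgq : IsGQ Q) :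
    ∃ v ∈ Q, orderOf v = 4 ∧
      normalizer (K : Set G) ⊓ normalizer (Q : Set G) ≤ normalizer (zpowers v : Set G) := by
  haveI : Fact (Nat.Prime 2) := ⟨Nat.prime_two⟩
  obtain ⟨N, hN⟩ : ∃ N : Subgroup G, N = normalizer (K : Set G) ⊓ normalizer (Q : Set G) := ⟨_, rfl⟩
  obtain ⟨P, hP⟩ := Hyp.exists_syl N
  have hPQ : P ≤ normalizer (Q : Set G) := by
    refine hP.1.trans ?_
    rw [hN]; exact inf_le_right
  obtain ⟨x, hx, hx4, hxc, hxP⟩ := AutQuat.IsQ.exists_cyclic (show AutQuat.IsQ Q from hgq) hP.2.1 hPQ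
  -- `N = P C_N(Q)`
  obtain ⟨C, hCdef⟩ : ∃ C : Subgroup G, C = N ⊓ centralizer (Q : Set G) := ⟨_, rfl⟩
  have hCN : C ≤ N := by rw [hCdef]; exact inf_le_left
  have hNC : N ≤ normalizer (C : Set G) := by
    intro g hg
    have hgQ : g ∈ normalizer (Q : Set G) := by
      rw [hN] at hg; exact hg.2
    have hgQ' : g⁻¹ ∈ normalizer (Q : Set G) := inv_mem hgQ
    rw [mem_normalizer_iff_cj]
    have key : ∀ g ∈ N, g ∈ normalizer (Q : Set G) → cj g C ≤ C := by
      intro g hg hgQ y hy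
      rw [mem_cj, hCdef] at hy
      rw [hCdef]
      refine ⟨?_, ?_⟩
      · have := N.mul_mem (N.mul_mem hg hy.1) (N.inv_mem hg)
        have e : g * (g⁻¹ * y * g) * g⁻¹ = y := by group
        rwa [e] at this
      · refine mem_centralizer_iff.2 ?_
        intro q hq
        have h1 : g⁻¹ * q * g ∈ Q := by
          have := (mem_normalizer_iff.1 (inv_mem hgQ) q).1 hq
          rwa [inv_inv] at this
        have h2 := mem_centralizer_iff.1 hy.2 _ h1
        have h3 : g * ((g⁻¹ * q * g) * (g⁻¹ * y * g)) * g⁻¹ = g * ((g⁻¹ * y * g) * (g⁻¹ * q * g)) * g⁻¹ := by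
          rw [h2]
        have e1 : g * ((g⁻¹ * q * g) * (g⁻¹ * y * g)) * g⁻¹ = q * y := by group
        have e2 : g * ((g⁻¹ * y * g) * (g⁻¹ * q * g)) * g⁻¹ = y * q := by group
        rwa [e1, e2] at h3
    apply le_antisymm (key g hg hgQ)
    have h1 := cj_mono g (key g⁻¹ (inv_mem hg) hgQ')
    rwa [cj_cj_inv] at h1
  have hind : ∃ k, C.relIndex N = 2 ^ k := by
    have hn : (C.subgroupOf N).Normal := (normal_subgroupOf_iff_le_normalizer hCN).2 hNC
    have h2 : IsPGroup 2 (N ⧸ C.subgroupOf N) := by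
      intro y
      obtain ⟨g, rfl⟩ := QuotientGroup.mk'_surjective (C.subgroupOf N) y
      obtain ⟨k, m, hm, hkm⟩ := Nat.exists_eq_two_pow_mul_odd (orderOf_pos g).ne'
      refine ⟨k, ?_⟩
      rw [← map_pow]
      show ((g ^ 2 ^ k : N) : N ⧸ C.subgroupOf N) = 1
      rw [QuotientGroup.eq_one_iff, mem_subgroupOf, hCdef]
      refine ⟨(g ^ 2 ^ k).2, ?_⟩
      have h3 : ((g ^ 2 ^ k : N) : G) ∈ normalizer (K : Set G) ⊓ normalizer (Q : Set G) := by
        rw [← hN]; exact (g ^ 2 ^ k).2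
      refine odd_cent hC hQ hgq h3.1 h3.2 ?_
      rw [Subgroup.orderOf_coe]
      have h4 : (g ^ 2 ^ k) ^ m = 1 := by rw [← pow_mul, ← hkm, pow_orderOf_eq_one]
      exact Odd.of_dvd_nat hm (orderOf_dvd_of_pow_eq_one h4)
    obtain ⟨k, hk⟩ := IsPGroup.iff_card.1 h2
    exact ⟨k, hk⟩
  have hPC : N ≤ P ⊔ C := by
    have h2 : (P ⊔ C).relIndex N ∣ P.relIndex N := relIndex_dvd_of_le_left N le_sup_left
    have h3 : (P ⊔ C).relIndex N ∣ C.relIndex N := relIndex_dvd_of_le_left N le_sup_right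
    obtain ⟨k, hk⟩ := hind
    rw [hk] at h3
    obtain ⟨l, -, hl⟩ := (Nat.dvd_prime_pow Nat.prime_two).1 h3
    have h6 : (P ⊔ C).relIndex N = 1 := by
      rcases Nat.eq_zero_or_pos l with rfl | hl0
      · simpa using hl
      · exfalso
        apply hP.2.2
        rw [hl] at h2
        exact (dvd_pow_self 2 hl0.ne').trans h2
    exact relIndex_eq_one.1 h6
  have hxn : ∀ g ∈ N, g * x * g⁻¹ ∈ zpowers x := by
    have h1 : P ⊔ C ≤ normalizer (zpowers x : Set G) := by
      refine sup_le ?_ ?_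
      · intro w hw
        rw [mem_normalizer_iff_cj, cj_def, MonoidHom.map_zpowers]
        apply eq_of_le_of_card_ge
        · rw [zpowers_le]; exact hxP w hw
        · rw [Nat.card_zpowers, Nat.card_zpowers]
          exact ((MulAut.conj w).orderOf_eq x).symm.le
      · intro w hw
        rw [hCdef] at hw
        have h2 := mem_centralizer_iff.1 hw.2 x hx
        rw [mem_normalizer_iff_cj, cj_def, MonoidHom.map_zpowers]
        congr 1
        show w * x * w⁻¹ = x
        rw [← h2, mul_inv_cancel_right]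
    intro g hg
    exact (mem_normalizer_iff.1 (h1 (hPC hg)) x).1 (mem_zpowers x)
  -- the subgroup of order 4
  obtain ⟨m, hgq'⟩ := id hgq
  have hcard : Nat.card Q = 4 * 2 ^ (m + 1) := by
    obtain ⟨e⟩ := hgq'
    rw [Nat.card_congr e.toEquiv, Nat.card_eq_fintype_card, QuaternionGroup.card]
  have hox : orderOf x = 4 * 2 ^ m := by
    rw [hcard, pow_succ] at hxc
    omega
  refine ⟨x ^ 2 ^ m, Q.pow_mem hx _, ?_, ?_⟩
  · rw [orderOf_pow' x (by positivity), hox, Nat.gcd_eq_right (Dvd.intro_left 4 rfl)]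
    exact Nat.mul_div_cancel _ (by positivity)
  · rw [← hN]
    intro g hg
    rw [mem_normalizer_iff_cj, cj_def, MonoidHom.map_zpowers]
    apply eq_of_le_of_card_ge
    · rw [zpowers_le]
      show g * x ^ 2 ^ m * g⁻¹ ∈ _
      obtain ⟨k, hk⟩ := mem_zpowers_iff.1 (hxn g hg)
      have h1 : g * x ^ 2 ^ m * g⁻¹ = (x ^ 2 ^ m) ^ k := by
        rw [← _root_.conj_pow, ← hk, ← zpow_natCast (x ^ k), ← zpow_natCast x, ← zpow_mul, ← zpow_mul, mul_comm]
      rw [h1]
      exact zpow_mem (mem_zpowers _) k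
    · rw [Nat.card_zpowers, Nat.card_zpowers]
      exact ((MulAut.conj g).orderOf_eq _).symm.le

/-- `N(K) ≤ N(⟨v⟩ O(K))` -/
theorem normalizer_le (hK : NilK K) (hQ : Syl Q K)
    (hv : normalizer (K : Set G) ⊓ normalizer (Q : Set G) ≤ normalizer (zpowers v : Set G)) :
    normalizer (K : Set G) ≤ normalizer ((zpowers v ⊔ OO K : Subgroup G) : Set G) := by
  have hOn : normalizer (K : Set G) ≤ normalizer (OO K : Set G) := by
    intro g hg
    rw [mem_normalizer_iff_cj, ← OO_cj, mem_normalizer_iff_cj.1 hg]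
  have h1 : normalizer (K : Set G) ⊓ normalizer (Q : Set G) ≤
      normalizer ((zpowers v ⊔ OO K : Subgroup G) : Set G) := by
    intro g hg
    rw [mem_normalizer_iff_cj, cj_sup, mem_normalizer_iff_cj.1 (hv hg), mem_normalizer_iff_cj.1 (hOn hg.1)]
  have h2 : OO K ≤ normalizer ((zpowers v ⊔ OO K : Subgroup G) : Set G) := le_sup_right.trans le_normalizer
  have h3 : K ≤ normalizer ((zpowers v ⊔ OO K : Subgroup G) : Set G) := by
    refine (hK Q hQ).trans (sup_le h2 ?_)
    exact (le_inf (hQ.1.trans le_normalizer) le_normalizer).trans h1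
  intro g hg
  have h4 : Syl (cj g Q) K := by
    have := hQ.cj g
    rwa [mem_normalizer_iff_cj.1 hg] at this
  obtain ⟨k, hk, hkQ⟩ := h4.exists_conj hQ
  have h5 : k * g ∈ normalizer (K : Set G) ⊓ normalizer (Q : Set G) := by
    refine ⟨mul_mem (le_normalizer hk) hg, mem_normalizer_iff_cj.2 ?_⟩
    rw [cj_mul, hkQ]
  have h6 := mul_mem (inv_mem (h3 hk)) (h1 h5)
  rwa [inv_mul_cancel_left] at h6

open Classical in
/-- the equivariant extension of `K ↦ V` to the class of `K` -/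
noncomputable def Uc (K V L : Subgroup G) : Subgroup G :=
  if h : ∃ g, L = cj g K then cj h.choose V else ⊥

theorem Uc_cj {V : Subgroup G} (hN : normalizer (K : Set G) ≤ normalizer (V : Set G)) (g : G) :
    Uc K V (cj g K) = cj g V := by
  have hex : ∃ h : G, cj g K = cj h K := ⟨g, rfl⟩
  have h1 : Uc K V (cj g K) = cj hex.choose V := by
    unfold Uc
    rw [dif_pos hex]
  rw [h1]
  have h2 := hex.choose_spec
  set h := hex.choose with hh
  have h3 : cj (g⁻¹ * h) K = K := by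
    rw [cj_mul, ← h2, cj_inv_cj]
  have h4 := mem_normalizer_iff_cj.1 (hN (mem_normalizer_iff_cj.2 h3))
  rw [cj_mul] at h4
  have h5 := congrArg (cj g) h4
  rwa [cj_cj_inv] at h5

theorem card_sup (hvK : v ∈ K) (hv4 : orderOf v = 4) :
    Nat.card (zpowers v ⊔ OO K : Subgroup G) = 4 * Nat.card (OO K) := by
  have hN : (oddCore K).Normal := Lib.Cores.pPrimeCore_normal 2
  have h1 : Nat.card (zpowers (⟨v, hvK⟩ : K)) = 4 := by
    rw [Nat.card_zpowers, Subgroup.orderOf_mk, hv4]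
  have h2 : (Nat.card (zpowers (⟨v, hvK⟩ : K))).Coprime (Nat.card (oddCore K)) := by
    rw [h1, show (4 : ℕ) = 2 ^ 2 from rfl]
    exact Nat.Coprime.pow_left _ (Nat.Coprime.symm (Lib.Cores.pPrimeCore_coprime (G := K) 2))
  have h3 := Lib.LocalCore.card_sup_of_coprime (zpowers (⟨v, hvK⟩ : K)) (oddCore K) h2
  have h4 : (zpowers (⟨v, hvK⟩ : K) ⊔ oddCore K).map K.subtype = zpowers v ⊔ OO K := by
    rw [Subgroup.map_sup, MonoidHom.map_zpowers]
    rfl
  rw [← h4, card_map_of_injective K.subtype_injective, h3, h1, OO, card_map_of_injective K.subtype_injective]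

theorem vchoice {V : Subgroup G} (hN : normalizer (K : Set G) ≤ normalizer (V : Set G)) (hVK : V ≤ K)
    (hO : OO K ≤ V) (hcard : Nat.card V = 4 * Nat.card (OO K)) (hv : ∃ v ∈ V, orderOf v = 4) :
    VChoice (cls K) (Uc K V) := by
  refine ⟨?_, ?_, ?_, ?_, ?_⟩
  · rintro L ⟨g, rfl⟩
    rw [Uc_cj hN]
    exact cj_mono g hVK
  · rintro L ⟨g, rfl⟩ h
    rw [← cj_mul, Uc_cj hN, Uc_cj hN, cj_mul]
  · rintro L ⟨g, rfl⟩
    rw [Uc_cj hN, OO_cj]
    exact cj_mono g hO
  · rintro L ⟨g, rfl⟩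
    rw [Uc_cj hN, OO_cj, card_cj, card_cj, hcard]
  · rintro L ⟨g, rfl⟩
    obtain ⟨v, hv, hv4⟩ := hv
    rw [Uc_cj hN]
    exact ⟨g * v * g⁻¹, conj_mem_cj hv, by rw [← hv4]; exact (MulAut.conj g).orderOf_eq v⟩

end VC

/-- **(C3) or (CV)** -/
theorem exists_vchoice [Finite G] {Om : Set (Subgroup G)} (h : Hyp Om) {K : Subgroup G} (hK : K ∈ Om)
    (hn : NilK K) (hC : ¬ C3 K) : ∃ U, VChoice (cls K) U := by
  obtain ⟨Q, hQ⟩ := Hyp.exists_syl K
  obtain ⟨v, hv, hv4, hvN⟩ := VC.exists_v hC hQ (h.isGQ hK hQ)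
  exact ⟨_, VC.vchoice (VC.normalizer_le hn hQ hvN) (sup_le (zpowers_le.2 (hQ.1 hv)) (OO_le K)) le_sup_right
    (VC.card_sup (hQ.1 hv) hv4) ⟨v, mem_sup_left (mem_zpowers v), hv4⟩⟩

end Cfsg.Agent.Cit.Nil
end

-- part: Cit/Nil/RFour/TypeI
section
prune_inst 0x400000c005100000000180016a00024001000000000430001f1400502004e9040a042260168602f00000288400004006012100440403000002000000040200729100242009348000421000080b003180c00000000000000000000000000041000200400000
set_option linter.all false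
open scoped Cfsg.Agent.FastGrp

-- part: Cit/Nil/RFour/Def
section
/-!
# S1309, (6b), (C3), `r = 4`, `m = 1`: the setting

Text: `blueprints/CIT-6b-r4m1-helper449.md`. This file is `RTwo/Def.lean` (helper397) for four members.

* `W4 Om` : members are quaternion of order 8, exactly four over each `z`, commuting members have the same `zz`;
* `Mem Om z K` : `K` is a member over `z`; `InZ Om z`;
* `Inn Om z g` : `g` acts trivially on `K/⟨z⟩` for the members `K` over `z` (`⟺ g ∈ R_z X_z`);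
* `CX Om z = X_z`, `RZ Om z = R_z`;
* `Fr Om z K` : `K : Fin 4 → Subgroup G` enumerates the members over `z`;
* `W4.inn_both` : `t` inner on one member over `z` gives `Inn z t` and `Inn t z` (type I).
-/

set_option autoImplicit false
set_option linter.unusedSectionVars false

namespace Cfsg.Agent.Cit.Nil.RFour

open Subgroup Cfsg Cfsg.Agent.Cit

open RTwo (Q3 Act i11 i12 i21 i22 i_ne1 i_ne2 i_ne12 i_cases i_cases3)

variable {G : Type*} [Group G]

/-- the world `r = 4`, `m = 1` -/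
structure W4 (Om : Set (Subgroup G)) : Prop where
  hyp : Hyp Om
  card : ∀ K ∈ Om, Nat.card K = 8
  four : ∀ K ∈ Om, {L | L ∈ Om ∧ zz L = zz K}.ncard = 4
  one : ∀ K ∈ Om, ∀ L ∈ Om, (∀ k ∈ K, ∀ l ∈ L, k * l = l * k) → zz K = zz L

/-- `K` is a member over `z` -/
def Mem (Om : Set (Subgroup G)) (z : G) (K : Subgroup G) : Prop := K ∈ Om ∧ zz K = z

/-- `K 0, …, K 3` are the members over `z` -/
structure Fr (Om : Set (Subgroup G)) (z : G) (K : Fin 4 → Subgroup G) : Prop where
  mem : ∀ i, Mem Om z (K i)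
  inj : Function.Injective K
  cov : ∀ M, Mem Om z M → ∃ i, K i = M

/-- `z ∈ Z` -/
def InZ (Om : Set (Subgroup G)) (z : G) : Prop := ∃ K, Mem Om z K

/-- `g` acts on the members over `z` as an inner automorphism -/
def Inn (Om : Set (Subgroup G)) (z g : G) : Prop :=
  ∀ K, Mem Om z K → ∀ k ∈ K, g * k * g⁻¹ = k ∨ g * k * g⁻¹ = z * k

/-- `X_z` -/
def CX (Om : Set (Subgroup G)) (z : G) : Subgroup G := centralizer {k | ∃ K, Mem Om z K ∧ k ∈ K}

/-- `R_z` -/
def RZ (Om : Set (Subgroup G)) (z : G) : Subgroup G := sSup {K | Mem Om z K}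

variable {Om : Set (Subgroup G)} {K L M : Subgroup G} {g g' t x y z : G}

theorem mem_CX : g ∈ CX Om z ↔ ∀ K, Mem Om z K → ∀ k ∈ K, g * k = k * g := by
  rw [CX, mem_centralizer_iff]
  constructor
  · intro h K hK k hk
    exact (h k ⟨K, hK, hk⟩).symm
  · rintro h k ⟨K, hK, hk⟩
    exact (h K hK k hk).symm

theorem Mem.inZ (h : Mem Om z K) : InZ Om z := ⟨K, h⟩

theorem Mem.le_RZ (h : Mem Om z K) : K ≤ RZ Om z := le_sSup h

theorem RZ_le (h : ∀ K, Mem Om z K → K ≤ M) : RZ Om z ≤ M := sSup_le fun K hK => h K hK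

section Fin

variable [Finite G]

theorem W4.isPGroup (h : W4 Om) (hK : K ∈ Om) : IsPGroup 2 K := by
  refine IsPGroup.of_card (n := 3) ?_
  rw [h.card K hK]; norm_num

/-- coordinates of a member -/
theorem W4.exists_q3 (h : W4 Om) (hK : Mem Om z K) : ∃ x, Q3 K z x := by
  obtain ⟨hK, rfl⟩ := hK
  obtain ⟨c, v, n, hgq⟩ := h.hyp.exists_gq hK (syl_self (h.isPGroup hK))
  have hn : n = 0 := by
    have h1 := hgq.card
    rw [h.card K hK] at h1
    have h2 : (2 : ℕ) ^ 3 = 2 ^ (n + 3) := by rw [← h1]; norm_num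
    have h3 := Nat.pow_right_injective (le_refl 2) h2
    omega
  subst hn
  have hcc : c * c = zz K := by
    have h1 := hgq.w_sq
    rwa [pow_zero, pow_one] at h1
  have hvv : v * v = zz K := hgq.v_sq
  have hz2 : zz K * zz K = 1 := hgq.z_mul
  have hzc : zz K * c = c * zz K := by rw [← hcc, mul_assoc]
  have hzv : zz K * v = v * zz K := by rw [← hvv, mul_assoc]
  have hci : c⁻¹ = zz K * c := by
    apply inv_eq_of_mul_eq_one_right
    rw [hzc, ← mul_assoc, hcc, hz2]
  have hvc : v * c = zz K * (c * v) := by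
    have h1 := hgq.conj_pow 1
    rw [pow_one] at h1
    rw [h1, hci, mul_assoc]
  have hcvc : c * v * c = v := by
    rw [mul_assoc, hvc]
    calc c * (zz K * (c * v)) = (c * zz K) * (c * v) := by group
      _ = (zz K * c) * (c * v) := by rw [hzc]
      _ = zz K * (c * c) * v := by group
      _ = v := by rw [hcc, hz2, one_mul]
  have hvcv : v * (c * v) = c := by
    calc v * (c * v) = (v * c) * v := by group
      _ = zz K * (c * v) * v := by rw [hvc]
      _ = zz K * (c * (v * v)) := by group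
      _ = zz K * (c * zz K) := by rw [hvv]
      _ = zz K * (zz K * c) := by rw [hzc]
      _ = c := by rw [← mul_assoc, hz2, one_mul]
  -- powers of `c`
  have hpow : ∀ i : ℤ, c ^ i = 1 ∨ c ^ i = c ∨ c ^ i = zz K ∨ c ^ i = zz K * c := by
    intro i
    have h4 : c ^ (4 : ℤ) = 1 := by
      have : c ^ (4 : ℤ) = (c * c) * (c * c) := by
        rw [show (4 : ℤ) = ((4 : ℕ) : ℤ) from rfl, zpow_natCast]
        simp only [pow_succ, pow_zero, one_mul, mul_assoc]
      rw [this, hcc, hz2]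
    have h5 : c ^ i = c ^ (i % 4) := by
      conv_lhs => rw [← Int.emod_add_mul_ediv i 4, zpow_add, zpow_mul, h4, one_zpow, mul_one]
    have h6 : i % 4 = 0 ∨ i % 4 = 1 ∨ i % 4 = 2 ∨ i % 4 = 3 := by omega
    rw [h5]
    rcases h6 with h6 | h6 | h6 | h6 <;> rw [h6]
    · left; exact zpow_zero c
    · right; left; exact zpow_one c
    · right; right; left
      have : c ^ (2 : ℤ) = c * c := by
        rw [show (2 : ℤ) = ((2 : ℕ) : ℤ) from rfl, zpow_natCast, pow_two]
      rw [this, hcc]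
    · right; right; right
      have : c ^ (3 : ℤ) = (c * c) * c := by
        rw [show (3 : ℤ) = ((3 : ℕ) : ℤ) from rfl, zpow_natCast]
        simp only [pow_succ, pow_zero, one_mul]
      rw [this, hcc]
  refine ⟨![c, v, c * v], ?_, ?_, ?_, hz2, hgq.z_ne, ?_⟩
  · intro m
    fin_cases m
    · exact hgq.c_mem
    · exact hgq.v_mem
    · exact mul_mem hgq.c_mem hgq.v_mem
  · intro m
    fin_cases m
    · exact hcc
    · exact hvv
    · show c * v * (c * v) = zz K
      rw [← mul_assoc, hcvc, hvv]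
  · intro m
    fin_cases m
    · rfl
    · exact hvcv
    · exact hcvc
  · intro k hk
    rcases hgq.covZ hk with h1 | ⟨i, h1⟩
    · obtain ⟨i, hi⟩ := mem_zpowers_iff.1 h1
      rcases hpow i with h2 | h2 | h2 | h2
      · left; rw [← hi, h2]
      · right; right; exact ⟨0, Or.inl (by rw [← hi, h2]; rfl)⟩
      · right; left; rw [← hi, h2]
      · right; right; exact ⟨0, Or.inr (by rw [← hi, h2]; rfl)⟩
    · rcases hpow i with h2 | h2 | h2 | h2
      · right; right; exact ⟨1, Or.inl (by rw [h1, h2, mul_one]; rfl)⟩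
      · right; right; exact ⟨2, Or.inr (by rw [h1, h2, hvc]; rfl)⟩
      · right; right; exact ⟨1, Or.inr (by rw [h1, h2, ← hzv]; rfl)⟩
      · right; right
        refine ⟨2, Or.inl ?_⟩
        rw [h1, h2]
        show v * (zz K * c) = c * v
        calc v * (zz K * c) = (v * zz K) * c := by group
          _ = (zz K * v) * c := by rw [hzv]
          _ = zz K * (v * c) := by group
          _ = c * v := by rw [hvc, ← mul_assoc, hz2, one_mul]

theorem InZ.exists_q3 (hz : InZ Om z) (h : W4 Om) : ∃ K x, Mem Om z K ∧ Q3 K z x := by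
  obtain ⟨K, hK⟩ := hz
  obtain ⟨x, hx⟩ := h.exists_q3 hK
  exact ⟨K, x, hK, hx⟩

theorem InZ.z2 (hz : InZ Om z) (h : W4 Om) : z * z = 1 := by
  obtain ⟨K, x, -, hx⟩ := hz.exists_q3 h; exact hx.z2

theorem InZ.z1 (hz : InZ Om z) (h : W4 Om) : z ≠ 1 := by
  obtain ⟨K, x, -, hx⟩ := hz.exists_q3 h; exact hx.z1

theorem InZ.inv (hz : InZ Om z) (h : W4 Om) : z⁻¹ = z := inv_eq_of_mul_eq_one_right (hz.z2 h)

theorem InZ.orderOf (hz : InZ Om z) (h : W4 Om) : orderOf z = 2 :=
  orderOf_eq_prime (by rw [pow_two]; exact hz.z2 h) (hz.z1 h)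

theorem Mem.zmem (hK : Mem Om z K) (h : W4 Om) : z ∈ K := by
  obtain ⟨hK, rfl⟩ := hK; exact h.hyp.zz_mem hK

theorem Mem.comm_z (hK : Mem Om z K) (h : W4 Om) {k : G} (hk : k ∈ K) : k * z = z * k := by
  obtain ⟨hK, rfl⟩ := hK
  exact h.hyp.comm_zz hK (le_normalizer hk)

theorem Mem.cj (hK : Mem Om z K) (h : W4 Om) (g : G) : Mem Om (g * z * g⁻¹) (Cit.cj g K) := by
  obtain ⟨hK, rfl⟩ := hK
  exact ⟨h.hyp.conj K hK g, h.hyp.zz_cj hK g⟩

theorem Mem.cj_comm (hK : Mem Om z K) (h : W4 Om) (hg : g * z = z * g) : Mem Om z (Cit.cj g K) := by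
  have := hK.cj h g
  rwa [hg, mul_inv_cancel_right] at this

theorem Mem.of_cj (hK : Mem Om z K) (h : W4 Om) (hg : Cit.cj g K = K) : g * z = z * g := by
  have h1 := hK.cj h g
  rw [hg] at h1
  have h2 : g * z * g⁻¹ = z := h1.2.symm.trans hK.2
  rw [← mul_inv_eq_iff_eq_mul, h2]

theorem InZ.conj (hz : InZ Om z) (h : W4 Om) (g : G) : InZ Om (g * z * g⁻¹) := by
  obtain ⟨K, hK⟩ := hz; exact ⟨_, hK.cj h g⟩

theorem Mem.comm (hK : Mem Om z K) (hL : Mem Om z L) (h : W4 Om) (hne : K ≠ L) {k l : G} (hk : k ∈ K)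
    (hl : l ∈ L) : k * l = l * k := by
  rcases h.hyp.h2 K hK.1 L hL.1 (hK.2.trans hL.2.symm) with h1 | h1
  · exact absurd h1 hne
  rw [OO_eq_bot_of_two (h.isPGroup hK.1), bot_inf_eq, le_bot_iff, Subgroup.commutator_eq_bot_iff_le_centralizer] at h1
  exact (mem_centralizer_iff.1 (h1 hk) l hl).symm

theorem InZ.exists_fr (hz : InZ Om z) (h : W4 Om) : ∃ K, Fr Om z K := by
  obtain ⟨K, hK, rfl⟩ := hz
  have h4 := h.four K hK
  have hf : Set.Finite {L | L ∈ Om ∧ zz L = zz K} := Set.toFinite _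
  have e := Finite.equivFinOfCardEq (α := {L | L ∈ Om ∧ zz L = zz K}) (n := 4)
    (by rw [Nat.card_coe_set_eq]; exact h4)
  refine ⟨fun i => (e.symm i : Subgroup G), fun i => (e.symm i).2, fun i j hij => ?_, fun M hM => ?_⟩
  · exact e.symm.injective (Subtype.ext hij)
  · exact ⟨e ⟨M, hM⟩, by rw [Equiv.symm_apply_apply]⟩

theorem Fr.inZ {K : Fin 4 → Subgroup G} (f : Fr Om z K) : InZ Om z := ⟨K 0, f.mem 0⟩

theorem Fr.ne {K : Fin 4 → Subgroup G} (f : Fr Om z K) {i j : Fin 4} (hij : i ≠ j) : K i ≠ K j :=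
  fun h1 => hij (f.inj h1)

theorem Fr.perm {K : Fin 4 → Subgroup G} (f : Fr Om z K) (σ : Equiv.Perm (Fin 4)) : Fr Om z (fun i => K (σ i)) where
  mem i := f.mem _
  inj := f.inj.comp σ.injective
  cov M hM := by
    obtain ⟨i, hi⟩ := f.cov M hM
    exact ⟨σ.symm i, by rw [Equiv.apply_symm_apply]; exact hi⟩

theorem Fr.conj {K : Fin 4 → Subgroup G} (f : Fr Om z K) (h : W4 Om) (g : G) :
    Fr Om (g * z * g⁻¹) (fun i => Cit.cj g (K i)) where
  mem i := (f.mem i).cj h g
  inj i j hij := f.inj (cj_inj.1 hij)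
  cov M hM := by
    have h1 := hM.cj h g⁻¹
    have h2 : g⁻¹ * (g * z * g⁻¹) * g⁻¹⁻¹ = z := by group
    rw [h2] at h1
    obtain ⟨i, hi⟩ := f.cov _ h1
    exact ⟨i, by show Cit.cj g (K i) = M; rw [hi, cj_cj_inv]⟩

/-- a third member -/
theorem Mem.third (hK : Mem Om z K) (hL : Mem Om z L) (h : W4 Om) : ∃ M, Mem Om z M ∧ M ≠ K ∧ M ≠ L := by
  obtain ⟨F, f⟩ := hK.inZ.exists_fr h
  obtain ⟨i, rfl⟩ := f.cov K hK
  obtain ⟨j, rfl⟩ := f.cov L hL
  have h1 : ∀ i j : Fin 4, ∃ k, k ≠ i ∧ k ≠ j := by decide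
  obtain ⟨k, h2, h3⟩ := h1 i j
  exact ⟨F k, f.mem k, f.ne h2, f.ne h3⟩

theorem Mem.other (hK : Mem Om z K) (h : W4 Om) : ∃ L, Mem Om z L ∧ K ≠ L := by
  obtain ⟨L, hL, h1, -⟩ := hK.third hK h
  exact ⟨L, hL, h1.symm⟩

/-- two given different members are the first two of a frame -/
theorem Mem.exists_fr2 (hK : Mem Om z K) (hL : Mem Om z L) (h : W4 Om) (hne : K ≠ L) :
    ∃ F, Fr Om z F ∧ F 0 = K ∧ F 1 = L := by
  obtain ⟨F, f⟩ := hK.inZ.exists_fr h
  obtain ⟨i, rfl⟩ := f.cov K hK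
  obtain ⟨j, rfl⟩ := f.cov L hL
  have hij : i ≠ j := fun h1 => hne (by rw [h1])
  have h1 : ∀ i j : Fin 4, i ≠ j → ∃ σ : Equiv.Perm (Fin 4), σ 0 = i ∧ σ 1 = j := by decide +kernel
  obtain ⟨σ, h2, h3⟩ := h1 i j hij
  exact ⟨_, f.perm σ, by show F (σ 0) = F i; rw [h2], by show F (σ 1) = F j; rw [h3]⟩

theorem Mem.exists_fr1 (hK : Mem Om z K) (h : W4 Om) : ∃ F, Fr Om z F ∧ F 0 = K := by
  obtain ⟨L, hL, hne⟩ := hK.other h
  obtain ⟨F, f, h1, -⟩ := hK.exists_fr2 hL h hne
  exact ⟨F, f, h1⟩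

theorem Mem.inf (hK : Mem Om z K) (hL : Mem Om z L) (h : W4 Om) (hne : K ≠ L) {k : G} (hk : k ∈ K)
    (hl : k ∈ L) : k = 1 ∨ k = z := by
  obtain ⟨x, hx⟩ := h.exists_q3 hK
  exact hx.cent hk (i_ne1 0) (hK.comm hL h hne (hx.mem _) hl).symm (hK.comm hL h hne (hx.mem _) hl).symm

/-! ### `R_z` and `X_z` -/

/-- `R_z` is the product of the members -/
theorem mem_RZ {K : Fin 4 → Subgroup G} (f : Fr Om z K) (h : W4 Om) {r : G} :
    r ∈ RZ Om z ↔ ∃ k : Fin 4 → G, (∀ i, k i ∈ K i) ∧ r = k 0 * k 1 * k 2 * k 3 := by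
  have hc : ∀ {i j : Fin 4} {a b : G}, i ≠ j → a ∈ K i → b ∈ K j → a * b = b * a := fun hij ha hb =>
    (f.mem _).comm (f.mem _) h (f.ne hij) ha hb
  constructor
  · intro hr
    -- the set of products is a subgroup
    let H : Subgroup G :=
      { carrier := {r | ∃ k : Fin 4 → G, (∀ i, k i ∈ K i) ∧ r = k 0 * k 1 * k 2 * k 3}
        mul_mem' := by
          rintro _ _ ⟨k, hk, rfl⟩ ⟨l, hl, rfl⟩
          refine ⟨fun i => k i * l i, fun i => mul_mem (hk i) (hl i), ?_⟩
          have c1 : k 3 * l 0 = l 0 * k 3 := hc (by decide) (hk 3) (hl 0)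
          have c2 : k 2 * l 0 = l 0 * k 2 := hc (by decide) (hk 2) (hl 0)
          have c3 : k 1 * l 0 = l 0 * k 1 := hc (by decide) (hk 1) (hl 0)
          have c4 : k 3 * l 1 = l 1 * k 3 := hc (by decide) (hk 3) (hl 1)
          have c5 : k 2 * l 1 = l 1 * k 2 := hc (by decide) (hk 2) (hl 1)
          have c6 : k 3 * l 2 = l 2 * k 3 := hc (by decide) (hk 3) (hl 2)
          calc k 0 * k 1 * k 2 * k 3 * (l 0 * l 1 * l 2 * l 3)
              = k 0 * k 1 * k 2 * (k 3 * l 0) * l 1 * l 2 * l 3 := by group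
            _ = k 0 * k 1 * (k 2 * l 0) * k 3 * l 1 * l 2 * l 3 := by rw [c1]; group
            _ = k 0 * (k 1 * l 0) * k 2 * k 3 * l 1 * l 2 * l 3 := by rw [c2]; group
            _ = k 0 * l 0 * k 1 * k 2 * (k 3 * l 1) * l 2 * l 3 := by rw [c3]; group
            _ = k 0 * l 0 * k 1 * (k 2 * l 1) * k 3 * l 2 * l 3 := by rw [c4]; group
            _ = k 0 * l 0 * k 1 * l 1 * k 2 * (k 3 * l 2) * l 3 := by rw [c5]; group
            _ = (k 0 * l 0) * (k 1 * l 1) * (k 2 * l 2) * (k 3 * l 3) := by rw [c6]; group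
        one_mem' := ⟨fun _ => 1, fun i => one_mem _, by simp⟩
        inv_mem' := by
          rintro _ ⟨k, hk, rfl⟩
          refine ⟨fun i => (k i)⁻¹, fun i => inv_mem (hk i), ?_⟩
          have c1 : (k 3)⁻¹ * (k 2)⁻¹ = (k 2)⁻¹ * (k 3)⁻¹ := hc (by decide) (inv_mem (hk 3)) (inv_mem (hk 2))
          have c2 : (k 3)⁻¹ * (k 1)⁻¹ = (k 1)⁻¹ * (k 3)⁻¹ := hc (by decide) (inv_mem (hk 3)) (inv_mem (hk 1))
          have c3 : (k 3)⁻¹ * (k 0)⁻¹ = (k 0)⁻¹ * (k 3)⁻¹ := hc (by decide) (inv_mem (hk 3)) (inv_mem (hk 0))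
          have c4 : (k 2)⁻¹ * (k 1)⁻¹ = (k 1)⁻¹ * (k 2)⁻¹ := hc (by decide) (inv_mem (hk 2)) (inv_mem (hk 1))
          have c5 : (k 2)⁻¹ * (k 0)⁻¹ = (k 0)⁻¹ * (k 2)⁻¹ := hc (by decide) (inv_mem (hk 2)) (inv_mem (hk 0))
          have c6 : (k 1)⁻¹ * (k 0)⁻¹ = (k 0)⁻¹ * (k 1)⁻¹ := hc (by decide) (inv_mem (hk 1)) (inv_mem (hk 0))
          calc (k 0 * k 1 * k 2 * k 3)⁻¹ = (k 3)⁻¹ * (k 2)⁻¹ * (k 1)⁻¹ * (k 0)⁻¹ := by group
            _ = (k 2)⁻¹ * ((k 3)⁻¹ * (k 1)⁻¹) * (k 0)⁻¹ := by rw [c1]; group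
            _ = (k 2)⁻¹ * (k 1)⁻¹ * ((k 3)⁻¹ * (k 0)⁻¹) := by rw [c2]; group
            _ = ((k 2)⁻¹ * (k 1)⁻¹) * (k 0)⁻¹ * (k 3)⁻¹ := by rw [c3]; group
            _ = (k 1)⁻¹ * ((k 2)⁻¹ * (k 0)⁻¹) * (k 3)⁻¹ := by rw [c4]; group
            _ = ((k 1)⁻¹ * (k 0)⁻¹) * (k 2)⁻¹ * (k 3)⁻¹ := by rw [c5]; group
            _ = (k 0)⁻¹ * (k 1)⁻¹ * (k 2)⁻¹ * (k 3)⁻¹ := by rw [c6] }
    have h1 : RZ Om z ≤ H := by
      refine RZ_le fun M hM x hx => ?_
      obtain ⟨i, rfl⟩ := f.cov M hM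
      refine ⟨fun j => if j = i then x else 1, fun j => ?_, ?_⟩
      · show (if j = i then x else 1) ∈ K j
        split_ifs with hj
        · rw [hj]; exact hx
        · exact one_mem _
      · (revert i; simp only [_root_.Fin.forall_fin_succ, Fin.isValue, _root_.mul_ite, _root_.ite_mul, _root_.one_mul, _root_.mul_one, Fin.reduceEq, ↓reduceIte, _root_.one_ne_zero, _root_.implies_true, _root_.Fin.succ_zero_eq_one, _root_.zero_ne_one, _root_.Fin.succ_one_eq_two, Fin.reduceSucc, _root_.IsEmpty.forall_iff, _root_.and_self])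
    exact h1 hr
  · rintro ⟨k, hk, rfl⟩
    have h1 : ∀ i, k i ∈ RZ Om z := fun i => (f.mem i).le_RZ (hk i)
    exact mul_mem (mul_mem (mul_mem (h1 0) (h1 1)) (h1 2)) (h1 3)

theorem z_mem_RZ (hz : InZ Om z) (h : W4 Om) : z ∈ RZ Om z := by
  obtain ⟨K, hK⟩ := hz; exact hK.le_RZ (hK.zmem h)

theorem z_mem_CX (h : W4 Om) : z ∈ CX Om z := by
  rw [mem_CX]
  intro K hK k hk
  exact (hK.comm_z h hk).symm

theorem CX_comm (hr : t ∈ RZ Om z) (hx : x ∈ CX Om z) : x * t = t * x := by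
  have h1 : RZ Om z ≤ centralizer {x} := by
    refine RZ_le fun K hK k hk => ?_
    rw [mem_centralizer_singleton_iff]
    exact (mem_CX.1 hx K hK k hk).symm
  exact (mem_centralizer_singleton_iff.1 (h1 hr)).symm

theorem CX_le (hz : InZ Om z) (h : W4 Om) (hx : x ∈ CX Om z) : x * z = z * x := by
  exact CX_comm (z_mem_RZ hz h) hx

theorem RZ_le_centralizer (h : W4 Om) (hx : x ∈ RZ Om z) : x * z = z * x := by
  have h1 : RZ Om z ≤ centralizer {z} := by
    refine RZ_le fun K hK k hk => ?_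
    rw [mem_centralizer_singleton_iff]
    exact hK.comm_z h hk
  exact mem_centralizer_singleton_iff.1 (h1 hx)

theorem CX_conj (h : W4 Om) (g : G) : g * x * g⁻¹ ∈ CX Om (g * z * g⁻¹) ↔ x ∈ CX Om z := by
  have key : ∀ (g x z : G), x ∈ CX Om z → g * x * g⁻¹ ∈ CX Om (g * z * g⁻¹) := by
    intro g x z hx
    rw [mem_CX] at hx ⊢
    intro K hK k hk
    have h1 := hK.cj h g⁻¹
    have h2 : g⁻¹ * (g * z * g⁻¹) * g⁻¹⁻¹ = z := by group
    rw [h2] at h1
    have h3 := hx _ h1 _ (conj_mem_cj (g := g⁻¹) hk)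
    calc g * x * g⁻¹ * k = g * (x * (g⁻¹ * k * g⁻¹⁻¹)) * g⁻¹ := by group
      _ = g * (g⁻¹ * k * g⁻¹⁻¹ * x) * g⁻¹ := by rw [h3]
      _ = _ := by group
  refine ⟨fun hx => ?_, key g x z⟩
  have := key g⁻¹ _ _ hx
  have h1 : g⁻¹ * (g * x * g⁻¹) * g⁻¹⁻¹ = x := by group
  have h2 : g⁻¹ * (g * z * g⁻¹) * g⁻¹⁻¹ = z := by group
  rwa [h1, h2] at this

theorem RZ_conj (h : W4 Om) (g : G) (hx : x ∈ RZ Om z) : g * x * g⁻¹ ∈ RZ Om (g * z * g⁻¹) := by
  have h1 : RZ Om z ≤ (RZ Om (g * z * g⁻¹)).comap (MulAut.conj g).toMonoidHom := by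
    refine RZ_le fun K hK k hk => ?_
    exact (hK.cj h g).le_RZ (conj_mem_cj hk)
  exact h1 hx

theorem RZ_conj_comm (h : W4 Om) (hg : g * z = z * g) (hx : x ∈ RZ Om z) : g * x * g⁻¹ ∈ RZ Om z := by
  have := RZ_conj h g hx
  rwa [hg, mul_inv_cancel_right] at this

/-! ### `Inn` -/

theorem Inn.comm_z (hi : Inn Om z g) (hz : InZ Om z) (h : W4 Om) : g * z = z * g := by
  obtain ⟨K, hK⟩ := hz
  rcases hi K hK z (hK.zmem h) with h1 | h1
  · rw [← mul_inv_eq_iff_eq_mul, h1]
  · rw [hK.inZ.z2 h, mul_inv_eq_one] at h1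
    exact absurd (mul_eq_left.1 h1) (hK.inZ.z1 h)

theorem Inn.one : Inn Om z (1 : G) := fun _ _ _ _ => Or.inl (by group)

theorem Inn.mul (hg : Inn Om z g) (hg' : Inn Om z g') (hz : InZ Om z) (h : W4 Om) : Inn Om z (g * g') := by
  intro K hK k hk
  have hgz := hg.comm_z hz h
  have h1 : g * g' * k * (g * g')⁻¹ = g * (g' * k * g'⁻¹) * g⁻¹ := by group
  have h2 : g * (z * k) * g⁻¹ = z * (g * k * g⁻¹) := by
    calc g * (z * k) * g⁻¹ = (g * z) * k * g⁻¹ := by group
      _ = (z * g) * k * g⁻¹ := by rw [hgz]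
      _ = _ := by group
  rw [h1]
  rcases hg' K hK k hk with h3 | h3
  · rw [h3]; exact hg K hK k hk
  · rw [h3, h2]
    rcases hg K hK k hk with h4 | h4
    · right; rw [h4]
    · left; rw [h4, ← mul_assoc, hz.z2 h, one_mul]

theorem Inn.inv (hg : Inn Om z g) (hz : InZ Om z) (h : W4 Om) : Inn Om z g⁻¹ := by
  intro K hK k hk
  have hgz := hg.comm_z hz h
  rcases hg K hK k hk with h1 | h1
  · left
    conv_lhs => rw [← h1]
    group
  · right
    have h2 : k = z * (g * k * g⁻¹) := by rw [h1, ← mul_assoc, hz.z2 h, one_mul]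
    calc g⁻¹ * k * g⁻¹⁻¹ = g⁻¹ * (z * (g * k * g⁻¹)) * g⁻¹⁻¹ := by rw [← h2]
      _ = g⁻¹ * (z * g) * k := by group
      _ = g⁻¹ * (g * z) * k := by rw [hgz]
      _ = _ := by group

theorem Inn.mul_left (hg : Inn Om z g) (hgg : Inn Om z (g * g')) (hz : InZ Om z) (h : W4 Om) : Inn Om z g' := by
  have := (hg.inv hz h).mul hgg hz h
  rwa [inv_mul_cancel_left] at this

theorem Inn.mul_right (hg : Inn Om z g') (hgg : Inn Om z (g * g')) (hz : InZ Om z) (h : W4 Om) : Inn Om z g := by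
  have := hgg.mul (hg.inv hz h) hz h
  rwa [mul_inv_cancel_right] at this

theorem Inn.of_CX (hx : x ∈ CX Om z) : Inn Om z x := by
  intro K hK k hk
  left
  rw [mem_CX.1 hx K hK k hk, mul_inv_cancel_right]

theorem Inn.of_mem (hL : Mem Om z L) (h : W4 Om) (hg : g ∈ L) : Inn Om z g := by
  intro K hK k hk
  by_cases hne : K = L
  · subst hne
    obtain ⟨x, hx⟩ := h.exists_q3 hK
    have hz : z ∈ K := hK.zmem h
    rcases hx.cov g hg with rfl | rfl | ⟨i, hi⟩
    · left; group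
    · left; rw [← hK.comm_z h hk, mul_inv_cancel_right]
    · have h1 : g * k * g⁻¹ = x i * k * (x i)⁻¹ := by
        rcases hi with rfl | rfl
        · rfl
        · have h2 : (z * x i * k * (z * x i)⁻¹) = z * (x i * k * (x i)⁻¹) * z⁻¹ := by group
          rw [h2, ← hK.comm_z h (mul_mem (mul_mem (hx.mem i) hk) (inv_mem (hx.mem i))), mul_inv_cancel_right]
      rw [h1]
      rcases hx.cov k hk with rfl | rfl | ⟨j, hj⟩
      · left; group
      · left; rw [← hx.zc, mul_inv_cancel_right]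
      · have h3 : x i * x j * (x i)⁻¹ = x j ∨ x i * x j * (x i)⁻¹ = z * x j := by
          by_cases hij : i = j
          · subst hij; left; exact Q3.conj_self i
          · right; exact hx.conj_ne hij
        rcases hj with rfl | rfl
        · exact h3
        · have h4 : x i * (z * x j) * (x i)⁻¹ = z * (x i * x j * (x i)⁻¹) := by
            calc x i * (z * x j) * (x i)⁻¹ = (x i * z) * x j * (x i)⁻¹ := by group
              _ = (z * x i) * x j * (x i)⁻¹ := by rw [hx.zc]
              _ = _ := by group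
          rw [h4]
          rcases h3 with h3 | h3
          · left; rw [h3]
          · right; rw [h3]
  · left
    rw [← hK.comm hL h hne hk hg, mul_inv_cancel_right]

theorem Inn.of_RZ (hz : InZ Om z) (h : W4 Om) (hr : g ∈ RZ Om z) : Inn Om z g := by
  obtain ⟨K, f⟩ := hz.exists_fr h
  obtain ⟨k, hk, rfl⟩ := (mem_RZ f h).1 hr
  exact (((Inn.of_mem (f.mem 0) h (hk 0)).mul (Inn.of_mem (f.mem 1) h (hk 1)) hz h).mul
    (Inn.of_mem (f.mem 2) h (hk 2)) hz h).mul (Inn.of_mem (f.mem 3) h (hk 3)) hz h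

theorem Inn.conj (hi : Inn Om z x) (h : W4 Om) (g : G) : Inn Om (g * z * g⁻¹) (g * x * g⁻¹) := by
  intro K hK k hk
  have h1 := hK.cj h g⁻¹
  have h2 : g⁻¹ * (g * z * g⁻¹) * g⁻¹⁻¹ = z := by group
  rw [h2] at h1
  have h3 : g * x * g⁻¹ * k * (g * x * g⁻¹)⁻¹ = g * (x * (g⁻¹ * k * g⁻¹⁻¹) * x⁻¹) * g⁻¹ := by group
  rcases hi _ h1 _ (conj_mem_cj (g := g⁻¹) hk) with h4 | h4
  · left; rw [h3, h4]; group
  · right; rw [h3, h4]; group

theorem Inn.conj_comm (hi : Inn Om z x) (h : W4 Om) (hg : g * z = z * g) : Inn Om z (g * x * g⁻¹) := by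
  have := hi.conj h g
  rwa [hg, mul_inv_cancel_right] at this

theorem Inn.cj_eq (hi : Inn Om z g) (hK : Mem Om z K) (h : W4 Om) : Cit.cj g K = K := by
  have key : ∀ g, Inn Om z g → Cit.cj g K ≤ K := by
    rintro g hi _ ⟨k, hk, rfl⟩
    rcases hi K hK k hk with h1 | h1
    · show g * k * g⁻¹ ∈ K
      rw [h1]; exact hk
    · show g * k * g⁻¹ ∈ K
      rw [h1]; exact mul_mem (hK.zmem h) hk
  refine le_antisymm (key g hi) ?_
  have h1 := key g⁻¹ (hi.inv hK.inZ h)
  have h2 := cj_mono g h1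
  rwa [cj_cj_inv] at h2

/-! ### The trichotomy -/

/-- `t ∈ Z` centralising a member over `z` is `z` -/
theorem InZ.eq_of_cent (ht : InZ Om t) (hK : Mem Om z K) (h : W4 Om) (hc : ∀ k ∈ K, t * k = k * t) : t = z := by
  obtain ⟨L, hL⟩ := ht
  by_cases hKL : K = L
  · rw [← hKL] at hL; rw [← hK.2]; exact hL.2.symm
  · have h1 := h.hyp.comm_of_zz_comm hK.1 hL.1 (h.isPGroup hK.1) (h.isPGroup hL.1)
      (fun k hk => by rw [hL.2]; exact (hc k hk).symm) hKL
    rw [← hK.2, ← hL.2]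
    exact (h.one K hK.1 L hL.1 h1).symm

/-- (H3) -/
theorem W4.h3 (h : W4 Om) (hK : Mem Om z K) (hL : Mem Om t L) (hy : y ∈ K) (hs : y * y = z)
    (hyt : y * t = t * y) : cj y L = L := by
  rw [← mem_normalizer_iff_cj]
  refine h.hyp.h3 K hK.1 L hL.1 y hy ?_ ?_ (by rw [hL.2]; exact hyt)
  · exact (h.isPGroup hK.1).to_le (by rwa [zpowers_le])
  · have h1 : orderOf y = 4 := by
      have h2 := orderOf_eq_prime_pow (p := 2) (n := 1) (x := y)
        (by rw [pow_one, pow_two, hs]; exact hK.inZ.z1 h)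
        (by
          have : y ^ 2 ^ (1 + 1) = (y * y) * (y * y) := by
            show y ^ 4 = _
            simp only [pow_succ, pow_zero, one_mul, mul_assoc]
          rw [this, hs, hK.inZ.z2 h])
      simpa using h2
    omega

/-- `t` inner on one member over `z`: `z` is inner on the members over `t` -/
theorem W4.inn_of_one (h : W4 Om) (hK : Mem Om z K) (ht : InZ Om t) (hne : t ≠ z)
    (hi : ∀ k ∈ K, t * k * t⁻¹ = k ∨ t * k * t⁻¹ = z * k) : Inn Om t z := by
  obtain ⟨x, hx⟩ := h.exists_q3 hK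
  rcases hx.inner_cases hi with h1 | ⟨j, h1⟩
  · exact absurd (ht.eq_of_cent hK h fun k hk => by
      have := h1 k hk; rwa [mul_inv_eq_iff_eq_mul] at this) hne
  have hyt : x j * t = t * x j := by
    have := h1 (x j) (hx.mem j)
    rw [Q3.conj_self, mul_inv_eq_iff_eq_mul] at this
    exact this.symm
  have hzt : z * t = t * z := by
    rw [← hx.sq j, mul_assoc, hyt, ← mul_assoc, hyt, mul_assoc]
  intro L hL
  obtain ⟨l, hl⟩ := h.exists_q3 hL
  have h2 := h.h3 hK hL (hx.mem j) (hx.sq j) hyt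
  obtain ⟨σ, hσ⟩ := hl.exists_act hl h2 hyt
  have h3 : Act t l l z (σ * σ) := by
    have := hσ.comp hl.z2 hσ hyt
    rwa [hx.sq] at this
  -- `z` does not centralise `L`
  have h4 : ¬ ∀ k ∈ L, z * k = k * z := fun h5 => hne (hK.inZ.eq_of_cent hL h h5).symm
  have h5 : Act t l l (z * z) (σ * σ * (σ * σ)) := h3.comp hl.z2 h3 hzt
  rw [hx.z2] at h5
  have h6 := h5.unique hl (Act.one l t)
  have h7 : ∀ σ : Equiv.Perm (Fin 3), σ * σ * (σ * σ) = 1 → σ * σ = 1 := by decide +kernel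
  have h8 := h7 σ h6
  rw [h8] at h3
  exact h3.inner hl hzt

/-- **trichotomy**: `t` inner on one member over `z` implies type I -/
theorem W4.inn_both (h : W4 Om) (hK : Mem Om z K) (ht : InZ Om t) (hne : t ≠ z)
    (hi : ∀ k ∈ K, t * k * t⁻¹ = k ∨ t * k * t⁻¹ = z * k) : Inn Om z t ∧ Inn Om t z := by
  have h1 := h.inn_of_one hK ht hne hi
  obtain ⟨L, hL⟩ := ht
  exact ⟨h.inn_of_one hL hK.inZ hne.symm (h1 L hL), h1⟩

theorem Inn.symm (hi : Inn Om z t) (hz : InZ Om z) (ht : InZ Om t) (h : W4 Om) : Inn Om t z := by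
  by_cases hne : t = z
  · subst hne; exact Inn.of_CX (z_mem_CX h)
  obtain ⟨K, hK⟩ := hz
  exact h.inn_of_one hK ht hne (hi K hK)

/-- `(z, t)` is a pair of type I -/
def TI (Om : Set (Subgroup G)) (z t : G) : Prop :=
  InZ Om z ∧ InZ Om t ∧ z ≠ t ∧ z * t = t * z ∧ Inn Om z t

theorem TI.inZ (h : TI Om z t) : InZ Om z := h.1
theorem TI.inT (h : TI Om z t) : InZ Om t := h.2.1
theorem TI.ne (h : TI Om z t) : z ≠ t := h.2.2.1
theorem TI.comm (h : TI Om z t) : z * t = t * z := h.2.2.2.1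
theorem TI.inn (h : TI Om z t) : Inn Om z t := h.2.2.2.2

theorem TI.symm (hti : TI Om z t) (h : W4 Om) : TI Om t z :=
  ⟨hti.inT, hti.inZ, hti.ne.symm, hti.comm.symm, hti.inn.symm hti.inZ hti.inT h⟩

theorem TI.conj (hti : TI Om z t) (h : W4 Om) (g : G) : TI Om (g * z * g⁻¹) (g * t * g⁻¹) := by
  refine ⟨hti.inZ.conj h g, hti.inT.conj h g, fun h1 => hti.ne (mul_left_cancel (mul_right_cancel h1)), ?_,
    hti.inn.conj h g⟩
  calc g * z * g⁻¹ * (g * t * g⁻¹) = g * (z * t) * g⁻¹ := by group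
    _ = g * (t * z) * g⁻¹ := by rw [hti.comm]
    _ = _ := by group

/-- `t ∈ Z`, inner on one member over `z`, is of type I -/
theorem TI.of_one (h : W4 Om) (hK : Mem Om z K) (ht : InZ Om t) (hne : z ≠ t)
    (hi : ∀ k ∈ K, t * k * t⁻¹ = k ∨ t * k * t⁻¹ = z * k) : TI Om z t := by
  have h1 := h.inn_both hK ht hne.symm hi
  exact ⟨hK.inZ, ht, hne, (h1.1.comm_z hK.inZ h).symm, h1.1⟩

/-- `t ∈ Z ∩ R_z`, `t ≠ z` is of type I -/
theorem TI.of_mem_RZ (h : W4 Om) (hz : InZ Om z) (ht : InZ Om t) (hne : z ≠ t) (hr : t ∈ RZ Om z) : TI Om z t :=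
  ⟨hz, ht, hne, (RZ_le_centralizer h hr).symm, Inn.of_RZ hz h hr⟩

end Fin

end Cfsg.Agent.Cit.Nil.RFour
end

-- part: Cit/Nil/RFour/TypeI
section
/-!
# `r = 4`, `m = 1`: type I pairs (section 1 of `blueprints/CIT-6b-r4m1-helper449.md`)

* `As K t y` : `y ∈ K` and `t` acts on `K` as `y`;
* `TI.exists_as` : a type I neighbour `t` of `z` acts on `K` (over `z`) as some `y` with `y² = z`;
* `TI.exists_q` : coordinates of `K` with `y = a 0`;
* `TI.rot` : the quarter turn: `y ∈ K` acts on `L` (over `t`) as an automorphism of order 4 about `x`;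
* `TI.conj_z`, `TI.conj_y`, `TI.mul_right`, `TI.mul_left`;
* `TI.hh` : (H);
* `TI.mem_RZ` : `t ∈ R_z`;
* `RZ_center`, `eq_or_of_as`;
* `TI.xx_mem`, `TI.xx_not_cent` : (1.5).
-/

set_option autoImplicit false
set_option linter.style.haveILetI false
set_option linter.unusedSectionVars false

namespace Cfsg.Agent.Cit.Nil.RFour

open Subgroup Cfsg Cfsg.Agent.Cit

open RTwo (Q3 Act i11 i12 i21 i22 i_ne1 i_ne2 i_ne12 i_cases i_cases3)

variable {G : Type*} [Group G]

/-- `t` acts on `K` as `y ∈ K` -/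
def As (K : Subgroup G) (t y : G) : Prop := y ∈ K ∧ ∀ k ∈ K, t * k * t⁻¹ = y * k * y⁻¹

namespace As

variable {K L : Subgroup G} {s t y x g : G}

theorem self (hy : y ∈ K) : As K y y := ⟨hy, fun _ _ => rfl⟩

theorem one_iff : As K t 1 ↔ ∀ k ∈ K, t * k = k * t := by
  constructor
  · intro h k hk
    have := h.2 k hk
    rw [one_mul, inv_one, mul_one, mul_inv_eq_iff_eq_mul] at this
    exact this
  · intro h
    refine ⟨one_mem _, fun k hk => ?_⟩
    rw [h k hk, mul_inv_cancel_right, one_mul, inv_one, mul_one]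

theorem mul (h : As K s x) (h' : As K t y) : As K (s * t) (x * y) := by
  refine ⟨mul_mem h.1 h'.1, fun k hk => ?_⟩
  have h1 : t * k * t⁻¹ ∈ K := by
    rw [h'.2 k hk]; exact mul_mem (mul_mem h'.1 hk) (inv_mem h'.1)
  calc s * t * k * (s * t)⁻¹ = s * (t * k * t⁻¹) * s⁻¹ := by group
    _ = x * (t * k * t⁻¹) * x⁻¹ := h.2 _ h1
    _ = x * (y * k * y⁻¹) * x⁻¹ := by rw [h'.2 k hk]
    _ = _ := by group

theorem inv (h : As K t y) : As K t⁻¹ y⁻¹ := by
  refine ⟨inv_mem h.1, fun k hk => ?_⟩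
  have h1 : y⁻¹ * k * y ∈ K := mul_mem (mul_mem (inv_mem h.1) hk) h.1
  have h2 := h.2 _ h1
  have h3 : y * (y⁻¹ * k * y) * y⁻¹ = k := by group
  rw [h3] at h2
  calc t⁻¹ * k * t⁻¹⁻¹ = t⁻¹ * (t * (y⁻¹ * k * y) * t⁻¹) * t⁻¹⁻¹ := by rw [h2]
    _ = _ := by group

theorem conj (h : As K t y) (g : G) : As (cj g K) (g * t * g⁻¹) (g * y * g⁻¹) := by
  refine ⟨conj_mem_cj h.1, fun k hk => ?_⟩
  rw [mem_cj] at hk
  have h1 := h.2 _ hk
  calc g * t * g⁻¹ * k * (g * t * g⁻¹)⁻¹ = g * (t * (g⁻¹ * k * g) * t⁻¹) * g⁻¹ := by group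
    _ = g * (y * (g⁻¹ * k * g) * y⁻¹) * g⁻¹ := by rw [h1]
    _ = _ := by group

theorem conj_comm (h : As K t y) (hg : g * t = t * g) : As (cj g K) t (g * y * g⁻¹) := by
  have := h.conj g
  rwa [hg, mul_inv_cancel_right] at this

/-- `t` acts as `y`, so it commutes with `y` -/
theorem comm (h : As K t y) : t * y = y * t := by
  have h1 := h.2 y h.1
  rw [mul_inv_cancel_right, mul_inv_eq_iff_eq_mul] at h1
  exact h1

theorem cj_eq (h : As K t y) : Cit.cj t K = K := by
  refine le_antisymm ?_ ?_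
  · rintro _ ⟨k, hk, rfl⟩
    change t * k * t⁻¹ ∈ K
    rw [h.2 k hk]
    exact mul_mem (mul_mem h.1 hk) (inv_mem h.1)
  · intro k hk
    rw [mem_cj]
    have h1 := h.inv.2 k hk
    rw [inv_inv] at h1
    rw [h1]
    exact mul_mem (mul_mem (inv_mem h.1) hk) (inv_mem (inv_mem h.1))

end As

section

variable [Finite G] {Om : Set (Subgroup G)} {K K' L L' M : Subgroup G} {z t g n x x' y y' u s : G} {a b c d : Fin 3 → G}

theorem Mem.as_z (hK : Mem Om z K) (h : W4 Om) : As K z 1 :=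
  As.one_iff.2 fun _ hk => (hK.comm_z h hk).symm

theorem Mem.as_one (hK : Mem Om z K) (hL : Mem Om z L) (h : W4 Om) (hne : K ≠ L) (hx : x ∈ L) : As K x 1 :=
  As.one_iff.2 fun _ hk => (hK.comm hL h hne hk hx).symm

theorem Mem.as_center (hK : Mem Om z K) (h : W4 Om) (h1 : As K t y) (h2 : As K t 1) : y = 1 ∨ y = z := by
  obtain ⟨a, qa⟩ := h.exists_q3 hK
  have h3 : ∀ k ∈ K, y * k = k * y := by
    intro k hk
    have := h1.2 k hk
    rw [As.one_iff.1 h2 k hk, mul_inv_cancel_right, eq_mul_inv_iff_mul_eq] at this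
    exact this.symm
  exact qa.center h1.1 (h3 _ (qa.mem 0)) (h3 _ (qa.mem 1))

theorem Mem.as_unique (hK : Mem Om z K) (h : W4 Om) (h1 : As K t y) (h2 : As K t y') : y' = y ∨ y' = z * y := by
  have h3 := h2.mul h1.inv
  rw [mul_inv_cancel] at h3
  have h4 : As K (1 : G) 1 := As.self (one_mem _)
  rcases hK.as_center h h3 h4 with h5 | h5
  · left; exact mul_inv_eq_one.1 h5
  · right; rw [mul_inv_eq_iff_eq_mul] at h5; exact h5

/-- `y² = z` excludes the trivial action -/
theorem Mem.not_as_one (hK : Mem Om z K) (h : W4 Om) (h1 : As K t y) (hy : y * y = z) : ¬ As K t 1 := by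
  intro h2
  have hz1 := hK.inZ.z1 h
  rcases hK.as_center h h1 h2 with h3 | h3
  · rw [h3, one_mul] at hy; exact hz1 hy.symm
  · rw [h3, hK.inZ.z2 h] at hy; exact hz1 hy.symm

theorem Mem.sq_cases (hK : Mem Om z K) (h : W4 Om) (hx : x ∈ K) : x = 1 ∨ x = z ∨ x * x = z := by
  obtain ⟨a, qa⟩ := h.exists_q3 hK
  rcases qa.cov x hx with h1 | h1 | ⟨i, h1⟩
  · exact Or.inl h1
  · exact Or.inr (Or.inl h1)
  · right; right
    rcases h1 with rfl | rfl
    · exact qa.sq i
    · calc z * a i * (z * a i) = z * (a i * z) * a i := by group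
        _ = z * (z * a i) * a i := by rw [qa.zc]
        _ = z := by rw [qa.zzx, qa.sq]

theorem Mem.inv_eq (hK : Mem Om z K) (h : W4 Om) (hx : x ∈ K) (hxx : x * x = z) : x⁻¹ = z * x := by
  apply inv_eq_of_mul_eq_one_right
  rw [← mul_assoc, hK.comm_z h hx, mul_assoc, hxx, hK.inZ.z2 h]

theorem TI.exists_as (hti : TI Om z t) (h : W4 Om) (hK : Mem Om z K) : ∃ y, As K t y ∧ y * y = z := by
  obtain ⟨a, qa⟩ := h.exists_q3 hK
  rcases qa.inner_cases (hti.inn K hK) with h1 | ⟨j, h1⟩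
  · exfalso
    exact hti.ne.symm (hti.inT.eq_of_cent hK h fun k hk => by
      have := h1 k hk
      rwa [mul_inv_eq_iff_eq_mul] at this)
  · exact ⟨a j, ⟨qa.mem j, h1⟩, qa.sq j⟩

/-- the action of a type I neighbour is nontrivial -/
theorem TI.sq_of_as (hti : TI Om z t) (h : W4 Om) (hK : Mem Om z K) (hy : As K t y) : y * y = z := by
  obtain ⟨y', h1, h2⟩ := hti.exists_as h hK
  rcases hK.as_unique h h1 hy with rfl | rfl
  · exact h2
  · calc z * y' * (z * y') = z * (y' * z) * y' := by group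
      _ = z * (z * y') * y' := by rw [hK.comm_z h h1.1]
      _ = (z * z) * (y' * y') := by group
      _ = z := by rw [hK.inZ.z2 h, h2, one_mul]

/-- coordinates of `K` starting with a given element -/
theorem Mem.exists_q (hK : Mem Om z K) (h : W4 Om) (hy : y ∈ K) (hyy : y * y = z) :
    ∃ a, Q3 K z a ∧ a 0 = y := by
  obtain ⟨a, qa⟩ := h.exists_q3 hK
  obtain ⟨i, hi⟩ := qa.of_sq hy hyy
  have h1 := qa.rot i
  have h2 : a (0 + i) = a i := by rw [zero_add]
  rcases hi with hi | hi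
  · exact ⟨_, h1, by rw [hi]; exact h2⟩
  · refine ⟨_, h1.flip, ?_⟩
    simp only [Fin.isValue, zero_ne_one, if_false]
    rw [hi, h2]

/-- coordinates starting with two given elements -/
theorem Mem.exists_q2 (hK : Mem Om z K) (h : W4 Om) (hy : y ∈ K) (hyy : y * y = z) (hu : u ∈ K) (huu : u * u = z)
    (hne : y * u ≠ u * y) : ∃ a, Q3 K z a ∧ a 0 = y ∧ a 1 = u := by
  obtain ⟨a, qa⟩ := h.exists_q3 hK
  exact ⟨_, qa.of_pair hy hu hyy huu hne, rfl, rfl⟩

/-- an element of `K` commuting with `y` -/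
theorem Mem.of_comm (hK : Mem Om z K) (h : W4 Om) (hy : y ∈ K) (hyy : y * y = z) (hu : u ∈ K)
    (hc : y * u = u * y) : u = 1 ∨ u = z ∨ u = y ∨ u = z * y := by
  obtain ⟨a, qa, rfl⟩ := hK.exists_q h hy hyy
  rcases qa.cov u hu with h1 | h1 | ⟨i, h1⟩
  · exact Or.inl h1
  · exact Or.inr (Or.inl h1)
  by_cases hi : i = 0
  · subst hi; exact Or.inr (Or.inr h1)
  exfalso
  have h2 := qa.anti (Ne.symm hi)
  rcases h1 with rfl | rfl
  · rw [hc, mul_assoc] at h2
    exact qa.zne _ h2.symm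
  · have h3 : a 0 * (z * a i) = z * (a 0 * a i) := by
      rw [← mul_assoc, ← qa.zc, mul_assoc]
    rw [h3, mul_assoc z (a i)] at hc
    have h4 := mul_left_cancel hc
    rw [h4, mul_assoc] at h2
    exact qa.zne _ h2.symm

/-- an element of order 4 not commuting with `y` inverts it -/
theorem Mem.anti (hK : Mem Om z K) (h : W4 Om) (hy : y ∈ K) (hyy : y * y = z) (hu : u ∈ K) (huu : u * u = z)
    (hne : y * u ≠ u * y) : u * y * u⁻¹ = z * y := by
  obtain ⟨a, qa, rfl, rfl⟩ := hK.exists_q2 h hy hyy hu huu hne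
  exact qa.conj_ne (by decide)

theorem Mem.comm_or (hK : Mem Om z K) (h : W4 Om) (hy : y ∈ K) (hu : u ∈ K) : u * y * u⁻¹ = y ∨ u * y * u⁻¹ = z * y := by
  rcases hK.sq_cases h hy with h1 | h1 | h1
  · left; rw [h1]; group
  · left; rw [h1, hK.comm_z h hu, mul_inv_cancel_right]
  rcases hK.sq_cases h hu with h2 | h2 | h2
  · left; rw [h2]; group
  · left; rw [h2, ← hK.comm_z h hy, mul_inv_cancel_right]
  by_cases hc : y * u = u * y
  · left; rw [← hc, mul_inv_cancel_right]
  · right; exact hK.anti h hy h1 hu h2 hc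

/-! ### The quarter turn -/

/-- `y ∈ K` (the action of `t`) acts on `L` as a quarter turn about `x` (the action of `z`) -/
theorem TI.rot (hti : TI Om z t) (h : W4 Om) (hK : Mem Om z K) (hL : Mem Om t L) (hy : As K t y) (hx : As L z x) :
    cj y L = L ∧ y * x = x * y ∧ ∀ u ∈ L, u * u = t → x * u ≠ u * x →
      y * u * y⁻¹ = x * u ∨ y * u * y⁻¹ = t * (x * u) := by
  have hyy := hti.sq_of_as h hK hy
  have hxx := (hti.symm h).sq_of_as h hL hx
  have h1 := h.h3 hK hL hy.1 hyy hy.comm.symm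
  obtain ⟨c, qc, hc0⟩ := hL.exists_q h hx.1 hxx
  have key : ∀ c : Fin 3 → G, Q3 L t c → c 0 = x → y * c 0 * y⁻¹ = c 0 ∧ (y * c 1 * y⁻¹ = c 2 ∨ y * c 1 * y⁻¹ = t * c 2) := by
    intro c qc hc0
    refine qc.quarter (fun k hk => ?_) fun k hk => ?_
    · have := conj_mem_cj (g := y) hk
      rwa [h1] at this
    · rw [hc0, ← hx.2 k hk]
      have : y * (y * k * y⁻¹) * y⁻¹ = (y * y) * k * (y * y)⁻¹ := by group
      rw [this, hyy]
  refine ⟨h1, ?_, fun u hu huu hxu => ?_⟩
  · have h2 := (key c qc hc0).1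
    rw [hc0, mul_inv_eq_iff_eq_mul] at h2
    exact h2
  · obtain ⟨c, qc, hc0, hc1⟩ := hL.exists_q2 h hx.1 hxx hu huu hxu
    have h2 := (key c qc hc0).2
    have h3 : c 2 = x * u := by
      have := qc.mul 0
      rw [hc0] at this
      simp only [zero_add] at this
      rw [hc1] at this
      exact this.symm
    rw [hc1, h3] at h2
    exact h2

theorem TI.yx (hti : TI Om z t) (h : W4 Om) (hK : Mem Om z K) (hL : Mem Om t L) (hy : As K t y) (hx : As L z x) :
    y * x = x * y := (hti.rot h hK hL hy hx).2.1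

/-- an element of `L` not commuting with `x` -/
theorem Mem.exists_nc (hL : Mem Om t L) (h : W4 Om) (hx : x ∈ L) (hxx : x * x = t) :
    ∃ u ∈ L, u * u = t ∧ x * u ≠ u * x := by
  obtain ⟨c, qc, rfl⟩ := hL.exists_q h hx hxx
  refine ⟨c 1, qc.mem 1, qc.sq 1, fun h1 => ?_⟩
  have h2 := qc.anti (i_ne1 0)
  simp only [zero_add] at h2
  rw [h1, mul_assoc] at h2
  exact qc.zne _ h2.symm

/-- `u z u⁻¹ = z t` -/
theorem As.conj_z (hL : Mem Om t L) (h : W4 Om) (hx : As L z x) (hxx : x * x = t) (hu : u ∈ L)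
    (huu : u * u = t) (hxu : x * u ≠ u * x) : u * z * u⁻¹ = z * t := by
  have h1 := hx.2 u hu
  have h2 : x * u * x⁻¹ = t * u := hL.anti h hu huu hx.1 hxx (fun h3 => hxu h3.symm)
  rw [h2, mul_inv_eq_iff_eq_mul] at h1
  -- `z u = t u z`
  have h3 : t * u = u * t := (hL.comm_z h hu).symm
  have htt := hL.inZ.z2 h
  have h4 : u * z = z * t * u := by
    calc u * z = (t * t) * u * z := by rw [htt, one_mul]
      _ = t * (t * u * z) := by group
      _ = t * (z * u) := by rw [h1]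
      _ = t * (z * u) := rfl
      _ = (t * z) * u := by group
      _ = z * t * u := by
        have h5 : t * z = z * t := by
          -- `z` commutes with `t = u²`
          have h6 : z * (u * u) = (u * u) * z := by
            calc z * (u * u) = (z * u) * u := by group
              _ = t * u * z * u := by rw [h1]
              _ = t * u * (z * u) := by group
              _ = t * u * (t * u * z) := by rw [h1]
              _ = t * (u * t) * u * z := by group
              _ = t * (t * u) * u * z := by rw [h3]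
              _ = (t * t) * (u * u) * z := by group
              _ = (u * u) * z := by rw [htt, one_mul]
          rw [huu] at h6
          exact h6.symm
        rw [h5]
  rw [h4, mul_inv_cancel_right]

theorem TI.conj_z (hti : TI Om z t) (h : W4 Om) (hL : Mem Om t L) (hx : As L z x) (hu : u ∈ L)
    (huu : u * u = t) (hxu : x * u ≠ u * x) : u * z * u⁻¹ = z * t :=
  As.conj_z hL h hx ((hti.symm h).sq_of_as h hL hx) hu huu hxu

/-- `u y u⁻¹ = x^{±1} y` -/
theorem TI.conj_y (hti : TI Om z t) (h : W4 Om) (hK : Mem Om z K) (hL : Mem Om t L) (hy : As K t y) (hx : As L z x)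
    (hu : u ∈ L) (huu : u * u = t) (hxu : x * u ≠ u * x) :
    u * y * u⁻¹ = x * y ∨ u * y * u⁻¹ = t * (x * y) := by
  obtain ⟨-, h1, h2⟩ := hti.rot h hK hL hy hx
  have hxx := (hti.symm h).sq_of_as h hL hx
  have ht : t * u = u * t := (hL.comm_z h hu).symm
  have htx : t * x = x * t := (hL.comm_z h hx.1).symm
  have htt := hL.inZ.z2 h
  have h3 : x * u * x⁻¹ = t * u := hL.anti h hu huu hx.1 hxx (fun h3 => hxu h3.symm)
  have h4 : x * u = t * u * x := by rwa [mul_inv_eq_iff_eq_mul] at h3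
  have h5 : t * (t * (x * y)) = x * y := by rw [← mul_assoc, htt, one_mul]
  have hxu' : u * x = t * (x * u) := by
    rw [h4]
    calc u * x = (t * t) * u * x := by rw [htt, one_mul]
      _ = _ := by group
  rcases h2 u hu huu hxu with h6 | h6
  · -- `y u = x u y`
    right
    rw [mul_inv_eq_iff_eq_mul] at h6 ⊢
    calc u * y = (t * t) * (u * y) := by rw [htt, one_mul]
      _ = t * (t * (x * x)⁻¹) * (x * x) * (u * y) := by group
      _ = t * (t * t⁻¹) * (x * x) * (u * y) := by rw [hxx]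
      _ = t * x * (x * u * y) := by group
      _ = t * x * (y * u) := by rw [h6]
      _ = t * (x * y) * u := by group
  · left
    rw [mul_inv_eq_iff_eq_mul] at h6 ⊢
    calc u * y = (t * t) * (u * y) := by rw [htt, one_mul]
      _ = (x * x) * t * (u * y) := by rw [hxx]
      _ = x * (x * t) * (u * y) := by group
      _ = x * (t * x) * (u * y) := by rw [htx]
      _ = x * (t * (x * u) * y) := by group
      _ = x * (y * u) := by rw [h6]
      _ = x * y * u := by group

/-! ### The third involution -/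

theorem TI.mul_right (hti : TI Om z t) (h : W4 Om) : TI Om z (z * t) := by
  obtain ⟨K, hK⟩ := hti.inZ
  obtain ⟨y, hy, hyy⟩ := hti.exists_as h hK
  obtain ⟨v, hv, hvv, hyv⟩ := hK.exists_nc h hy.1 hyy
  have h1 := (hti.symm h).conj_z h hK hy hv hvv hyv
  have h2 := hti.conj h v
  rw [h1, hK.comm_z h hv, mul_inv_cancel_right, ← hti.comm] at h2
  exact h2

theorem TI.mul_left (hti : TI Om z t) (h : W4 Om) : TI Om t (z * t) := by
  have := (hti.symm h).mul_right h
  rwa [← hti.comm] at this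

theorem TI.inZ_mul (hti : TI Om z t) (h : W4 Om) : InZ Om (z * t) := (hti.mul_right h).inT

/-! ### (H) -/

/-- `V = {1, z, t, zt}` -/
def VV (z t v : G) : Prop := v = 1 ∨ v = z ∨ v = t ∨ v = z * t

theorem VV.one : VV z t 1 := Or.inl rfl

/-- elements of `V` are trivial on all members over `z`, or act as `t` on all members -/
theorem VV.act {v : G} (hv : VV z t v) (hti : TI Om z t) (h : W4 Om) :
    (∀ K, Mem Om z K → As K v 1) ∨ (∀ K, Mem Om z K → ∀ y, As K t y → As K v y) := by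
  rcases hv with rfl | rfl | rfl | rfl
  · exact Or.inl fun K _ => As.self (one_mem _)
  · exact Or.inl fun K hK => hK.as_z h
  · exact Or.inr fun K _ y hy => hy
  · refine Or.inr fun K hK y hy => ?_
    have := (hK.as_z h).mul hy
    rwa [one_mul] at this

/-- **(H)** -/
theorem TI.hh (hti : TI Om z t) (h : W4 Om) (hK : Mem Om z K) (hL : Mem Om t L) (hL' : Mem Om t L') (hne : L ≠ L')
    (hy : As K t y) (hx : As L z x) (hx' : As L' z x') :
    ∃ K' y' v, Mem Om z K' ∧ K ≠ K' ∧ As K' t y' ∧ VV z t v ∧ x * x' = v * (y * y') := by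
  have hyy := hti.sq_of_as h hK hy
  have hxx := (hti.symm h).sq_of_as h hL hx
  have hxx' := (hti.symm h).sq_of_as h hL' hx'
  have htt := hL.inZ.z2 h
  have hzz := hK.inZ.z2 h
  obtain ⟨u, hu, huu, hxu⟩ := hL.exists_nc h hx.1 hxx
  obtain ⟨u', hu', huu', hxu'⟩ := hL'.exists_nc h hx'.1 hxx'
  have e1 := hti.conj_z h hL hx hu huu hxu
  have e2 := hti.conj_z h hL' hx' hu' huu' hxu'
  have f1 := hti.conj_y h hK hL hy hx hu huu hxu
  have f2 := hti.conj_y h hK hL' hy hx' hu' huu' hxu'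
  obtain ⟨g, hg⟩ : ∃ g, g = u'⁻¹ * u := ⟨_, rfl⟩
  have hut : u * t = t * u := hL.comm_z h hu
  have hut' : u' * t = t * u' := hL'.comm_z h hu'
  have hgt : g * t = t * g := by
    rw [hg, mul_assoc, hut, ← mul_assoc, ← mul_assoc]
    congr 1
    rw [inv_mul_eq_iff_eq_mul, ← mul_assoc, hut', mul_inv_cancel_right]
  have hgz : g * z = z * g := by
    have e3 : u'⁻¹ * (z * t) * u' = z := by rw [← e2]; group
    rw [hg]
    calc u'⁻¹ * u * z = u'⁻¹ * (u * z * u⁻¹) * u := by group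
      _ = u'⁻¹ * (z * t) * u := by rw [e1]
      _ = (u'⁻¹ * (z * t) * u') * (u'⁻¹ * u) := by group
      _ = _ := by rw [e3]
  have hK' : Mem Om z (cj g K) := hK.cj_comm h hgz
  have hy' : As (cj g K) t (g * y * g⁻¹) := hy.conj_comm hgt
  have hxc : x * x' = x' * x := hL.comm hL' h hne hx.1 hx'.1
  have hux' : u * x' = x' * u := hL.comm hL' h hne hu hx'.1
  have hxu'c : x * u' = u' * x := hL.comm hL' h hne hx.1 hu'
  have htx : t * x = x * t := (hL.comm_z h hx.1).symm
  have htx' : t * x' = x' * t := (hL'.comm_z h hx'.1).symm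
  -- `g y g⁻¹ = t^δ x x' y`
  have h1 : g * y * g⁻¹ = x * x' * y ∨ g * y * g⁻¹ = t * (x * x' * y) := by
    have h3 : x' * u' * x'⁻¹ = t * u' := hL'.anti h hu' huu' hx'.1 hxx' (fun h3 => hxu' h3.symm)
    have h4 : u'⁻¹ * x' * u' = t * x' := by
      have h5 : u' * x' * u'⁻¹ = t * x' := hL'.anti h hx'.1 hxx' hu' huu' hxu'
      have h6 : u'⁻¹ * (u' * x' * u'⁻¹) * u' = x' := by group
      rw [h5] at h6
      have h7 : u'⁻¹ * (t * x') * u' = t * (u'⁻¹ * x' * u') := by
        have h8 : u'⁻¹ * t = t * u'⁻¹ := by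
          rw [inv_mul_eq_iff_eq_mul, ← mul_assoc, hut', mul_inv_cancel_right]
        calc u'⁻¹ * (t * x') * u' = (u'⁻¹ * t) * x' * u' := by group
          _ = (t * u'⁻¹) * x' * u' := by rw [h8]
          _ = _ := by group
      rw [h7] at h6
      calc u'⁻¹ * x' * u' = (t * t) * (u'⁻¹ * x' * u') := by rw [htt, one_mul]
        _ = t * (t * (u'⁻¹ * x' * u')) := by group
        _ = t * x' := by rw [h6]
    have h8 : u'⁻¹ * t * u' = t := by
      rw [mul_assoc, ← hut', inv_mul_cancel_left]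
    have h9 : u'⁻¹ * x * u' = x := by
      rw [mul_assoc, hxu'c, inv_mul_cancel_left]
    -- `u'⁻¹ y u'`
    have h10 : u'⁻¹ * y * u' = x' * y ∨ u'⁻¹ * y * u' = t * (x' * y) := by
      have h11 : ∀ w : G, t * (t * w) = w := fun w => by rw [← mul_assoc, htt, one_mul]
      have h12 : x'⁻¹ = t * x' := hL'.inv_eq h hx'.1 hxx'
      rcases f2 with f2 | f2
      · -- `u' y u'⁻¹ = x' y`
        left
        have h13 : y = (u'⁻¹ * x' * u') * (u'⁻¹ * y * u') := by
          calc y = u'⁻¹ * (u' * y * u'⁻¹) * u' := by group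
            _ = u'⁻¹ * (x' * y) * u' := by rw [f2]
            _ = _ := by group
        rw [h4] at h13
        have h14 : u'⁻¹ * y * u' = (t * x')⁻¹ * y := by
          rw [eq_inv_mul_iff_mul_eq]; exact h13.symm
        rw [h14, ← h12, inv_inv]
      · right
        have h13 : y = (u'⁻¹ * t * u') * (u'⁻¹ * x' * u') * (u'⁻¹ * y * u') := by
          calc y = u'⁻¹ * (u' * y * u'⁻¹) * u' := by group
            _ = u'⁻¹ * (t * (x' * y)) * u' := by rw [f2]
            _ = _ := by group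
        rw [h4, h8, h11] at h13
        have h14 : u'⁻¹ * y * u' = x'⁻¹ * y := by
          rw [eq_inv_mul_iff_mul_eq]; exact h13.symm
        rw [h14, h12, mul_assoc]
    have h15 : g * y * g⁻¹ = u'⁻¹ * (u * y * u⁻¹) * u' := by rw [hg]; group
    have h16 : ∀ w, w = x * y ∨ w = t * (x * y) → u'⁻¹ * w * u' = x * (u'⁻¹ * y * u') ∨
        u'⁻¹ * w * u' = t * (x * (u'⁻¹ * y * u')) := by
      rintro w (rfl | rfl)
      · left
        calc u'⁻¹ * (x * y) * u' = (u'⁻¹ * x * u') * (u'⁻¹ * y * u') := by group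
          _ = _ := by rw [h9]
      · right
        calc u'⁻¹ * (t * (x * y)) * u' = (u'⁻¹ * t * u') * ((u'⁻¹ * x * u') * (u'⁻¹ * y * u')) := by group
          _ = _ := by rw [h8, h9]
    have h11 : ∀ w : G, t * (t * w) = w := fun w => by rw [← mul_assoc, htt, one_mul]
    have h17 : x * (t * (x' * y)) = t * (x * x' * y) := by
      calc x * (t * (x' * y)) = (x * t) * x' * y := by group
        _ = (t * x) * x' * y := by rw [htx]
        _ = _ := by group
    rw [h15]
    rcases h16 _ f1 with h18 | h18 <;> rcases h10 with h19 | h19 <;> rw [h18, h19]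
    · left; group
    · right; exact h17
    · right; group
    · left; rw [h17, h11]
  -- `K' ≠ K`
  have hyx : x * x' * y = y * (x * x') := by
    have a1 := hti.yx h hK hL hy hx
    have a2 := hti.yx h hK hL' hy hx'
    calc x * x' * y = x * (x' * y) := by group
      _ = x * (y * x') := by rw [a2]
      _ = (x * y) * x' := by group
      _ = (y * x) * x' := by rw [a1]
      _ = _ := by group
  have hKK' : K ≠ cj g K := by
    intro he
    have hy'' : As K t (g * y * g⁻¹) := by rw [he]; exact hy'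
    have h2 : VV z t (x * x') := by
      -- `x x' y ∈ V y`
      have h3 : ∀ w, x * x' * y = w * y → x * x' = w := fun w hw => mul_right_cancel hw
      have h11 : ∀ w : G, t * (t * w) = w := fun w => by rw [← mul_assoc, htt, one_mul]
      rcases hK.as_unique h hy hy'' with h4 | h4 <;> rcases h1 with h1 | h1
      · left; apply h3; rw [one_mul, ← h1, h4]
      · right; right; left; apply h3
        rw [h4] at h1
        rw [← h11 (x * x' * y), ← h1]
      · right; left; apply h3; rw [← h1, h4]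
      · right; right; right; apply h3
        rw [h4] at h1
        rw [← h11 (x * x' * y), ← h1, ← mul_assoc, hti.comm]
    -- act on the members over `t`
    obtain ⟨L'', hL'', hn1, hn2⟩ := hL.third hL' h
    have h3 : As L (x * x') x := by
      have := (As.self hx.1).mul (hL.as_one hL' h hne hx'.1)
      rwa [mul_one] at this
    have h4 : As L'' (x * x') 1 := by
      have := (hL''.as_one hL h hn1 hx.1).mul (hL''.as_one hL' h hn2 hx'.1)
      rwa [mul_one] at this
    have h2' : VV t z (x * x') := by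
      rcases h2 with h2 | h2 | h2 | h2
      · exact Or.inl h2
      · exact Or.inr (Or.inr (Or.inl h2))
      · exact Or.inr (Or.inl h2)
      · exact Or.inr (Or.inr (Or.inr (by rw [h2, hti.comm])))
    rcases h2'.act (hti.symm h) h with h5 | h5
    · exact hL.not_as_one h h3 hxx (h5 L hL)
    · obtain ⟨x'', hx'', hxx''⟩ := (hti.symm h).exists_as h hL''
      exact hL''.not_as_one h (h5 L'' hL'' x'' hx'') hxx'' h4
  refine ⟨cj g K, g * y * g⁻¹, ?_⟩
  -- `x x' = t^δ (g y g⁻¹) y⁻¹`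
  have hyi : y⁻¹ = z * y := hK.inv_eq h hy.1 hyy
  have hyy' : y * (g * y * g⁻¹) = g * y * g⁻¹ * y := hK.comm hK' h hKK' hy.1 hy'.1
  have hzy' : z * (g * y * g⁻¹) = (g * y * g⁻¹) * z := (hK'.comm_z h hy'.1).symm
  have h11 : ∀ w : G, t * (t * w) = w := fun w => by rw [← mul_assoc, htt, one_mul]
  rcases h1 with h1 | h1
  · refine ⟨z, hK', hKK', hy', Or.inr (Or.inl rfl), ?_⟩
    have h2 : x * x' = g * y * g⁻¹ * y⁻¹ := by rw [h1, mul_inv_cancel_right]
    rw [h2, hyi, hyy', ← mul_assoc, ← hzy', mul_assoc]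
  · refine ⟨z * t, hK', hKK', hy', Or.inr (Or.inr (Or.inr rfl)), ?_⟩
    have h2 : x * x' = t * (g * y * g⁻¹ * y⁻¹) := by
      rw [h1]
      calc x * x' = t * (t * (x * x')) := (h11 _).symm
        _ = _ := by group
    rw [h2, hyi, hyy']
    calc t * (g * y * g⁻¹ * (z * y)) = t * ((g * y * g⁻¹ * z) * y) := by group
      _ = t * ((z * (g * y * g⁻¹)) * y) := by rw [hzy']
      _ = (t * z) * (g * y * g⁻¹ * y) := by group
      _ = _ := by rw [hti.comm]

/-! ### `R_z` -/

/-- the components of an element of `R_z` -/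
theorem Fr.as_prod {F : Fin 4 → Subgroup G} (f : Fr Om z F) (h : W4 Om) {k : Fin 4 → G} (hk : ∀ i, k i ∈ F i)
    (i : Fin 4) : As (F i) (k 0 * k 1 * k 2 * k 3) (k i) := by
  have key : ∀ i j : Fin 4, As (F i) (k j) (if j = i then k i else 1) := by
    intro i j
    split_ifs with hij
    · subst hij; exact As.self (hk j)
    · exact (f.mem i).as_one (f.mem j) h (f.ne (Ne.symm hij)) (hk j)
  have h1 := (((key i 0).mul (key i 1)).mul (key i 2)).mul (key i 3)
  fin_cases i <;> simpa using h1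

/-- an element of `R_z` which centralises all members is `1` or `z` -/
theorem RZ_center (h : W4 Om) (hz : InZ Om z) (hr : g ∈ RZ Om z) (hc : ∀ K, Mem Om z K → As K g 1) :
    g = 1 ∨ g = z := by
  obtain ⟨F, f⟩ := hz.exists_fr h
  obtain ⟨k, hk, rfl⟩ := (mem_RZ f h).1 hr
  have h1 : ∀ i, k i = 1 ∨ k i = z := fun i => (f.mem i).as_center h (f.as_prod h hk i) (hc _ (f.mem i))
  have hzz := hz.z2 h
  rcases h1 0 with h2 | h2 <;> rcases h1 1 with h3 | h3 <;> rcases h1 2 with h4 | h4 <;> rcases h1 3 with h5 | h5 <;>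
    rw [h2, h3, h4, h5] <;> simp [hzz]

/-- two elements of `R_z` with the same action on all members -/
theorem eq_or_of_as (h : W4 Om) (hz : InZ Om z) (hg : g ∈ RZ Om z) (hn : n ∈ RZ Om z)
    (hc : ∀ K, Mem Om z K → ∃ y, As K g y ∧ As K n y) : n = g ∨ n = z * g := by
  have h1 : n * g⁻¹ ∈ RZ Om z := mul_mem hn (inv_mem hg)
  rcases RZ_center h hz h1 fun K hK => by
    obtain ⟨y, h2, h3⟩ := hc K hK
    have := h3.mul h2.inv
    rwa [mul_inv_cancel] at this with h2 | h2
  · left; exact mul_inv_eq_one.1 h2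
  · right; rw [mul_inv_eq_iff_eq_mul] at h2; exact h2

theorem exists_as_of_inn (h : W4 Om) (hK : Mem Om z K) (hi : Inn Om z g) : ∃ y, As K g y := by
  obtain ⟨a, qa⟩ := h.exists_q3 hK
  rcases qa.inner_cases (hi K hK) with h1 | ⟨j, h1⟩
  · exact ⟨1, one_mem _, fun k hk => by rw [h1 k hk]; group⟩
  · exact ⟨a j, qa.mem j, h1⟩

theorem exists_as_of_mem (h : W4 Om) (hK : Mem Om z K) (hg : g ∈ RZ Om z) : ∃ y, As K g y :=
  exists_as_of_inn h hK (Inn.of_RZ hK.inZ h hg)

theorem VV.mem_of {v : G} (hv : VV z t v) (hz : InZ Om z) (h : W4 Om) (ht : t ∈ RZ Om z) : v ∈ RZ Om z := by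
  rcases hv with rfl | rfl | rfl | rfl
  · exact one_mem _
  · exact z_mem_RZ hz h
  · exact ht
  · exact mul_mem (z_mem_RZ hz h) ht

theorem VV.mul {v w : G} (hzz : z * z = 1) (htt : t * t = 1) (hzt : z * t = t * z) (hv : VV z t v) (hw : VV z t w) :
    VV z t (v * w) := by
  have e1 : ∀ g : G, z * (z * g) = g := fun g => by rw [← mul_assoc, hzz, one_mul]
  have e2 : ∀ g : G, t * (t * g) = g := fun g => by rw [← mul_assoc, htt, one_mul]
  have e3 : ∀ g : G, t * (z * g) = z * (t * g) := fun g => by rw [← mul_assoc, ← hzt, mul_assoc]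
  rcases hv with rfl | rfl | rfl | rfl <;> rcases hw with rfl | rfl | rfl | rfl <;>
    simp only [VV, one_mul, mul_one, mul_assoc, hzz, htt, e1, e3, ← hzt, true_or, or_true]

/-- **(1.4)** a type I neighbour of `z` lies in `R_z` -/
theorem TI.mem_RZ (hti : TI Om z t) (h : W4 Om) : t ∈ RZ Om z := by
  obtain ⟨L, hL⟩ := hti.inT
  obtain ⟨L', hL', hne⟩ := hL.other h
  obtain ⟨K, hK⟩ := hti.inZ
  obtain ⟨x, hx, hxx⟩ := (hti.symm h).exists_as h hL
  obtain ⟨x', hx', hxx'⟩ := (hti.symm h).exists_as h hL'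
  obtain ⟨y0, hy0, hyy0⟩ := hti.exists_as h hK
  obtain ⟨K', y1, v, hK', hKK', hy1, hv, e1⟩ := hti.hh h hK hL hL' hne hy0 hx hx'
  obtain ⟨F, f, rfl, rfl⟩ := hK.exists_fr2 hK' h hKK'
  obtain ⟨y2, hy2, hyy2⟩ := hti.exists_as h (f.mem 2)
  obtain ⟨y3, hy3, hyy3⟩ := hti.exists_as h (f.mem 3)
  have hyy1 := hti.sq_of_as h (f.mem 1) hy1
  obtain ⟨K'', w, v', hK'', hne2, hw, hv', e2⟩ := hti.hh h (f.mem 2) hL hL' hne hy2 hx hx'
  obtain ⟨j, rfl⟩ := f.cov K'' hK''
  have hzz := hK.inZ.z2 h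
  have htt := hL.inZ.z2 h
  have hzt := hti.comm
  have hz1 := hK.inZ.z1 h
  -- actions
  have as1 : ∀ {i j : Fin 4} {x : G}, i ≠ j → x ∈ F j → As (F i) x 1 := fun hij hx =>
    (f.mem _).as_one (f.mem _) h (f.ne hij) hx
  have e : v * (y0 * y1) = v' * (y2 * w) := e1.symm.trans e2
  have hj : j = 3 := by
    have hj2 : j ≠ 2 := fun hh => hne2 (by rw [hh])
    -- `j = i ∈ {0, 1}`
    have key : ∀ i i' : Fin 4, i ≠ i' → i ≠ 2 → i' ≠ 2 → i ≠ 3 → i' ≠ 3 → ∀ p q : G, As (F i) t p → As (F i') t q →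
        v * (p * q) = v' * (y2 * w) → j = i → False := by
      intro i i' hii hi2 hi2' hi3 hi3' p q hp hq he hji
      subst hji
      have hqq := hti.sq_of_as h (f.mem i') hq
      have a1 : As (F i') (v⁻¹ * v' * (y2 * w)) q := by
        have h1 : v⁻¹ * v' * (y2 * w) = p * q := by rw [mul_assoc, ← he, inv_mul_cancel_left]
        rw [h1]
        have := (as1 (Ne.symm hii) hp.1).mul (As.self hq.1)
        rwa [one_mul] at this
      have a2 : As (F i') (y2 * w) 1 := by
        have := (as1 hi2' hy2.1).mul (as1 (Ne.symm hii) hw.1)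
        rwa [one_mul] at this
      have a3 : As (F i') (v⁻¹ * v') q := by
        have := a1.mul a2.inv
        rwa [mul_inv_cancel_right, inv_one, mul_one] at this
      have a4 : As (F 3) (v⁻¹ * v') 1 := by
        have h1 : v⁻¹ * v' = p * q * (y2 * w)⁻¹ := by
          rw [eq_mul_inv_iff_mul_eq, mul_assoc, ← he, inv_mul_cancel_left]
        rw [h1]
        have := ((as1 (Ne.symm hi3) hp.1).mul (as1 (Ne.symm hi3') hq.1)).mul
          ((as1 (show (3 : Fin 4) ≠ 2 by decide) hy2.1).mul (as1 (Ne.symm hi3) hw.1)).inv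
        simpa using this
      have hvi : v⁻¹ = v := by
        rcases hv with rfl | rfl | rfl | rfl
        · simp
        · exact inv_eq_of_mul_eq_one_right hzz
        · exact inv_eq_of_mul_eq_one_right htt
        · apply inv_eq_of_mul_eq_one_right
          calc z * t * (z * t) = z * (t * z) * t := by group
            _ = (z * z) * (t * t) := by rw [← hzt]; group
            _ = 1 := by rw [hzz, htt, one_mul]
      have h5 : VV z t (v⁻¹ * v') := by rw [hvi]; exact hv.mul hzz htt hzt hv'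
      rcases h5.act hti h with h6 | h6
      · exact (f.mem i').not_as_one h a3 hqq (h6 _ (f.mem i'))
      · exact (f.mem 3).not_as_one h (h6 _ (f.mem 3) _ hy3) hyy3 a4
    by_contra hj3
    have h01 : j = 0 ∨ j = 1 := by
      have hf : ∀ j : Fin 4, j ≠ 2 → j ≠ 3 → j = 0 ∨ j = 1 := by decide
      exact hf j hj2 hj3
    rcases h01 with h0 | h0
    · exact key 0 1 (by decide) (by decide) (by decide) (by decide) (by decide) y0 y1 hy0 hy1 e h0
    · refine key 1 0 (by decide) (by decide) (by decide) (by decide) (by decide) y1 y0 hy1 hy0 ?_ h0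
      rw [← e, (f.mem 1).comm (f.mem 0) h (f.ne (by decide)) hy1.1 hy0.1]
  subst hj
  -- `w0 = y0 y1 y2 w ∈ V`
  have hww := hti.sq_of_as h (f.mem 3) hw
  have hRZ : ∀ {i : Fin 4} {x : G}, x ∈ F i → x ∈ RZ Om z := fun hx => (f.mem _).le_RZ hx
  have hvi : v⁻¹ = v := by
    rcases hv with rfl | rfl | rfl | rfl
    · simp
    · exact inv_eq_of_mul_eq_one_right hzz
    · exact inv_eq_of_mul_eq_one_right htt
    · apply inv_eq_of_mul_eq_one_right
      calc z * t * (z * t) = z * (t * z) * t := by group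
        _ = (z * z) * (t * t) := by rw [← hzt]; group
        _ = 1 := by rw [hzz, htt, one_mul]
  have h5 : VV z t (v⁻¹ * v') := by rw [hvi]; exact hv.mul hzz htt hzt hv'
  have h6 : v⁻¹ * v' = y0 * y1 * (y2 * w)⁻¹ := by
    rw [eq_mul_inv_iff_mul_eq, mul_assoc, ← e, inv_mul_cancel_left]
  have h7 : v⁻¹ * v' ∈ RZ Om z := by
    rw [h6]; exact mul_mem (mul_mem (hRZ hy0.1) (hRZ hy1.1)) (inv_mem (mul_mem (hRZ hy2.1) (hRZ hw.1)))
  have h8 : As (F 0) (v⁻¹ * v') y0 := by
    rw [h6]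
    have := ((As.self hy0.1).mul (as1 (show (0 : Fin 4) ≠ 1 by decide) hy1.1)).mul
      ((as1 (show (0 : Fin 4) ≠ 2 by decide) hy2.1).mul (as1 (show (0 : Fin 4) ≠ 3 by decide) hw.1)).inv
    simpa using this
  have h9 := (f.mem 0).not_as_one h h8 hyy0
  rcases h5 with h10 | h10 | h10 | h10
  · rw [h10] at h9; exact absurd (As.self (one_mem _)) h9
  · rw [h10] at h9; exact absurd ((f.mem 0).as_z h) h9
  · rwa [h10] at h7
  · rw [h10] at h7
    have h11 : t = z * (z * t) := by rw [← mul_assoc, hzz, one_mul]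
    rw [h11]
    exact mul_mem (z_mem_RZ hK.inZ h) h7

/-- **(1.5)** `x x' ∈ R_z` -/
theorem TI.xx_mem (hti : TI Om z t) (h : W4 Om) (hL : Mem Om t L) (hL' : Mem Om t L') (hne : L ≠ L')
    (hx : As L z x) (hx' : As L' z x') : x * x' ∈ RZ Om z := by
  obtain ⟨K, hK⟩ := hti.inZ
  obtain ⟨y, hy, -⟩ := hti.exists_as h hK
  obtain ⟨K', y', v, hK', -, hy', hv, e1⟩ := hti.hh h hK hL hL' hne hy hx hx'
  rw [e1]
  exact mul_mem (hv.mem_of hK.inZ h (hti.mem_RZ h)) (mul_mem (hK.le_RZ hy.1) (hK'.le_RZ hy'.1))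

/-- `x x'` is `v y y'` with `K` prescribed, two other members on which it acts like `v` -/
theorem TI.xx_not_cent (hti : TI Om z t) (h : W4 Om) (hL : Mem Om t L) (hL' : Mem Om t L') (hne : L ≠ L')
    (hx : As L z x) (hx' : As L' z x') : ¬ ∀ K, Mem Om z K → As K (x * x') 1 := by
  intro hc
  obtain ⟨K, hK⟩ := hti.inZ
  obtain ⟨y, hy, hyy⟩ := hti.exists_as h hK
  obtain ⟨K', y', v, hK', hKK', hy', hv, e1⟩ := hti.hh h hK hL hL' hne hy hx hx'
  obtain ⟨M, hM, hn1, hn2⟩ := hK.third hK' h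
  rw [e1] at hc
  have a1 : As K (y * y') y := by
    have := (As.self hy.1).mul (hK.as_one hK' h hKK' hy'.1)
    rwa [mul_one] at this
  have a2 : As M (y * y') 1 := by
    have := (hM.as_one hK h hn1 hy.1).mul (hM.as_one hK' h hn2 hy'.1)
    rwa [mul_one] at this
  rcases hv.act hti h with h5 | h5
  · have := (h5 K hK).mul a1
    rw [one_mul] at this
    exact hK.not_as_one h this hyy (hc K hK)
  · obtain ⟨m, hm, hmm⟩ := hti.exists_as h hM
    have := (h5 M hM m hm).mul a2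
    rw [mul_one] at this
    exact hM.not_as_one h this hmm (hc M hM)

end

end Cfsg.Agent.Cit.Nil.RFour
end

private theorem dce_7e40b619123a : _root_.True := by
  try have : _root_.True := by simp only [_root_.Cfsg.Agent.Cit.Nil.RFour.VV.eq_1]
  try have : _root_.True := by simp only [_root_.Cfsg.Agent.Cit.Nil.RFour.CX.eq_1]
  exact _root_.True.intro
end

-- part: Cit/Nil/RFour/OTwo
section
prune_inst 0x400000
set_option linter.all false
open scoped Cfsg.Agent.FastGrp

/-!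
# `r = 4`, `m = 1`: `O₂(C_X(z)) = R_z` ((7.1) of `blueprints/CIT-6b-r4m1-helper449.md`)

* `CT Om z` : (C3) for the members over `z`;
* `inn_of_two` : a 2-group `P` normalised by `C(z)`, `p ∈ P` with `K^p = K` is inner on `K`;
* `mem_RZ_of_inn` : `g ∈ X` inner on all members lies in `R_z` (if `X_z ∩ X = ⟨z⟩`);
* `axis` : `P` respects the axes of the type I neighbours of `z`;
* `exists_fixed` : two type I neighbours which do not commute: `P` fixes a member over `z`;
* `le_RZ` : `P ≤ R_z`.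
-/

set_option autoImplicit false
set_option linter.style.haveILetI false
set_option linter.unusedSectionVars false

namespace Cfsg.Agent.Cit.Nil.RFour

open Subgroup Cfsg Cfsg.Agent.Cit

open RTwo (Q3 Act i11 i12 i21 i22 i_ne1 i_ne2 i_ne12 i_cases i_cases3)

variable {G : Type*} [Group G]

/-- (C3) for the members over `z` -/
def CT (Om : Set (Subgroup G)) (z : G) : Prop :=
  ∀ K, Mem Om z K → ∀ y ∈ K, y * y = z → ∃ g, cj g K = K ∧ g * y * g⁻¹ ≠ y ∧ g * y * g⁻¹ ≠ z * y

/-- a 2-group `P ≤ C(z)` normalised by `C(z)` -/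
structure PZ (z : G) (P : Subgroup G) : Prop where
  two : IsPGroup 2 ↥P
  comm : ∀ p ∈ P, p * z = z * p
  conj : ∀ g, g * z = z * g → ∀ p ∈ P, g * p * g⁻¹ ∈ P

section

variable [Finite G] {Om : Set (Subgroup G)} {K K' L L' M P X : Subgroup G} {z t t' g n x x' y y' u s p : G}

/-- powers -/
theorem act_pow {x : Fin 3 → G} {σ : Equiv.Perm (Fin 3)} (hz : z * z = 1) (hp : p * z = z * p)
    (h : Act z x x p σ) (n : ℕ) : Act z x x (p ^ n) (σ ^ n) := by
  induction n with
  | zero => rw [pow_zero, pow_zero]; exact Act.one x z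
  | succ n ih =>
    rw [pow_succ', pow_succ']
    exact ih.comp hz h hp

theorem perm3_sq (σ : Equiv.Perm (Fin 3)) : σ * σ = 1 ∨ σ * σ * σ = 1 := by
  revert σ; decide

theorem act_sq {x : Fin 3 → G} {σ : Equiv.Perm (Fin 3)} (hx : Q3 K z x) (hP : PZ z P) (hp : p ∈ P)
    (h : Act z x x p σ) : σ * σ = 1 := by
  rcases perm3_sq σ with h1 | h1
  · exact h1
  obtain ⟨n, hn⟩ := hP.two ⟨p, hp⟩
  have hn' : p ^ 2 ^ n = 1 := by
    have := congrArg Subtype.val hn
    simpa using this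
  have h2 := act_pow hx.z2 (hP.comm p hp) h (2 ^ n)
  rw [hn'] at h2
  have h3 : σ ^ 2 ^ n = 1 := h2.unique hx (Act.one x z)
  have h4 : orderOf σ ∣ 2 ^ n := orderOf_dvd_of_pow_eq_one h3
  have h5 : orderOf σ ∣ 3 := orderOf_dvd_of_pow_eq_one (by
    rw [pow_succ, pow_two]; exact h1)
  have h6 : Nat.Coprime 3 (2 ^ n) := Nat.Coprime.pow_right n (by norm_num)
  have h7 : orderOf σ = 1 := Nat.eq_one_of_dvd_coprimes h6 h5 h4
  rw [orderOf_eq_one_iff.1 h7, one_mul]

set_option maxRecDepth 8000 in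
theorem perm3_tr (σ : Equiv.Perm (Fin 3)) (h : σ * σ = 1) (h1 : σ ≠ 1) :
    ∃ i, ∀ τ : Equiv.Perm (Fin 3), τ i ≠ i →
      σ * (τ * σ * τ⁻¹) * (σ * (τ * σ * τ⁻¹)) ≠ 1 := by
  revert σ; decide

/-- `p ∈ P` with `K^p = K` is inner on `K` -/
theorem inn_of_two (h : W4 Om) (hc3 : CT Om z) (hP : PZ z P) (hK : Mem Om z K) (hp : p ∈ P) (hpK : cj p K = K) :
    ∀ k ∈ K, p * k * p⁻¹ = k ∨ p * k * p⁻¹ = z * k := by
  obtain ⟨x, hx⟩ := h.exists_q3 hK
  have hpz := hP.comm p hp
  obtain ⟨σ, hσ⟩ := hx.exists_act hx hpK hpz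
  have h1 := act_sq hx hP hp hσ
  by_cases h2 : σ = 1
  · subst h2
    exact hσ.inner hx hpz
  exfalso
  obtain ⟨i, hi⟩ := perm3_tr σ h1 h2
  obtain ⟨g, hgK, hg1, hg2⟩ := hc3 K hK (x i) (hx.mem i) (hx.sq i)
  have hgz : g * z = z * g := hK.of_cj h hgK
  obtain ⟨τ, hτ⟩ := hx.exists_act hx hgK hgz
  have hτi : τ i ≠ i := by
    intro h3
    rcases hτ i with h4 | h4
    · rw [h3] at h4; exact hg1 h4
    · rw [h3] at h4; exact hg2 h4
  have hgi : g⁻¹ * z = z * g⁻¹ := by
    rw [inv_mul_eq_iff_eq_mul, ← mul_assoc, hgz, mul_inv_cancel_right]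
  have hgiK : cj g⁻¹ K = K := by
    conv_lhs => rw [← hgK]
    exact cj_inv_cj g K
  obtain ⟨ρ, hρ⟩ := hx.exists_act hx hgiK hgi
  have hρτ : ρ = τ⁻¹ := by
    have h3 : Act z x x (g * g⁻¹) (τ * ρ) := hρ.comp hx.z2 hτ hgz
    rw [mul_inv_cancel] at h3
    have h4 : τ * ρ = 1 := h3.unique hx (Act.one x z)
    exact eq_inv_of_mul_eq_one_right h4
  subst hρτ
  have a1 : Act z x x (p * g⁻¹) (σ * τ⁻¹) := hρ.comp hx.z2 hσ hpz
  have a2 : Act z x x (g * (p * g⁻¹)) (τ * (σ * τ⁻¹)) := a1.comp hx.z2 hτ hgz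
  have a3 : Act z x x (p * (g * (p * g⁻¹))) (σ * (τ * (σ * τ⁻¹))) := a2.comp hx.z2 hσ hpz
  have hm : p * (g * (p * g⁻¹)) ∈ P := by
    have : g * p * g⁻¹ ∈ P := hP.conj g hgz p hp
    have e : g * (p * g⁻¹) = g * p * g⁻¹ := by group
    rw [e]
    exact mul_mem hp this
  have h5 := act_sq hx hP hm a3
  apply hi τ hτi
  rw [mul_assoc τ σ τ⁻¹]
  exact h5

/-- `g ∈ X`, inner on all members over `z` -/
theorem mem_RZ_of_inn (h : W4 Om) (hz : InZ Om z) (hXR : RZ Om z ≤ X)
    (hX : ∀ n ∈ X, n ∈ CX Om z → n = 1 ∨ n = z) (hg : g ∈ X) (hi : Inn Om z g) : g ∈ RZ Om z := by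
  obtain ⟨F, f⟩ := hz.exists_fr h
  have h1 : ∀ i, ∃ y, As (F i) g y := fun i => exists_as_of_inn h (f.mem i) hi
  choose y hy using h1
  have hr : y 0 * y 1 * y 2 * y 3 ∈ RZ Om z := (mem_RZ f h).2 ⟨y, fun i => (hy i).1, rfl⟩
  have hn : g * (y 0 * y 1 * y 2 * y 3)⁻¹ ∈ CX Om z := by
    rw [mem_CX]
    intro K hK
    obtain ⟨i, rfl⟩ := f.cov K hK
    have h2 := (hy i).mul (f.as_prod h (fun i => (hy i).1) i).inv
    rw [mul_inv_cancel] at h2
    exact As.one_iff.1 h2
  rcases hX _ (mul_mem hg (inv_mem (hXR hr))) hn with h3 | h3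
  · rw [mul_inv_eq_one.1 h3]; exact hr
  · rw [mul_inv_eq_iff_eq_mul.1 h3]
    exact mul_mem (z_mem_RZ hz h) hr

/-- elements of `K` whose axis is fixed by the quarter turn commute with `y` -/
theorem TI.comm_of_rot (hti : TI Om z t) (h : W4 Om) (hK : Mem Om z K) (hL : Mem Om t L) (hy : As K t y)
    (hx : As L z x) (hu : u ∈ K) (huu : u * u = z) (hxu : x * u * x⁻¹ = u ∨ x * u * x⁻¹ = z * u) :
    y * u = u * y := by
  by_contra hne
  have h1 := ((hti.symm h).rot h hL hK hx hy).2.2 u hu huu hne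
  have hyy := hti.sq_of_as h hK hy
  have hz2 := hK.inZ.z2 h
  have hz1 := hK.inZ.z1 h
  have key : ∀ w : G, w * w = 1 → w = y → False := by
    rintro w hw rfl
    rw [hyy] at hw
    exact hz1 hw
  have hzy : z * y * (z * y) = z := by
    calc z * y * (z * y) = z * (y * z) * y := by group
      _ = z * (z * y) * y := by rw [hK.comm_z h hy.1]
      _ = (z * z) * (y * y) := by group
      _ = z := by rw [hz2, hyy, one_mul]
  rcases hxu with h2 | h2 <;> rcases h1 with h3 | h3 <;> rw [h2] at h3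
  · exact key 1 (one_mul 1) (mul_eq_right.1 h3.symm).symm
  · rw [← mul_assoc] at h3
    have h4 : z * y = 1 := mul_eq_right.1 h3.symm
    rw [h4, one_mul] at hzy
    exact hz1 hzy.symm
  · exact key z hz2 (mul_right_cancel h3)
  · have h4 : u = y * u := mul_left_cancel h3
    exact key 1 (one_mul 1) (mul_eq_right.1 h4.symm).symm

/-- `P` respects the axes of the type I neighbours of `z` -/
theorem axis (h : W4 Om) (hc3 : CT Om z) (hP : PZ z P) (hti : TI Om z t) (hK : Mem Om z K) (hp : p ∈ P)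
    (hy : As K t y) (hy' : As (cj p K) t y') : p * y * p⁻¹ = y' ∨ p * y * p⁻¹ = z * y' := by
  have hpz := hP.comm p hp
  have hz2 := hK.inZ.z2 h
  have hz1 := hK.inZ.z1 h
  have hK' : Mem Om z (cj p K) := hK.cj_comm h hpz
  obtain ⟨L, hL⟩ := hti.inT
  obtain ⟨x, hx, hxx⟩ := (hti.symm h).exists_as h hL
  have hxz : x * z = z * x := hx.comm.symm
  -- `x` fixes all members over `z`
  have hxK : ∀ M, Mem Om z M → cj x M = M := fun M hM => h.h3 hL hM hx.1 hxx hxz
  obtain ⟨r, hr⟩ : ∃ r, r = p * x * p⁻¹ * x⁻¹ := ⟨_, rfl⟩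
  have hrP : r ∈ P := by
    have h1 : x * p⁻¹ * x⁻¹ ∈ P := hP.conj x hxz _ (inv_mem hp)
    have e : r = p * (x * p⁻¹ * x⁻¹) := by rw [hr]; group
    rw [e]
    exact mul_mem hp h1
  have hpi : p⁻¹ * z = z * p⁻¹ := hP.comm _ (inv_mem hp)
  have hrK : ∀ M, Mem Om z M → cj r M = M := by
    intro M hM
    have hxi : cj x⁻¹ M = M := by
      conv_lhs => rw [← hxK M hM]
      exact cj_inv_cj x M
    rw [hr, cj_mul, hxi, cj_mul, cj_mul, hxK _ (hM.cj_comm h hpi), cj_cj_inv]
  obtain ⟨w, hw⟩ : ∃ w, w = p * y * p⁻¹ := ⟨_, rfl⟩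
  have hyy := hti.sq_of_as h hK hy
  have hwK : w ∈ cj p K := by rw [hw]; exact conj_mem_cj hy.1
  have hww : w * w = z := by
    have e : w * w = p * (y * y) * p⁻¹ := by rw [hw]; group
    rw [e, hyy, hpz, mul_inv_cancel_right]
  have hyx : y * x = x * y := hti.yx h hK hL hy hx
  have hxw : x * w * x⁻¹ = w ∨ x * w * x⁻¹ = z * w := by
    have e : x * w * x⁻¹ = r⁻¹ * w * r⁻¹⁻¹ := by
      have e1 : w = (p * x * p⁻¹) * w * (p * x * p⁻¹)⁻¹ := by
        rw [hw]
        calc p * y * p⁻¹ = p * (y * x * x⁻¹) * p⁻¹ := by group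
          _ = p * (x * y * x⁻¹) * p⁻¹ := by rw [hyx]
          _ = _ := by group
      conv_rhs => rw [e1]
      rw [hr]
      group
    rw [e]
    exact inn_of_two h hc3 hP hK' (inv_mem hrP) (by
      conv_lhs => rw [← hrK _ hK']
      exact cj_inv_cj r _) w hwK
  have h1 := hti.comm_of_rot h hK' hL hy' hx hwK hww hxw
  have hyy' := hti.sq_of_as h hK' hy'
  rw [← hw]
  rcases hK'.of_comm h hy'.1 hyy' hwK h1 with h2 | h2 | h2 | h2
  · rw [h2, one_mul] at hww
    exact absurd hww.symm hz1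
  · rw [h2, hz2] at hww
    exact absurd hww.symm hz1
  · exact Or.inl h2
  · exact Or.inr h2

/-- `t`, `t'` act differently on `K` -/
def Dif (Om : Set (Subgroup G)) (z t t' : G) (K : Subgroup G) : Prop :=
  Mem Om z K ∧ ∃ y y', As K t y ∧ As K t' y' ∧ y * y' ≠ y' * y

theorem sgn_comm {a b : G} (hz : z * z = 1) (ha : z * a = a * z) (hb : z * b = b * z) (x y : G)
    (hx : x = a ∨ x = z * a) (hy : y = b ∨ y = z * b) (hab : a * b = b * a) : x * y = y * x := by
  have h1 : ∀ g : G, z * (z * g) = g := fun g => by rw [← mul_assoc, hz, one_mul]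
  have e1 : a * (z * b) = z * (a * b) := by rw [← mul_assoc, ← ha, mul_assoc]
  have e2 : b * (z * a) = z * (b * a) := by rw [← mul_assoc, ← hb, mul_assoc]
  rcases hx with rfl | rfl <;> rcases hy with rfl | rfl
  · exact hab
  · rw [e1, mul_assoc, hab]
  · rw [e2, mul_assoc, hab]
  · rw [mul_assoc, e1, mul_assoc, e2, hab]

theorem Dif.cj (h : W4 Om) (hc3 : CT Om z) (hP : PZ z P) (hti : TI Om z t) (hti' : TI Om z t') (hp : p ∈ P)
    (hd : Dif Om z t t' K) : Dif Om z t t' (Cit.cj p K) := by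
  obtain ⟨hK, y, y', hy, hy', hne⟩ := hd
  have hpz := hP.comm p hp
  have hK' : Mem Om z (Cit.cj p K) := hK.cj_comm h hpz
  obtain ⟨w, hw, hww⟩ := hti.exists_as h hK'
  obtain ⟨w', hw', hww'⟩ := hti'.exists_as h hK'
  refine ⟨hK', w, w', hw, hw', fun hc => hne ?_⟩
  have h1 := axis h hc3 hP hti hK hp hy hw
  have h2 := axis h hc3 hP hti' hK hp hy' hw'
  have h3 := sgn_comm (hK.inZ.z2 h) (hK'.comm_z h hw.1).symm (hK'.comm_z h hw'.1).symm _ _ h1 h2 hc
  have h4 : p * (y * y') * p⁻¹ = p * (y' * y) * p⁻¹ := by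
    calc p * (y * y') * p⁻¹ = p * y * p⁻¹ * (p * y' * p⁻¹) := by group
      _ = p * y' * p⁻¹ * (p * y * p⁻¹) := h3
      _ = _ := by group
  exact mul_left_cancel (mul_right_cancel h4)

/-- the number of members on which `t`, `t'` act differently is odd -/
theorem odd_dif (h : W4 Om) (hti : TI Om z t) (hti' : TI Om z t') (hne : t * t' ≠ t' * t) :
    ¬ 2 ∣ Nat.card {K : Subgroup G // Dif Om z t t' K} := by
  obtain ⟨F, f⟩ := hti.inZ.exists_fr h
  obtain ⟨k, hk, hkt⟩ := (mem_RZ f h).1 (hti.mem_RZ h)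
  obtain ⟨l, hl, hlt⟩ := (mem_RZ f h).1 (hti'.mem_RZ h)
  have hz2 := hti.inZ.z2 h
  have ak : ∀ i, As (F i) t (k i) := fun i => by rw [hkt]; exact f.as_prod h hk i
  have al : ∀ i, As (F i) t' (l i) := fun i => by rw [hlt]; exact f.as_prod h hl i
  classical
  have hD : ∀ i, Dif Om z t t' (F i) ↔ k i * l i ≠ l i * k i := by
    intro i
    constructor
    · rintro ⟨-, y, y', hy, hy', hn⟩ hc
      exact hn (sgn_comm hz2 ((f.mem i).comm_z h (hk i)).symm ((f.mem i).comm_z h (hl i)).symm _ _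
        ((f.mem i).as_unique h (ak i) hy) ((f.mem i).as_unique h (al i) hy') hc)
    · intro hn
      exact ⟨f.mem i, k i, l i, ak i, al i, hn⟩
  -- the equivalence
  have e : {i : Fin 4 // k i * l i ≠ l i * k i} ≃ {K : Subgroup G // Dif Om z t t' K} := by
    refine Equiv.ofBijective (fun i => ⟨F i.1, (hD i.1).2 i.2⟩) ⟨fun i j hij => ?_, fun K => ?_⟩
    · exact Subtype.ext (f.inj (congrArg Subtype.val hij))
    · obtain ⟨i, hi⟩ := f.cov K.1 K.2.1
      refine ⟨⟨i, (hD i).1 (hi ▸ K.2)⟩, Subtype.ext hi⟩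
  rw [← Nat.card_congr e, Nat.card_eq_fintype_card, Fintype.card_subtype, Finset.card_filter,
    Fin.sum_univ_four]
  intro h2
  apply hne
  have hc : ∀ {i j : Fin 4} {a b : G}, i ≠ j → a ∈ F i → b ∈ F j → a * b = b * a := fun hij ha hb =>
    (f.mem _).comm (f.mem _) h (f.ne hij) ha hb
  have hzk : ∀ i, z * k i = k i * z := fun i => ((f.mem i).comm_z h (hk i)).symm
  have hzl : ∀ i, z * l i = l i * z := fun i => ((f.mem i).comm_z h (hl i)).symm
  obtain ⟨m, hm⟩ : ∃ m : Fin 4 → ℕ, ∀ i, m i = if k i * l i ≠ l i * k i then 1 else 0 := ⟨_, fun _ => rfl⟩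
  rw [← hm 0, ← hm 1, ← hm 2, ← hm 3] at h2
  have hs : ∀ i, l i * k i = z ^ m i * (k i * l i) := by
    intro i
    rw [hm]
    split_ifs with hi
    · rw [pow_one]
      have hkk := hti.sq_of_as h (f.mem i) (ak i)
      have hll := hti'.sq_of_as h (f.mem i) (al i)
      have h3 := (f.mem i).anti h (hk i) hkk (hl i) hll hi
      rw [mul_inv_eq_iff_eq_mul] at h3
      rw [h3, mul_assoc]
    · rw [pow_zero, one_mul]
      push Not at hi
      exact hi.symm
  have hze : ∀ (m : ℕ) (g : G), z * g = g * z → z ^ m * g = g * z ^ m := fun m g hg =>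
    ((show Commute z g from hg).pow_left m).eq
  have split : ∀ a b : Fin 4 → G, (∀ i, a i ∈ F i) → (∀ i, b i ∈ F i) →
      a 0 * a 1 * a 2 * a 3 * (b 0 * b 1 * b 2 * b 3) = (a 0 * b 0) * (a 1 * b 1) * (a 2 * b 2) * (a 3 * b 3) := by
    intro a b ha hb
    have c1 : a 3 * b 0 = b 0 * a 3 := hc (by decide) (ha 3) (hb 0)
    have c2 : a 2 * b 0 = b 0 * a 2 := hc (by decide) (ha 2) (hb 0)
    have c3 : a 1 * b 0 = b 0 * a 1 := hc (by decide) (ha 1) (hb 0)
    have c4 : a 3 * b 1 = b 1 * a 3 := hc (by decide) (ha 3) (hb 1)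
    have c5 : a 2 * b 1 = b 1 * a 2 := hc (by decide) (ha 2) (hb 1)
    have c6 : a 3 * b 2 = b 2 * a 3 := hc (by decide) (ha 3) (hb 2)
    calc a 0 * a 1 * a 2 * a 3 * (b 0 * b 1 * b 2 * b 3)
        = a 0 * a 1 * a 2 * (a 3 * b 0) * b 1 * b 2 * b 3 := by group
      _ = a 0 * a 1 * (a 2 * b 0) * a 3 * b 1 * b 2 * b 3 := by rw [c1]; group
      _ = a 0 * (a 1 * b 0) * a 2 * a 3 * b 1 * b 2 * b 3 := by rw [c2]; group
      _ = a 0 * b 0 * a 1 * a 2 * (a 3 * b 1) * b 2 * b 3 := by rw [c3]; group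
      _ = a 0 * b 0 * a 1 * (a 2 * b 1) * a 3 * b 2 * b 3 := by rw [c4]; group
      _ = a 0 * b 0 * a 1 * b 1 * a 2 * (a 3 * b 2) * b 3 := by rw [c5]; group
      _ = (a 0 * b 0) * (a 1 * b 1) * (a 2 * b 2) * (a 3 * b 3) := by rw [c6]; group
  have h5 : t' * t = z ^ (m 0 + m 1 + m 2 + m 3) * (t * t') := by
    rw [hkt, hlt, split l k hl hk, split k l hk hl, hs 0, hs 1, hs 2, hs 3]
    have hzkl : ∀ i, z * (k i * l i) = k i * l i * z := by
      intro i
      rw [← mul_assoc, hzk, mul_assoc, hzl, mul_assoc]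
    generalize m 0 = m0
    generalize m 1 = m1
    generalize m 2 = m2
    generalize m 3 = m3
    have q0 := hzkl 0
    have q1 := hzkl 1
    have q2 := hzkl 2
    generalize k 0 * l 0 = c0 at q0 ⊢
    generalize k 1 * l 1 = c1 at q1 ⊢
    generalize k 2 * l 2 = c2 at q2 ⊢
    generalize k 3 * l 3 = c3
    have r0 : ∀ m : ℕ, c0 * z ^ m = z ^ m * c0 := fun m => (hze m c0 q0).symm
    have r1 : ∀ m : ℕ, c1 * z ^ m = z ^ m * c1 := fun m => (hze m c1 q1).symm
    have r2 : ∀ m : ℕ, c2 * z ^ m = z ^ m * c2 := fun m => (hze m c2 q2).symm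
    rw [pow_add, pow_add, pow_add]
    calc z ^ m0 * c0 * (z ^ m1 * c1) * (z ^ m2 * c2) * (z ^ m3 * c3)
        = z ^ m0 * (c0 * z ^ m1) * c1 * z ^ m2 * c2 * z ^ m3 * c3 := by group
      _ = z ^ m0 * z ^ m1 * c0 * (c1 * z ^ m2) * c2 * z ^ m3 * c3 := by rw [r0]; group
      _ = z ^ m0 * z ^ m1 * (c0 * z ^ m2) * c1 * c2 * z ^ m3 * c3 := by rw [r1]; group
      _ = z ^ m0 * z ^ m1 * z ^ m2 * c0 * c1 * (c2 * z ^ m3) * c3 := by rw [r0]; group
      _ = z ^ m0 * z ^ m1 * z ^ m2 * c0 * (c1 * z ^ m3) * c2 * c3 := by rw [r2]; group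
      _ = z ^ m0 * z ^ m1 * z ^ m2 * (c0 * z ^ m3) * c1 * c2 * c3 := by rw [r1]; group
      _ = _ := by rw [r0]; group
  obtain ⟨q, hq⟩ := h2
  rw [hq, pow_mul, pow_two, hz2, one_pow, one_mul] at h5
  exact h5.symm

end

end Cfsg.Agent.Cit.Nil.RFour
end

-- part: Cit/Nil/RFour/Gen
section
prune_inst 0x4001048005100000000180016a00024401000000200430001f1400502084e9041a003260178302f100112a8f0600c00401018044900100000200002004024072910037280937c0c0430000080b803180c00000000000000000000000000041000200400000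
set_option linter.all false
open scoped Cfsg.Agent.FastGrp

-- part: Cit/Nil/RFour/Ext
section
/-!
# `r = 4`, `m = 1`: `R_z` is extraspecial of order `2 ^ 9` (section 7 of `blueprints/CIT-6b-r4m1-helper449.md`)

* `pd k = k 0 k 1 k 2 k 3`, `Fr.pd_mul`, `Fr.comm_iff`, `Fr.odd` : commutators of products;
* `large` : `Large (RZ Om z) z` in `X`, if `CX Om z ∩ X = {1, z}`;
* `card_RZ` : `|R_z| = 2 ^ 9`.
-/

set_option autoImplicit false
set_option linter.style.haveILetI false
set_option linter.unusedSectionVars false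

namespace Cfsg.Agent.Cit.Nil.RFour

open Subgroup Cfsg Cfsg.Agent.Cit Cfsg.Agent.Co2Type.Quad

open RTwo (Q3 Act)

variable {G : Type*} [Group G]

/-- the product of four elements -/
def pd (k : Fin 4 → G) : G := k 0 * k 1 * k 2 * k 3

theorem pd_conj (g : G) (k : Fin 4 → G) : g * pd k * g⁻¹ = pd (fun i => g * k i * g⁻¹) := by
  unfold pd; group

variable [Finite G] {Om : Set (Subgroup G)} {F : Fin 4 → Subgroup G} {K L : Subgroup G} {z t x l : G}
  {k m n : Fin 4 → G}

theorem Fr.exists_pd (f : Fr Om z F) (h : W4 Om) (hx : x ∈ RZ Om z) : ∃ k : Fin 4 → G, (∀ i, k i ∈ F i) ∧ x = pd k :=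
  (mem_RZ f h).1 hx

theorem Fr.pd_mul (f : Fr Om z F) (h : W4 Om) (hk : ∀ i, k i ∈ F i) (hm : ∀ i, m i ∈ F i) :
    pd k * pd m = pd (fun i => k i * m i) := by
  have hc : ∀ {i j : Fin 4} {a b : G}, i ≠ j → a ∈ F i → b ∈ F j → a * b = b * a := fun hij ha hb =>
    (f.mem _).comm (f.mem _) h (f.ne hij) ha hb
  have c1 : k 3 * m 0 = m 0 * k 3 := hc (by decide) (hk 3) (hm 0)
  have c2 : k 2 * m 0 = m 0 * k 2 := hc (by decide) (hk 2) (hm 0)
  have c3 : k 1 * m 0 = m 0 * k 1 := hc (by decide) (hk 1) (hm 0)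
  have c4 : k 3 * m 1 = m 1 * k 3 := hc (by decide) (hk 3) (hm 1)
  have c5 : k 2 * m 1 = m 1 * k 2 := hc (by decide) (hk 2) (hm 1)
  have c6 : k 3 * m 2 = m 2 * k 3 := hc (by decide) (hk 3) (hm 2)
  unfold pd
  calc k 0 * k 1 * k 2 * k 3 * (m 0 * m 1 * m 2 * m 3)
      = k 0 * k 1 * k 2 * (k 3 * m 0) * m 1 * m 2 * m 3 := by group
    _ = k 0 * k 1 * (k 2 * m 0) * k 3 * m 1 * m 2 * m 3 := by rw [c1]; group
    _ = k 0 * (k 1 * m 0) * k 2 * k 3 * m 1 * m 2 * m 3 := by rw [c2]; group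
    _ = k 0 * m 0 * k 1 * k 2 * (k 3 * m 1) * m 2 * m 3 := by rw [c3]; group
    _ = k 0 * m 0 * k 1 * (k 2 * m 1) * k 3 * m 2 * m 3 := by rw [c4]; group
    _ = k 0 * m 0 * k 1 * m 1 * k 2 * (k 3 * m 2) * m 3 := by rw [c5]; group
    _ = (k 0 * m 0) * (k 1 * m 1) * (k 2 * m 2) * (k 3 * m 3) := by rw [c6]; group

/-- the sign of the commutator of two elements of a member -/
theorem Mem.comm_cases (hK : Mem Om z K) (h : W4 Om) {a b : G} (ha : a ∈ K) (hb : b ∈ K) :
    a * b = b * a ∨ a * b = z * (b * a) := by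
  rcases hK.comm_or h hb ha with h1 | h1
  · left; rwa [mul_inv_eq_iff_eq_mul] at h1
  · right; rw [mul_inv_eq_iff_eq_mul, mul_assoc] at h1; exact h1

open Classical in
/-- the sign of the commutator -/
noncomputable def sg (z a b : G) : G := if a * b = b * a then 1 else z

theorem Mem.sg_mul (hK : Mem Om z K) (h : W4 Om) {a b : G} (ha : a ∈ K) (hb : b ∈ K) :
    a * b = sg z a b * (b * a) := by
  unfold sg
  split_ifs with h1
  · rw [one_mul, h1]
  · exact (hK.comm_cases h ha hb).resolve_left h1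

theorem sg_cases (a b : G) : sg z a b = 1 ∨ sg z a b = z := by
  unfold sg; split_ifs
  · exact Or.inl rfl
  · exact Or.inr rfl

theorem Fr.pd_comm (f : Fr Om z F) (h : W4 Om) (hk : ∀ i, k i ∈ F i) (hm : ∀ i, m i ∈ F i) :
    pd k * pd m = pd (fun i => sg z (k i) (m i)) * (pd m * pd k) := by
  have hs : ∀ i, sg z (k i) (m i) ∈ F i := by
    intro i
    rcases sg_cases (z := z) (k i) (m i) with h1 | h1 <;> rw [h1]
    · exact one_mem _
    · exact (f.mem i).zmem h
  rw [f.pd_mul h hk hm, f.pd_mul h hm hk, f.pd_mul h hs fun i => mul_mem (hm i) (hk i)]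
  congr 1
  funext i
  exact (f.mem i).sg_mul h (hk i) (hm i)

theorem Fr.comm_iff_sign (f : Fr Om z F) (h : W4 Om) (hk : ∀ i, k i ∈ F i) (hm : ∀ i, m i ∈ F i) :
    pd k * pd m = pd m * pd k ↔ pd (fun i => sg z (k i) (m i)) = 1 := by
  have h1 := f.pd_comm h hk hm
  constructor
  · intro h2
    rw [h2] at h1
    exact mul_eq_right.1 h1.symm
  · intro h2
    rw [h1, h2, one_mul]

/-- the commutator depends only on the commutators of the components -/
theorem Fr.comm_iff (f : Fr Om z F) (h : W4 Om) (hk : ∀ i, k i ∈ F i) (hm : ∀ i, m i ∈ F i) (hn : ∀ i, n i ∈ F i)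
    (hc : ∀ i, k i * m i = m i * k i ↔ k i * n i = n i * k i) : pd k * pd m = pd m * pd k ↔ pd k * pd n = pd n * pd k := by
  rw [f.comm_iff_sign h hk hm, f.comm_iff_sign h hk hn]
  have h1 : (fun i => sg z (k i) (m i)) = fun i => sg z (k i) (n i) := by
    funext i
    unfold sg
    by_cases h2 : k i * m i = m i * k i
    · rw [if_pos h2, if_pos ((hc i).1 h2)]
    · rw [if_neg h2, if_neg fun h3 => h2 ((hc i).2 h3)]
  rw [h1]

/-- two non-commuting products: the number of non-commuting components is 1 or 3 -/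
theorem Fr.odd (f : Fr Om z F) (h : W4 Om) (hk : ∀ i, k i ∈ F i) (hm : ∀ i, m i ∈ F i)
    (hne : pd k * pd m ≠ pd m * pd k) :
    (∃ j, k j * m j ≠ m j * k j ∧ ∀ i, i ≠ j → k i * m i = m i * k i) ∨
      ∃ j, k j * m j = m j * k j ∧ ∀ i, i ≠ j → k i * m i ≠ m i * k i := by
  have hzz := f.inZ.z2 h
  rw [Ne, f.comm_iff_sign h hk hm] at hne
  unfold pd sg at hne
  have hall : ∀ p : Fin 4 → Prop, p 0 → p 1 → p 2 → p 3 → ∀ i, p i := by
    intro p h0 h1 h2 h3 i; fin_cases i <;> assumption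
  by_cases h0 : k 0 * m 0 = m 0 * k 0 <;> by_cases h1 : k 1 * m 1 = m 1 * k 1 <;>
    by_cases h2 : k 2 * m 2 = m 2 * k 2 <;> by_cases h3 : k 3 * m 3 = m 3 * k 3 <;>
    simp only [h0, h1, h2, h3, if_true, if_false, one_mul, mul_one, hzz, not_true_eq_false] at hne
  all_goals first
    | exact Or.inl ⟨0, h0, hall _ (fun e => absurd rfl e) (fun _ => h1) (fun _ => h2) (fun _ => h3)⟩
    | exact Or.inl ⟨1, h1, hall _ (fun _ => h0) (fun e => absurd rfl e) (fun _ => h2) (fun _ => h3)⟩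
    | exact Or.inl ⟨2, h2, hall _ (fun _ => h0) (fun _ => h1) (fun e => absurd rfl e) (fun _ => h3)⟩
    | exact Or.inl ⟨3, h3, hall _ (fun _ => h0) (fun _ => h1) (fun _ => h2) (fun e => absurd rfl e)⟩
    | exact Or.inr ⟨0, h0, hall _ (fun e => absurd rfl e) (fun _ => h1) (fun _ => h2) (fun _ => h3)⟩
    | exact Or.inr ⟨1, h1, hall _ (fun _ => h0) (fun e => absurd rfl e) (fun _ => h2) (fun _ => h3)⟩
    | exact Or.inr ⟨2, h2, hall _ (fun _ => h0) (fun _ => h1) (fun e => absurd rfl e) (fun _ => h3)⟩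
    | exact Or.inr ⟨3, h3, hall _ (fun _ => h0) (fun _ => h1) (fun _ => h2) (fun e => absurd rfl e)⟩

/-! ### `Large` -/

theorem Mem.as_one_of_center (hK : Mem Om z K) (h : W4 Om) {g y : G} (ha : As K g y) (hy : y = 1 ∨ y = z) :
    As K g 1 := by
  rcases hy with rfl | rfl
  · exact ha
  · refine ⟨one_mem _, fun k hk => ?_⟩
    rw [ha.2 k hk, ← hK.comm_z h hk, mul_inv_cancel_right, one_mul, inv_one, mul_one]

theorem Mem.sq_center (hK : Mem Om z K) (h : W4 Om) {y : G} (hy : y ∈ K) : y * y = 1 ∨ y * y = z := by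
  rcases hK.sq_cases h hy with rfl | rfl | h1
  · left; exact mul_one 1
  · left; exact hK.inZ.z2 h
  · exact Or.inr h1

theorem RZ_sq (hz : InZ Om z) (h : W4 Om) (hx : x ∈ RZ Om z) : x * x = 1 ∨ x * x = z := by
  refine RZ_center h hz (mul_mem hx hx) fun K hK => ?_
  obtain ⟨y, hy⟩ := exists_as_of_mem h hK hx
  exact hK.as_one_of_center h (hy.mul hy) (hK.sq_center h hy.1)

theorem RZ_comm (hz : InZ Om z) (h : W4 Om) (hx : x ∈ RZ Om z) {y : G} (hy : y ∈ RZ Om z) :
    x * y = y * x ∨ x * y = y * x * z := by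
  have hc : x * y * (y * x)⁻¹ = 1 ∨ x * y * (y * x)⁻¹ = z := by
    refine RZ_center h hz (mul_mem (mul_mem hx hy) (inv_mem (mul_mem hy hx))) fun K hK => ?_
    obtain ⟨a, ha⟩ := exists_as_of_mem h hK hx
    obtain ⟨b, hb⟩ := exists_as_of_mem h hK hy
    refine hK.as_one_of_center h ((ha.mul hb).mul (hb.mul ha).inv) ?_
    rcases hK.comm_cases h ha.1 hb.1 with h1 | h1
    · left; rw [h1, mul_inv_cancel]
    · right; rw [h1, mul_inv_cancel_right]
  rcases hc with h1 | h1
  · left; rwa [mul_inv_eq_one] at h1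
  · right
    rw [mul_inv_eq_iff_eq_mul] at h1
    rw [h1, RZ_le_centralizer h (mul_mem hy hx)]

theorem RZ_cent (hz : InZ Om z) (h : W4 Om) (hx : x ∈ RZ Om z) (hc : ∀ y ∈ RZ Om z, x * y = y * x) :
    x = 1 ∨ x = z :=
  RZ_center h hz hx fun _ hK => As.one_iff.2 fun k hk => hc k (hK.le_RZ hk)

/-- **`R_z` is extraspecial with `C_X(R_z) ≤ R_z`** -/
theorem large (hz : InZ Om z) (h : W4 Om) {X : Subgroup G} (hXR : RZ Om z ≤ X)
    (hX : ∀ n ∈ X, n ∈ CX Om z → n = 1 ∨ n = z) :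
    Large ((RZ Om z).subgroupOf X) (⟨z, hXR (z_mem_RZ hz h)⟩ : X) where
  z_mem := z_mem_RZ hz h
  z_ne := fun h1 => hz.z1 h (congrArg Subtype.val h1)
  z_sq := Subtype.ext (hz.z2 h)
  comm_z x hx := Subtype.ext (RZ_le_centralizer h hx)
  conj_mem g hg x hx := RZ_conj_comm h (congrArg Subtype.val hg) hx
  sq x hx := (RZ_sq hz h hx).imp (fun h1 => Subtype.ext h1) fun h1 => Subtype.ext h1
  comm x hx y hy := (RZ_comm hz h hx hy).imp (fun h1 => Subtype.ext h1) fun h1 => Subtype.ext h1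
  cent x hx hc := (RZ_cent hz h hx fun y hy =>
    congrArg Subtype.val (hc ⟨y, hXR hy⟩ hy)).imp (fun h1 => Subtype.ext h1) fun h1 => Subtype.ext h1
  self g _ hc := by
    have h1 : (g : G) ∈ CX Om z := mem_CX.2 fun K hK k hk =>
      congrArg Subtype.val (hc ⟨k, hXR (hK.le_RZ hk)⟩ (hK.le_RZ hk))
    change (g : G) ∈ RZ Om z
    rcases hX g g.2 h1 with h2 | h2 <;> rw [h2]
    · exact one_mem _
    · exact z_mem_RZ hz h

/-! ### The order -/

omit [Finite G] in
theorem card_mul_relIndex {H K : Subgroup G} (h : H ≤ K) : Nat.card H * H.relIndex K = Nat.card K := by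
  rw [Subgroup.relIndex, ← Nat.card_congr (Subgroup.subgroupOfEquivOfLe h).toEquiv]
  exact Subgroup.card_mul_index _

omit [Finite G] in
/-- `|K H| |K ∩ H| = |K| |H|` -/
theorem card_sup_mul {K H : Subgroup G} (h : H ≤ normalizer (K : Set G)) :
    Nat.card (K ⊔ H : Subgroup G) * Nat.card (K ⊓ H : Subgroup G) = Nat.card K * Nat.card H := by
  have hKn : (K.subgroupOf (K ⊔ H)).Normal :=
    normal_subgroupOf_of_le_normalizer (sup_le le_normalizer h)
  have h1 := relIndex_sup_left (H.subgroupOf (K ⊔ H)) (K.subgroupOf (K ⊔ H))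
  rw [← Subgroup.subgroupOf_sup le_sup_left le_sup_right, Subgroup.subgroupOf_self,
    Subgroup.relIndex_subgroupOf le_sup_right, relIndex_top_right] at h1
  have h2 : Nat.card K * K.relIndex H = Nat.card (K ⊔ H : Subgroup G) := by
    rw [← h1]
    exact card_mul_relIndex le_sup_left
  have h3 : Nat.card (K ⊓ H : Subgroup G) * K.relIndex H = Nat.card H := by
    rw [← Subgroup.inf_relIndex_right K H]
    exact card_mul_relIndex inf_le_right
  calc _ = Nat.card (K ⊔ H : Subgroup G) * Nat.card (K ⊓ H : Subgroup G) := rfl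
    _ = Nat.card K * (Nat.card (K ⊓ H : Subgroup G) * K.relIndex H) := by rw [← h2]; ring
    _ = _ := by rw [h3]

/-- **`|R_z| = 2 ^ 9`** -/
theorem card_RZ (hz : InZ Om z) (h : W4 Om) : Nat.card (RZ Om z) = 2 ^ 9 := by
  obtain ⟨F, f⟩ := hz.exists_fr h
  have hzz := hz.z2 h
  have hz1 := hz.z1 h
  have h8 : ∀ i, Nat.card (F i) = 8 := fun i => h.card _ (f.mem i).1
  have hZ : Nat.card (zpowers z) = 2 := by rw [Nat.card_zpowers, hz.orderOf h]
  have hzi : ∀ i, zpowers z ≤ F i := fun i => by rw [zpowers_le]; exact (f.mem i).zmem h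
  -- a product intersects the next member in `⟨z⟩`
  have step : ∀ (A : Subgroup G) (j : Fin 4), z ∈ A → (∀ a ∈ A, ∀ b ∈ F j, a * b = b * a) →
      Nat.card (A ⊔ F j : Subgroup G) * 2 = Nat.card A * 8 := by
    intro A j hzA hA
    have h1 : F j ≤ normalizer (A : Set G) := by
      intro b hb
      rw [mem_normalizer_iff]
      intro a
      constructor
      · intro ha
        rw [← hA a ha b hb, mul_inv_cancel_right]; exact ha
      · intro ha
        have h2 := hA _ ha b hb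
        have h3 : b * a * b⁻¹ * b = b * a := by group
        rw [h3] at h2
        have h4 := mul_left_cancel h2
        rw [h4]; exact ha
    have h2 := card_sup_mul h1
    have h3 : A ⊓ F j = zpowers z := by
      refine le_antisymm ?_ (le_inf (by rw [zpowers_le]; exact hzA) (hzi j))
      rintro a ⟨ha, hb⟩
      have h4 : As (F j) a 1 := As.one_iff.2 fun k hk => hA a ha k hk
      rcases (f.mem j).as_center h (As.self hb) h4 with rfl | rfl
      · exact one_mem _
      · exact mem_zpowers a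
    rw [h3, hZ, h8] at h2
    exact h2
  have hcm : ∀ {i j : Fin 4}, i ≠ j → ∀ a ∈ F i, ∀ b ∈ F j, a * b = b * a := fun hij a ha b hb =>
    (f.mem _).comm (f.mem _) h (f.ne hij) ha hb
  have sup : ∀ (A B C : Subgroup G), (∀ a ∈ A, ∀ b ∈ C, a * b = b * a) → (∀ a ∈ B, ∀ b ∈ C, a * b = b * a) →
      ∀ a ∈ (A ⊔ B : Subgroup G), ∀ b ∈ C, a * b = b * a := by
    intro A B C hA hB a ha b hb
    have h1 : A ⊔ B ≤ centralizer (C : Set G) := by
      refine sup_le ?_ ?_
      · intro a ha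
        rw [mem_centralizer_iff]
        exact fun b hb => (hA a ha b hb).symm
      · intro a ha
        rw [mem_centralizer_iff]
        exact fun b hb => (hB a ha b hb).symm
    exact (mem_centralizer_iff.1 (h1 ha) b hb).symm
  have s1 := step (F 0) 1 ((f.mem 0).zmem h) (hcm (by decide))
  have s2 := step (F 0 ⊔ F 1) 2 (le_sup_left (a := F 0) ((f.mem 0).zmem h)) (sup _ _ _ (hcm (by decide)) (hcm (by decide)))
  have s3 := step (F 0 ⊔ F 1 ⊔ F 2) 3 (le_sup_left (a := F 0 ⊔ F 1) (le_sup_left (a := F 0) ((f.mem 0).zmem h)))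
    (sup _ _ _ (sup _ _ _ (hcm (by decide)) (hcm (by decide))) (hcm (by decide)))
  rw [h8] at s1
  have e : RZ Om z = F 0 ⊔ F 1 ⊔ F 2 ⊔ F 3 := by
    refine le_antisymm (RZ_le fun M hM => ?_) ?_
    · obtain ⟨i, rfl⟩ := f.cov M hM
      fin_cases i
      · exact le_sup_left.trans (le_sup_left.trans le_sup_left)
      · exact le_sup_right.trans (le_sup_left.trans le_sup_left)
      · exact le_sup_right.trans le_sup_left
      · exact le_sup_right
    · exact sup_le (sup_le (sup_le (f.mem 0).le_RZ (f.mem 1).le_RZ) (f.mem 2).le_RZ) (f.mem 3).le_RZ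
  rw [e]
  omega

end Cfsg.Agent.Cit.Nil.RFour
end

-- part: Cit/Nil/RFour/Gen
section
/-!
# `r = 4`, `m = 1`: the type I neighbours generate `R_z` (Case 1)

* `TI.comm_rot_iff` : `x ∈ R_z`, `l ∈ L` (over `t`) inducing `z`: `x` commutes with `l x l⁻¹` iff it commutes with `t`;
* `RZ_le_of_TI` : if two type I neighbours of `z` do not commute, (C3) holds and the members over `z` are conjugate then
  `R_z` is generated by the type I neighbours of `z`;
* `pow_mem_RZ` : `g ^ 144 ∈ R_z` for `g ∈ C_X(z)`, if `CX Om z ∩ X = {1, z}`.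
-/

set_option autoImplicit false
set_option linter.style.haveILetI false
set_option linter.unusedSectionVars false

namespace Cfsg.Agent.Cit.Nil.RFour

open Subgroup Cfsg Cfsg.Agent.Cit Cfsg.Agent.Co2Type.Quad

open RTwo (Q3 Act)

variable {G : Type*} [Group G] [Finite G] {Om : Set (Subgroup G)} {F : Fin 4 → Subgroup G} {K L : Subgroup G}
  {z t t' x l g : G} {k m n : Fin 4 → G}

/-- the action of `l` (inducing `z` on the members over `t`) on an element of a member over `z` -/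
theorem TI.rot_cases (hti : TI Om z t) (h : W4 Om) (hK : Mem Om z K) (hL : Mem Om t L) (hl : As L z l) {y : G}
    (hy : As K t y) {b : G} (hb : b ∈ K) :
    (y * b = b * y ∧ l * b * l⁻¹ = b) ∨
      (b * b = z ∧ y * b ≠ b * y ∧ (l * b * l⁻¹ = y * b ∨ l * b * l⁻¹ = z * (y * b))) := by
  obtain ⟨h1, h2, h3⟩ := (hti.symm h).rot h hL hK hl hy
  have hyy := hti.sq_of_as h hK hy
  have hlz : l * z = z * l := hl.comm.symm
  by_cases hc : y * b = b * y
  · left
    refine ⟨hc, ?_⟩
    rcases hK.of_comm h hy.1 hyy hb hc with rfl | rfl | rfl | rfl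
    · group
    · rw [hlz, mul_inv_cancel_right]
    · rw [h2, mul_inv_cancel_right]
    · rw [mul_inv_eq_iff_eq_mul]
      calc l * (z * y) = (l * z) * y := by group
        _ = z * (l * y) := by rw [hlz]; group
        _ = z * y * l := by rw [h2]; group
  · right
    have hbb : b * b = z := by
      rcases hK.sq_cases h hb with rfl | rfl | h4
      · exact absurd (by group) hc
      · exact absurd (hK.comm_z h hy.1) hc
      · exact h4
    exact ⟨hbb, hc, h3 b hb hbb hc⟩

/-- `x ∈ R_z` commutes with `l x l⁻¹` iff it commutes with `t` -/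
theorem TI.comm_rot_iff (hti : TI Om z t) (h : W4 Om) (hL : Mem Om t L) (hl : As L z l) (hx : x ∈ RZ Om z) :
    x * (l * x * l⁻¹) = l * x * l⁻¹ * x ↔ x * t = t * x := by
  obtain ⟨F, f⟩ := hti.inZ.exists_fr h
  obtain ⟨k, hk, rfl⟩ := f.exists_pd h hx
  obtain ⟨y, hy, hty⟩ := f.exists_pd h (hti.mem_RZ h)
  have hzz := hti.inZ.z2 h
  have ha : ∀ i, As (F i) t (y i) := fun i => by
    rw [hty]; exact f.as_prod h hy i
  rw [pd_conj]
  have hk' : ∀ i, l * k i * l⁻¹ ∈ F i := by
    intro i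
    have h1 := ((hti.symm h).rot h hL (f.mem i) hl (ha i)).1
    rw [← h1]
    exact conj_mem_cj (hk i)
  have key : ∀ i, k i * (l * k i * l⁻¹) = l * k i * l⁻¹ * k i ↔ k i * y i = y i * k i := by
    intro i
    rcases hti.rot_cases h (f.mem i) hL hl (ha i) (hk i) with ⟨h1, h2⟩ | ⟨h1, h2, h3⟩
    · rw [h2]
      exact ⟨fun _ => h1.symm, fun _ => rfl⟩
    · refine ⟨fun h4 => absurd ?_ h2, fun h4 => absurd h4.symm h2⟩
      rcases h3 with h3 | h3
      · rw [h3, ← mul_assoc] at h4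
        exact (mul_right_cancel h4).symm
      · rw [h3] at h4
        have h5 : k i * (z * (y i * k i)) = z * (k i * y i) * k i := by
          rw [← mul_assoc, (f.mem i).comm_z h (hk i)]; group
        rw [h5] at h4
        have h6 : z * (y i * k i) * k i = z * (y i * k i) * k i := rfl
        have h7 := mul_right_cancel h4
        exact (mul_left_cancel h7).symm
  have h1 := f.comm_iff h hk hk' hy key
  rw [h1, ← hty]

/-! ### Generation -/

omit [Finite G] in
theorem mem_of_pd {W : Subgroup G} (hk : pd k ∈ W) {j : Fin 4} (hi : ∀ i, i ≠ j → k i ∈ W) : k j ∈ W := by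
  unfold pd at hk
  fin_cases j
  · have h1 := hi 1 (by decide)
    have h2 := hi 2 (by decide)
    have h3 := hi 3 (by decide)
    have h4 := mul_mem (mul_mem (mul_mem hk (inv_mem h3)) (inv_mem h2)) (inv_mem h1)
    have h5 : k 0 * k 1 * k 2 * k 3 * (k 3)⁻¹ * (k 2)⁻¹ * (k 1)⁻¹ = k 0 := by group
    rwa [h5] at h4
  · have h1 := hi 0 (by decide)
    have h2 := hi 2 (by decide)
    have h3 := hi 3 (by decide)
    have h4 := mul_mem (inv_mem h1) (mul_mem (mul_mem hk (inv_mem h3)) (inv_mem h2))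
    have h5 : (k 0)⁻¹ * (k 0 * k 1 * k 2 * k 3 * (k 3)⁻¹ * (k 2)⁻¹) = k 1 := by group
    rwa [h5] at h4
  · have h1 := hi 0 (by decide)
    have h2 := hi 1 (by decide)
    have h3 := hi 3 (by decide)
    have h4 := mul_mem (inv_mem (mul_mem h1 h2)) (mul_mem hk (inv_mem h3))
    have h5 : (k 0 * k 1)⁻¹ * (k 0 * k 1 * k 2 * k 3 * (k 3)⁻¹) = k 2 := by group
    rwa [h5] at h4
  · have h1 := hi 0 (by decide)
    have h2 := hi 1 (by decide)
    have h3 := hi 2 (by decide)
    have h4 := mul_mem (inv_mem (mul_mem (mul_mem h1 h2) h3)) hk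
    have h5 : (k 0 * k 1 * k 2)⁻¹ * (k 0 * k 1 * k 2 * k 3) = k 3 := by group
    rwa [h5] at h4

/-- **`R_z` is generated by the type I neighbours of `z`** in Case 1 -/
theorem RZ_le_of_TI (h : W4 Om) (hti : TI Om z t) (hti' : TI Om z t') (hne : t * t' ≠ t' * t)
    (hc3 : CT Om z)
    (htr : ∀ K K', Mem Om z K → Mem Om z K' → ∃ g, cj g K = K') {D : Subgroup G} (hD : ∀ t, TI Om z t → t ∈ D) :
    RZ Om z ≤ D := by
  obtain ⟨W, hW⟩ : ∃ W : Subgroup G, W = closure {t | TI Om z t} := ⟨_, rfl⟩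
  have hWD : W ≤ D := by
    rw [hW, closure_le]
    exact fun t ht => hD t ht
  have hTW : ∀ t, TI Om z t → t ∈ W := fun t ht => by rw [hW]; exact subset_closure ht
  -- invariance
  have hWn : ∀ g, g * z = z * g → ∀ w ∈ W, g * w * g⁻¹ ∈ W := by
    intro g hg w hw
    have h1 : W ≤ W.comap (MulAut.conj g).toMonoidHom := by
      conv_lhs => rw [hW]
      rw [closure_le]
      intro s hs
      have h2 := TI.conj hs h g
      rw [hg, mul_inv_cancel_right] at h2
      exact hTW _ h2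
    exact h1 hw
  refine le_trans ?_ hWD
  have hzz := hti.inZ.z2 h
  obtain ⟨F, f⟩ := hti.inZ.exists_fr h
  obtain ⟨a, ha, hta⟩ := f.exists_pd h (hti.mem_RZ h)
  obtain ⟨b, hb, htb⟩ := f.exists_pd h (hti'.mem_RZ h)
  have haa : ∀ i, As (F i) t (a i) := fun i => by rw [hta]; exact f.as_prod h ha i
  have hbb : ∀ i, As (F i) t' (b i) := fun i => by rw [htb]; exact f.as_prod h hb i
  have ha2 : ∀ i, a i * a i = z := fun i => hti.sq_of_as h (f.mem i) (haa i)
  have hzW : z ∈ W := by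
    have h1 := mul_mem (hTW _ (hti.mul_right h)) (inv_mem (hTW _ hti))
    rwa [mul_inv_cancel_right] at h1
  obtain ⟨L, hL⟩ := hti.inT
  obtain ⟨l, hl, -⟩ := (hti.symm h).exists_as h hL
  have hlz : l * z = z * l := hl.comm.symm
  have hl' : ∀ i, l * b i * l⁻¹ ∈ F i := by
    intro i
    have h1 := ((hti.symm h).rot h hL (f.mem i) hl (haa i)).1
    rw [← h1]
    exact conj_mem_cj (hb i)
  -- the element `t t' (l t' l⁻¹)`
  obtain ⟨c, hc⟩ : ∃ c : Fin 4 → G, c = fun i => a i * b i * (l * b i * l⁻¹) := ⟨_, rfl⟩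
  have hci : ∀ i, c i = a i * b i * (l * b i * l⁻¹) := fun i => by rw [hc]
  have hcF : ∀ i, c i ∈ F i := fun i => by rw [hci]; exact mul_mem (mul_mem (ha i) (hb i)) (hl' i)
  have hcW : pd c ∈ W := by
    have h1 : pd c = t * t' * (l * t' * l⁻¹) := by
      rw [hta, htb, pd_conj, f.pd_mul h ha hb, f.pd_mul h (fun i => mul_mem (ha i) (hb i)) hl', hc]
    rw [h1]
    exact mul_mem (mul_mem (hTW _ hti) (hTW _ hti')) (hWn l hlz _ (hTW _ hti'))
  have hdW : pd (fun i => a i * c i) ∈ W := by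
    rw [← f.pd_mul h ha hcF, ← hta]
    exact mul_mem (hTW _ hti) hcW
  have h2 : ∀ i, (a i * b i = b i * a i ∧ c i = z * a i) ∨ (a i * b i ≠ b i * a i ∧ (c i = 1 ∨ c i = z)) := by
    intro i
    have hbi := hti'.sq_of_as h (f.mem i) (hbb i)
    rcases hti.rot_cases h (f.mem i) hL hl (haa i) (hb i) with ⟨h1, h2⟩ | ⟨h1, h2, h3⟩
    · left
      refine ⟨h1, ?_⟩
      rw [hci, h2, mul_assoc, hbi, (f.mem i).comm_z h (ha i)]
    · right
      refine ⟨h2, ?_⟩
      have h4 : a i * b i * (a i * b i) = z := by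
        have hab : a i * b i ∈ F i := mul_mem (ha i) (hb i)
        rcases (f.mem i).sq_cases h hab with h5 | h5 | h5
        · exfalso
          apply h2
          rw [eq_inv_of_mul_eq_one_left h5]
          group
        · exfalso
          apply h2
          have h6 : a i = z * (b i)⁻¹ := by rw [← h5]; group
          rw [h6, mul_assoc, inv_mul_cancel, mul_one, ← mul_assoc, (f.mem i).comm_z h (hb i)]
          group
        · exact h5
      rcases h3 with h3 | h3
      · right; rw [hci, h3, h4]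
      · left
        rw [hci, h3]
        calc a i * b i * (z * (a i * b i)) = (a i * b i * z) * (a i * b i) := by group
          _ = (z * (a i * b i)) * (a i * b i) := by rw [(f.mem i).comm_z h (mul_mem (ha i) (hb i))]
          _ = z * (a i * b i * (a i * b i)) := by group
          _ = 1 := by rw [h4, hzz]
  -- one of the `a j` is in `W`
  have haW : ∃ j, a j ∈ W := by
    rw [hta, htb] at hne
    rcases f.odd h ha hb hne with ⟨j, h3, h4⟩ | ⟨j, h3, h4⟩
    · refine ⟨j, ?_⟩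
      have h5 : a j * c j ∈ W := mem_of_pd (k := fun i => a i * c i) hdW fun i hi => by
        rcases h2 i with ⟨-, h6⟩ | ⟨h6, -⟩
        · rw [h6, ← mul_assoc, (f.mem i).comm_z h (ha i), mul_assoc, ha2, hzz]
          exact one_mem _
        · exact absurd (h4 i hi) h6
      rcases h2 j with ⟨h6, -⟩ | ⟨-, h6⟩
      · exact absurd h6 h3
      · rcases h6 with h6 | h6
        · rwa [h6, mul_one] at h5
        · rw [h6] at h5
          have h7 := mul_mem h5 hzW
          rwa [mul_assoc, hzz, mul_one] at h7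
    · refine ⟨j, ?_⟩
      have h5 : c j ∈ W := mem_of_pd hcW fun i hi => by
        rcases h2 i with ⟨h6, -⟩ | ⟨-, h6⟩
        · exact absurd h6 (h4 i hi)
        · rcases h6 with h6 | h6 <;> rw [h6]
          · exact one_mem _
          · exact hzW
      rcases h2 j with ⟨-, h6⟩ | ⟨h6, -⟩
      · rw [h6] at h5
        have h7 := mul_mem hzW h5
        rwa [← mul_assoc, hzz, one_mul] at h7
      · exact absurd h3 h6
  obtain ⟨j, hj⟩ := haW
  -- (C3)
  have hFW : F j ≤ W := by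
    obtain ⟨g, hg, h3, h4⟩ := hc3 _ (f.mem j) (a j) (ha j) (ha2 j)
    have hgz := (f.mem j).of_cj h hg
    have h5 := hWn g hgz _ hj
    have h6 : g * a j * g⁻¹ ∈ F j := by
      have := conj_mem_cj (g := g) (ha j)
      rwa [hg] at this
    have h7 : g * a j * g⁻¹ * (g * a j * g⁻¹) = z := by
      calc g * a j * g⁻¹ * (g * a j * g⁻¹) = g * (a j * a j) * g⁻¹ := by group
        _ = z := by rw [ha2, hgz, mul_inv_cancel_right]
    have h8 : a j * (g * a j * g⁻¹) ≠ g * a j * g⁻¹ * a j := by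
      intro h9
      rcases (f.mem j).of_comm h (ha j) (ha2 j) h6 h9 with h10 | h10 | h10 | h10
      · rw [h10, one_mul] at h7
        exact hti.inZ.z1 h h7.symm
      · rw [h10, hzz] at h7
        exact hti.inZ.z1 h h7.symm
      · exact h3 h10
      · exact h4 h10
    obtain ⟨q, hq, h9, h10⟩ := (f.mem j).exists_q2 h (ha j) (ha2 j) h6 h7 h8
    exact hq.le_of_mem (i := 0) (j := 1) (by decide) (by rw [h9]; exact hj) (by rw [h10]; exact h5)
  refine RZ_le fun M hM => ?_
  obtain ⟨g, hg⟩ := htr _ _ (f.mem j) hM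
  have hgz : g * z = z * g := by
    have h3 := (f.mem j).cj h g
    rw [hg] at h3
    have h4 : g * z * g⁻¹ = z := h3.2.symm.trans hM.2
    rwa [mul_inv_eq_iff_eq_mul] at h4
  rw [← hg]
  rintro _ ⟨x, hx, rfl⟩
  exact hWn g hgz _ (hFW hx)

/-! ### Exponents -/

/-- `g ^ 24` fixes all members over `z` -/
theorem cj_pow_eq_self (h : W4 Om) (hz : InZ Om z) (hg : g * z = z * g) {K : Subgroup G} (hK : Mem Om z K) :
    cj (g ^ 24) K = K := by
  obtain ⟨F, f⟩ := hz.exists_fr h
  have h1 : ∀ i, ∃ j, F j = cj g (F i) := fun i => f.cov _ ((f.mem i).cj_comm h hg)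
  choose s hs using h1
  have hinj : Function.Injective s := by
    intro i j hij
    have h2 := (hs i).symm.trans ((congrArg F hij).trans (hs j))
    exact f.inj (cj_inj.1 h2)
  have hbij := (Finite.injective_iff_bijective.1 hinj)
  obtain ⟨σ, hσ⟩ : ∃ σ : Equiv.Perm (Fin 4), ∀ i, σ i = s i := ⟨Equiv.ofBijective s hbij, fun _ => rfl⟩
  have h2 : ∀ n i, cj (g ^ n) (F i) = F ((σ ^ n) i) := by
    intro n
    induction n with
    | zero => intro i; rw [pow_zero, cj_one, pow_zero, Equiv.Perm.one_apply]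
    | succ n ih =>
      intro i
      rw [pow_succ, cj_mul, ← hs i, ih, pow_succ, Equiv.Perm.mul_apply, hσ]
  have h3 : ∀ σ : Equiv.Perm (Fin 4), σ ^ 24 = 1 := by
    intro σ
    have h4 : Fintype.card (Equiv.Perm (Fin 4)) = 24 := by rw [Fintype.card_perm, Fintype.card_fin]; rfl
    rw [← h4]
    exact pow_card_eq_one
  obtain ⟨i, rfl⟩ := f.cov K hK
  rw [h2, h3, Equiv.Perm.one_apply]

/-- **`g ^ 144 ∈ R_z`** for `g ∈ C_X(z)` -/
theorem pow_mem_RZ (h : W4 Om) (hz : InZ Om z) {X : Subgroup G} (hXR : RZ Om z ≤ X)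
    (hX : ∀ n ∈ X, n ∈ CX Om z → n = 1 ∨ n = z) (hgX : g ∈ X) (hg : g * z = z * g) : g ^ 144 ∈ RZ Om z := by
  refine mem_RZ_of_inn h hz hXR hX (pow_mem hgX _) fun K hK => ?_
  obtain ⟨x, q⟩ := h.exists_q3 hK
  have h1 := cj_pow_eq_self h hz hg hK
  have hcm : ∀ n, g ^ n * z = z * g ^ n := fun n => ((show Commute g z from hg).pow_left n).eq
  obtain ⟨σ, hσ⟩ := q.exists_act q h1 (hcm 24)
  have h2 := act_pow q.z2 (hcm 24) hσ 6
  have h3 : σ ^ 6 = 1 := by
    have h4 : Fintype.card (Equiv.Perm (Fin 3)) = 6 := by rw [Fintype.card_perm, Fintype.card_fin]; rfl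
    rw [← h4]
    exact pow_card_eq_one
  rw [h3, ← pow_mul] at h2
  exact h2.inner q (hcm 144)

end Cfsg.Agent.Cit.Nil.RFour
end
end

-- part: Cit/Nil/RTwo/SC
section
set_option linter.all false
open scoped Cfsg.Agent.FastGrp

/-!
# S1309, `r = 2`, `m = 1`: PRINCIPLE SC' (section 0)

* `W2.exists_member_central` : every Sylow 2-subgroup `S` has a central element `z ∈ Z` (and `S` contains the members over `z`);
* `Eqv Om N` : `N z` (`z ∈ Z`) is equivariant and `N z ∩ C(t) ≤ N t` for commuting `z`, `t ∈ Z` (SC'(f));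
* `Eqv.strong` : then `N z ∩ S` is strongly closed in `S` (`z ∈ Z(S)`).
* `Eqv.of_const` : constant on commuting pairs.
-/

set_option autoImplicit false
set_option linter.unusedSectionVars false

namespace Cfsg.Agent.Cit.Nil.RTwo

open Subgroup Cfsg Cfsg.Agent.Cit

variable {G : Type*} [Group G] {Om : Set (Subgroup G)}

theorem mem_OmS_of_le {S K : Subgroup G} (hK : K ∈ Om) (hKS : K ≤ S) : K ∈ OmS Om S := by
  refine ⟨hK, ?_⟩
  rw [relIndex_eq_one.2 hKS]
  norm_num

/-- SC'(f) -/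
structure Eqv (Om : Set (Subgroup G)) (N : G → Subgroup G) : Prop where
  conj : ∀ z, InZ Om z → ∀ g, N (g * z * g⁻¹) = cj g (N z)
  comm : ∀ z t, InZ Om z → InZ Om t → z * t = t * z → ∀ a ∈ N z, a * t = t * a → a ∈ N t

theorem Eqv.of_const {N : G → Subgroup G} (hc : ∀ z, InZ Om z → ∀ g, N (g * z * g⁻¹) = cj g (N z))
    (hN : ∀ z t, InZ Om z → InZ Om t → z * t = t * z → N z = N t) : Eqv Om N :=
  ⟨hc, fun z t hz ht hzt a ha _ => by rw [← hN z t hz ht hzt]; exact ha⟩

variable [Finite G] {K L M : Subgroup G} {g t x y z : G}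

/-- the members over a `z` which lie in a 2-group `S` are permuted by `S`: `z ∈ Z(S)` -/
theorem Mem.central (hK : Mem Om z K) (h : W2 Om) {S : Subgroup G} (hS : IsPGroup 2 S) (hKS : K ≤ S) {s : G}
    (hs : s ∈ S) : s * z = z * s := by
  have h1 := hK.cj h s
  have hle : Cit.cj s K ≤ S := by
    rintro _ ⟨k, hk, rfl⟩
    exact mul_mem (mul_mem hs (hKS hk)) (inv_mem hs)
  by_cases hne : K = Cit.cj s K
  · exact hK.of_cj h hne.symm
  · have h2 := h.one K hK.1 _ h1.1 (fun k hk l hl =>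
      h.hyp.comm hS (mem_OmS_of_le hK.1 hKS) (mem_OmS_of_le h1.1 hle) hne ⟨hk, hKS hk⟩ ⟨hl, hle hl⟩)
    rw [hK.2, h1.2] at h2
    rw [← mul_inv_eq_iff_eq_mul]
    exact h2.symm

/-- every Sylow 2-subgroup contains a member, with `z ∈ Z(S)` -/
theorem W2.exists_member_central (h : W2 Om) (hne : Om.Nonempty) (S : Sylow 2 G) :
    ∃ z K, Mem Om z K ∧ K ≤ (S : Subgroup G) ∧ ∀ s ∈ S, s * z = z * s := by
  haveI : Fact (Nat.Prime 2) := ⟨Nat.prime_two⟩
  obtain ⟨K, hK⟩ := hne
  obtain ⟨P, hP⟩ := (h.isPGroup hK).exists_le_sylow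
  obtain ⟨g, hg⟩ := MulAction.exists_smul_eq G P S
  have h1 : Mem Om (g * zz K * g⁻¹) (cj g K) := Mem.cj ⟨hK, rfl⟩ h g
  have hle : cj g K ≤ (S : Subgroup G) := by
    rw [← hg]
    rintro _ ⟨k, hk, rfl⟩
    rw [Sylow.coe_subgroup_smul]
    exact Subgroup.smul_mem_pointwise_smul k (MulAut.conj g) _ (hP hk)
  exact ⟨_, _, h1, hle, fun s hs => h1.central h S.isPGroup' hle hs⟩

/-- two elements of `Z` centralising the 2-element `b`: after conjugation in `C(b)` they commute with a common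
`z₁ ∈ Z` which commutes with `b` -/
theorem W2.exists_link (h : W2 Om) {b z' : G} {n : ℕ} (hb : b ^ 2 ^ n = 1) (hz : InZ Om z) (hz' : InZ Om z')
    (hbz : b * z = z * b) (hbz' : b * z' = z' * b) :
    ∃ c z₁, c * b = b * c ∧ InZ Om z₁ ∧ z₁ * b = b * z₁ ∧ z₁ * z = z * z₁ ∧
      z₁ * (c * z' * c⁻¹) = c * z' * c⁻¹ * z₁ := by
  haveI : Fact (Nat.Prime 2) := ⟨Nat.prime_two⟩
  have hpow : ∀ (u : G) (n : ℕ), u ^ 2 ^ n = 1 → IsPGroup 2 (zpowers u) := by
    intro u n hu
    refine IsPGroup.of_card (n := Nat.log 2 (orderOf u)) ?_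
    rw [Nat.card_zpowers]
    obtain ⟨k, -, hk⟩ := (Nat.dvd_prime_pow Nat.prime_two).1 (orderOf_dvd_of_pow_eq_one hu)
    rw [hk, Nat.log_pow (by norm_num)]
  have key : ∀ u, InZ Om u → b * u = u * b → ∃ T, Syl T (centralizer {b}) ∧ u ∈ T ∧ b ∈ T := by
    intro u hu hbu
    have hcomm : Commute u b := hbu.symm
    have hA : IsPGroup 2 ↥(zpowers u ⊔ zpowers b) := by
      have hn : zpowers b ≤ normalizer (zpowers u : Set G) := by
        rw [zpowers_le, mem_normalizer_iff]
        intro v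
        constructor
        · intro hv
          obtain ⟨k, rfl⟩ := mem_zpowers_iff.1 hv
          rw [(hcomm.symm.zpow_right k).eq, mul_inv_cancel_right]
          exact hv
        · intro hv
          obtain ⟨k, hk⟩ := mem_zpowers_iff.1 hv
          have h3 : v = b⁻¹ * (b * v * b⁻¹) * b := by group
          rw [h3, ← hk, mul_assoc, ← (hcomm.symm.zpow_right k).eq, inv_mul_cancel_left, hk]
          exact hv
      exact IsPGroup.to_sup_of_normal_left' (hpow u 1 (by rw [pow_one, pow_two]; exact hu.z2 h)) (hpow b n hb) hn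
    obtain ⟨T, hT, hle⟩ := OneBasic.exists_syl_ge (M := centralizer {b}) hA (by
      rw [sup_le_iff, zpowers_le, zpowers_le]
      exact ⟨mem_centralizer_singleton_iff.2 hbu.symm, mem_centralizer_singleton_iff.2 rfl⟩)
    exact ⟨T, hT, hle (mem_sup_left (mem_zpowers u)), hle (mem_sup_right (mem_zpowers b))⟩
  obtain ⟨T, hT, hzT, hbT⟩ := key z hz hbz
  obtain ⟨T', hT', hzT', -⟩ := key z' hz' hbz'
  obtain ⟨c, hc, hcT⟩ := hT'.exists_conj hT
  obtain ⟨P, hP⟩ := hT.2.1.exists_le_sylow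
  obtain ⟨z₁, K, hK, -, hcen⟩ := h.exists_member_central ⟨_, hz.choose_spec.1⟩ P
  refine ⟨c, z₁, mem_centralizer_singleton_iff.1 hc, hK.inZ, (hcen b (hP hbT)).symm, (hcen z (hP hzT)).symm, ?_⟩
  have h1 : c * z' * c⁻¹ ∈ T := by rw [← hcT]; exact conj_mem_cj hzT'
  exact (hcen _ (hP h1)).symm

/-- **SC'(f)** -/
theorem Eqv.strong {N : G → Subgroup G} (e : Eqv Om N) (h : W2 Om) (S : Sylow 2 G) (hz : InZ Om z)
    (hc : ∀ s ∈ S, s * z = z * s) : IsStronglyClosed (N z ⊓ (S : Subgroup G)) (S : Subgroup G) := by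
  haveI : Fact (Nat.Prime 2) := ⟨Nat.prime_two⟩
  refine ⟨inf_le_right, fun a ha g hg => ⟨?_, hg⟩⟩
  obtain ⟨n, hn⟩ := S.isPGroup' ⟨_, hg⟩
  have hb : (g * a * g⁻¹) ^ 2 ^ n = 1 := congrArg Subtype.val hn
  have haz := hc a ha.2
  have hbz' : g * a * g⁻¹ * (g * z * g⁻¹) = g * z * g⁻¹ * (g * a * g⁻¹) := by
    calc g * a * g⁻¹ * (g * z * g⁻¹) = g * (a * z) * g⁻¹ := by group
      _ = g * (z * a) * g⁻¹ := by rw [haz]
      _ = _ := by group
  obtain ⟨c, z₁, hcb, hz₁, hz₁b, hz₁z, hz₁z'⟩ := h.exists_link hb hz (hz.conj h g) (hc _ hg) hbz'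
  obtain ⟨b, hbdef⟩ : ∃ b, b = g * a * g⁻¹ := ⟨_, rfl⟩
  rw [← hbdef] at hcb hz₁b ⊢
  have hz₂ : c * (g * z * g⁻¹) * c⁻¹ = (c * g) * z * (c * g)⁻¹ := by group
  have hb2 : b ∈ N ((c * g) * z * (c * g)⁻¹) := by
    rw [e.conj z hz]
    have h1 : b = (c * g) * a * (c * g)⁻¹ := by
      have h2 : c * b * c⁻¹ = b := by rw [hcb, mul_inv_cancel_right]
      rw [← h2, hbdef]; group
    rw [h1]
    exact conj_mem_cj ha.1
  rw [hz₂] at hz₁z'
  have h3 := e.comm _ z₁ (hz.conj h _) hz₁ hz₁z'.symm b hb2 hz₁b.symm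
  refine e.comm z₁ z hz₁ hz hz₁z b h3 ?_
  rw [hbdef]
  exact hc _ hg

end Cfsg.Agent.Cit.Nil.RTwo
end

-- part: Cit/Nil/RTwo/UFour
section
prune_inst 0x400104c005100000000180012a20004401000000200430001b0400502004e9040a047260178600d1080128c502804806013180500423800002a008800402407291402424093481004210000c0f803180c00000000000000000000000000041000200400000
set_option linter.all false
open scoped Cfsg.Agent.FastGrp

/-!
# The case (U), `k = 1`: U3(2) and section U4 of `CIT-6b-r2m1-U-helper141.md`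

* `UW Om` : the world (U), `k = 1`;
* `FP.exists_tra` : an element of `⟨R_z, R_t⟩ ∩ C(z) ∩ C(t)` translating along the graph of `t`;
* `UW.dc_iff` : in coordinates adapted to a p-neighbour `t` of `z` the directions of all labels are `(i, i)`;
* `UW.no_ft` : no pairs of type f;
* `UW.exists_conj` : two p-neighbours of `z` are congruent modulo `R_z X_z`.
-/

set_option autoImplicit false
set_option linter.style.haveILetI false
set_option linter.unusedSectionVars false
set_option maxHeartbeats 400000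

namespace Cfsg.Agent.Cit.Nil.RTwo

open Subgroup Cfsg Cit

variable {G : Type*} [Group G]

section

variable [Finite G] {Om : Set (Subgroup G)} {K K1 K2 L M L1 L2 : Subgroup G} {z t u g r s s' y w c c' : G}
  {a b p q x l : Fin 3 → G} {i j : Fin 3}

/-! ### Translations -/

/-- directions `p`, `q` of any two labels: `q - p` is a translation -/
theorem tra_of_dir (h : W2 Om) (F : Frame Om z K1 K2 a b) {p q : Fin 3 × Fin 3} (hp : p ∈ DC Om z a b c)
    (hq : q ∈ DC Om z a b c') : ∃ g, Tra z a b g (q - p) := by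
  obtain ⟨s, l, hd⟩ := hp
  obtain ⟨s', l', hd'⟩ := hq
  obtain ⟨e1, -, z1, -, -, a1, b1, -⟩ := l.exists_theta h F hd
  obtain ⟨e2, -, z2, -, -, a2, b2, -⟩ := l'.exists_theta h F hd'
  have hz2 := l.z2 h
  refine ⟨e1 * e2, ?_, ?_, ?_⟩
  · rw [mul_assoc, z2, ← mul_assoc, z1, mul_assoc]
  · have h1 := a2.comp hz2 a1 z1
    have e : rf p.1 * rf q.1 = Equiv.addRight (q - p).1 := by
      apply Equiv.ext
      intro i
      show rf p.1 (rf q.1 i) = i + (q - p).1
      rw [rf_apply, rf_apply]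
      show -p.1 - (-q.1 - i) = i + (q.1 - p.1)
      abel
    rwa [e] at h1
  · have h1 := b2.comp hz2 b1 z1
    have e : rf p.2 * rf q.2 = Equiv.addRight (q - p).2 := by
      apply Equiv.ext
      intro i
      show rf p.2 (rf q.2 i) = i + (q - p).2
      rw [rf_apply, rf_apply]
      show -p.2 - (-q.2 - i) = i + (q.2 - p.2)
      abel
    rwa [e] at h1

theorem HP.uframe (P : HP Om z t K x) (h : W2 Om) : Frame Om z K (cj t K) x (fun i => t * x i * t⁻¹) :=
  ⟨P.hK, P.hK' h, P.ne', P.q, P.q'⟩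

theorem perm_affine : ∀ (τ : Equiv.Perm (Fin 3)) (y w : Fin 3), τ (y + w) - τ y = τ w - τ 0 := by decide

theorem D0.uswap (h : W2 Om) (F : Frame Om z K1 K2 a b) (hg : g * z = z * g) {σ τ : Equiv.Perm (Fin 3)}
    (h1 : Act z a b g σ) (h2 : Act z b a g τ) {v : Fin 3 × Fin 3} (hv : v ∈ D0 Om z a b) :
    (τ v.2 - τ 0, σ v.1 - σ 0) ∈ D0 Om z a b := by
  obtain ⟨c, p, hp, hp'⟩ := hv
  have key : ∀ {p : Fin 3 × Fin 3}, p ∈ DC Om z a b c → (τ p.2, σ p.1) ∈ DC Om z a b (g * c * g⁻¹) := by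
    rintro p ⟨s, ls, hd⟩
    refine ⟨_, ls.conj_comm h hg, ?_⟩
    have h3 := F.dir_conj' h hg h1 h2 hd
    have e : g * s * g⁻¹ * (g * c * g⁻¹) = g * (s * c) * g⁻¹ := by group
    rw [e]; exact h3
  have h4 := D0.sub_mem (key hp) (key hp')
  have e : ((τ (p + v).2, σ (p + v).1) : Fin 3 × Fin 3) - (τ p.2, σ p.1) = (τ v.2 - τ 0, σ v.1 - σ 0) := by
    apply Prod.ext
    · exact perm_affine τ p.2 v.2
    · exact perm_affine σ p.1 v.1
  rwa [e] at h4

end

/-- the case (U), `k = 1` -/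
structure UW [Finite G] (Om : Set (Subgroup G)) : Prop where
  w : W2 Om
  cf : CF Om
  no : NoOne Om
  cls : ∀ z t, InZ Om z → InZ Om t → ∃ g, g * z * g⁻¹ = t
  ti : ∃ z t, TI Om z t
  tra : ∀ {z : G} {K1 K2 : Subgroup G} {a b : Fin 3 → G}, Frame Om z K1 K2 a b →
    ∀ g v, Tra z a b g v → v ∈ D0 Om z a b
  one : ∀ {z : G} {K1 K2 : Subgroup G} {a b : Fin 3 → G}, Frame Om z K1 K2 a b → ∃ v, v ∉ D0 Om z a b

section

variable [Finite G] {Om : Set (Subgroup G)} {K K1 K2 L M L1 L2 : Subgroup G} {z t u g r s s' y w c c' : G}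
  {a b p q x l : Fin 3 → G} {i j : Fin 3}

namespace UW

variable (W : UW Om)

include W

theorem lab (hz : InZ Om z) : (CC Om z).Nonempty := by
  obtain ⟨u, t, ht⟩ := W.ti
  obtain ⟨g, hg⟩ := W.cls u z ht.1 hz
  obtain ⟨c, l⟩ := (ht.conj W.w g).exists_lab W.w
  rw [hg] at l
  exact ⟨c, l.mem_CC⟩

theorem exists_sw (hz : InZ Om z) : ∃ g, g * z = z * g ∧ Sw Om z g := by
  obtain ⟨u, t, ht⟩ := W.ti
  obtain ⟨c, l⟩ := ht.exists_lab W.w
  have h2 : PTwo Om u t := by
    by_contra h2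
    exact W.no u c l.mem_CC (l.eq_one W.w h2)
  obtain ⟨r, hr, hrt, hs⟩ := h2
  obtain ⟨g, hg⟩ := W.cls t z ht.2.1 hz
  refine ⟨g * r * g⁻¹, ?_, ?_⟩
  · rw [← hg]
    calc g * r * g⁻¹ * (g * t * g⁻¹) = g * (r * t) * g⁻¹ := by group
      _ = g * (t * r) * g⁻¹ := by rw [hrt]
      _ = _ := by group
  · have := hs.conj W.w g
    rwa [hg] at this

theorem full {F : Frame Om z K1 K2 a b} {u v : Fin 3 × Fin 3} (hu : u ∈ D0 Om z a b) (hv : v ∈ D0 Om z a b)
    (hu2 : u.2 = 0) (hu1 : u.1 ≠ 0) (hv1 : v.1 = 0) (hv2 : v.2 ≠ 0) : False := by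
  obtain ⟨w, hw⟩ := W.one F
  apply hw
  have h := W.w
  have h0 := D0.zero h F (W.lab F.k1.inZ)
  have k1 : (w.1, (0 : Fin 3)) ∈ D0 Om z a b := by
    have key : ∀ u w : Fin 3 × Fin 3, u.2 = 0 → u.1 ≠ 0 → (w.1, (0 : Fin 3)) = 0 ∨ (w.1, (0 : Fin 3)) = u ∨
        (w.1, (0 : Fin 3)) = -u := by decide
    rcases key u w hu2 hu1 with e | e | e <;> rw [e]
    · exact h0
    · exact hu
    · exact D0.neg hu
  have k2 : ((0 : Fin 3), w.2) ∈ D0 Om z a b := by
    have key : ∀ v w : Fin 3 × Fin 3, v.1 = 0 → v.2 ≠ 0 → ((0 : Fin 3), w.2) = 0 ∨ ((0 : Fin 3), w.2) = v ∨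
        ((0 : Fin 3), w.2) = -v := by decide
    rcases key v w hv1 hv2 with e | e | e <;> rw [e]
    · exact h0
    · exact hv
    · exact D0.neg hv
  have k3 := D0.add h F k1 k2
  have e : (w.1, (0 : Fin 3)) + ((0 : Fin 3), w.2) = w := by
    apply Prod.ext
    · exact add_zero _
    · exact zero_add _
  rwa [e] at k3

/-- no translation of weight one -/
theorem no_weight (F : Frame Om z K1 K2 a b) {v : Fin 3 × Fin 3} (hv : v ∈ D0 Om z a b) :
    (v.1 = 0 → v.2 = 0) ∧ (v.2 = 0 → v.1 = 0) := by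
  have h := W.w
  obtain ⟨g, hg, hs⟩ := W.exists_sw F.k1.inZ
  rcases F.act_cases h hg with ⟨h1, -⟩ | ⟨-, -, σ, τ, h1, h2⟩
  · exact absurd h1 (hs K1 F.k1)
  have h3 := D0.uswap h F hg h1 h2 hv
  constructor
  · intro hv1
    by_contra hv2
    rw [hv1, sub_self] at h3
    exact W.full (F := F) h3 hv rfl (fun e => hv2 (τ.injective (sub_eq_zero.1 e))) hv1 hv2
  · intro hv2
    by_contra hv1
    rw [hv2, sub_self] at h3
    exact W.full (F := F) hv h3 hv2 hv1 rfl (fun e => hv1 (σ.injective (sub_eq_zero.1 e)))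

theorem diag_iff (F : Frame Om z K1 K2 a b) (h11 : ((1 : Fin 3), (1 : Fin 3)) ∈ D0 Om z a b) (v : Fin 3 × Fin 3) :
    v ∈ D0 Om z a b ↔ v.1 = v.2 := by
  have h := W.w
  have hii : ∀ i : Fin 3, (i, i) ∈ D0 Om z a b := by
    intro i
    have key : ∀ i : Fin 3, ((i, i) : Fin 3 × Fin 3) = 0 ∨ ((i, i) : Fin 3 × Fin 3) = (1, 1) ∨
        ((i, i) : Fin 3 × Fin 3) = -(1, 1) := by decide
    rcases key i with e | e | e <;> rw [e]
    · exact D0.zero h F (W.lab F.k1.inZ)
    · exact h11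
    · exact D0.neg h11
  constructor
  · intro hv
    have h1 := D0.add h F hv (D0.neg (hii v.1))
    have h2 := (W.no_weight F h1).1 (by show v.1 + -v.1 = 0; exact add_neg_cancel _)
    have h3 : v.2 + -v.1 = 0 := h2
    exact (sub_eq_zero.1 (by rw [sub_eq_add_neg]; exact h3)).symm
  · intro hv
    have e : v = (v.1, v.1) := Prod.ext rfl hv.symm
    rw [e]; exact hii _

/-- all labels have the same directions -/
theorem dc_eq (F : Frame Om z K1 K2 a b) {p : Fin 3 × Fin 3} (hp : p ∈ DC Om z a b c) (hc' : c' ∈ CC Om z) :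
    p ∈ DC Om z a b c' := by
  have h := W.w
  obtain ⟨q, hq⟩ := CC.exists_dir h F hc'
  obtain ⟨g, hg⟩ := tra_of_dir h F hq hp
  have h1 := (D0.iff h F hq).1 (W.tra F g _ hg)
  rwa [add_sub_cancel] at h1

end UW

theorem DC.swap_mem (h : W2 Om) (P : HP Om z s K x) {p : Fin 3 × Fin 3}
    (hp : p ∈ DC Om z x (fun i => s * x i * s⁻¹) c) :
    (p.2, p.1) ∈ DC Om z x (fun i => s * x i * s⁻¹) (s * c * s⁻¹) := by
  obtain ⟨t, lt, hd⟩ := hp
  have hsz : s * z = z * s := P.pr.comm.symm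
  refine ⟨_, lt.conj_comm h hsz, ?_⟩
  have h1 : Act z x (fun i => s * x i * s⁻¹) s 1 := fun i => Or.inl rfl
  have h2 : Act z (fun i => s * x i * s⁻¹) x s 1 := fun i => Or.inl (by
    show s * (s * x i * s⁻¹) * s⁻¹ = x i
    exact P.tt h _)
  have h3 := (P.uframe h).dir_conj' h hsz h1 h2 hd
  have e : s * t * s⁻¹ * (s * c * s⁻¹) = s * (t * c) * s⁻¹ := by group
  rw [e]; exact h3

/-- in coordinates adapted to `s` the directions of all labels are `(i, i)` -/
theorem UW.dc_iff_of (W : UW Om) (P : HP Om z s K x)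
    (h11 : ((1 : Fin 3), (1 : Fin 3)) ∈ D0 Om z x (fun i => s * x i * s⁻¹)) (hc : c ∈ CC Om z) (p : Fin 3 × Fin 3) :
    p ∈ DC Om z x (fun i => s * x i * s⁻¹) c ↔ p.1 = p.2 := by
  have h := W.w
  have F := P.uframe h
  obtain ⟨p0, hp0⟩ := CC.exists_dir h F hc
  have h1 := W.dc_eq F (DC.swap_mem h P hp0) hc
  have h2 := (W.diag_iff F h11 _).1 (D0.sub_mem hp0 h1)
  have h3 : p0.1 = p0.2 := by
    have key : ∀ p : Fin 3 × Fin 3, p.2 - p.1 = p.1 - p.2 → p.1 = p.2 := by decide
    exact key p0 h2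
  have e : p0 + (p - p0) = p := add_sub_cancel _ _
  rw [← e, ← D0.iff h F hp0, W.diag_iff F h11, e]
  show p.1 - p0.1 = p.2 - p0.2 ↔ _
  rw [h3]
  exact sub_left_inj

/-! ### U3 (2): the translation of a joined pair -/

namespace FP

theorem xS (F : FP Om z t K x L l) (h : W2 Om) (hij : i ≠ j) :
    x i * (t * ee z t x j) * (x i)⁻¹ = t * ee z t x (th3 i j) := by
  calc x i * (t * ee z t x j) * (x i)⁻¹ = (x i * t * (x i)⁻¹) * (x i * ee z t x j * (x i)⁻¹) := by group
    _ = t * ee z t x i * (z * ee z t x j) := by rw [F.P.conj_t h, F.P.x_e_ne h hij]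
    _ = t * (ee z t x i * z) * ee z t x j := by group
    _ = t * z * (ee z t x i * ee z t x j) := by rw [F.P.e_z h]; group
    _ = t * (z * (z * ee z t x (th3 i j))) := by rw [F.P.ee_ne h hij]; group
    _ = _ := by rw [F.P.q.zzx]

theorem xS_self (F : FP Om z t K x L l) (h : W2 Om) (i : Fin 3) :
    x i * (t * ee z t x i) * (x i)⁻¹ = t := by
  calc x i * (t * ee z t x i) * (x i)⁻¹ = (x i * t * (x i)⁻¹) * (x i * ee z t x i * (x i)⁻¹) := by group
    _ = t * (ee z t x i * ee z t x i) := by rw [F.P.conj_t h, F.P.x_e_self h, mul_assoc]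
    _ = t := by rw [F.P.e_sq h, mul_one]

theorem lS (F : FP Om z t K x L l) (h : W2 Om) (hij : i ≠ j) :
    l i * (t * ee z t x j) * (l i)⁻¹ = t * ee z t x (th3 i j) := by
  rw [F.eq, F.eq]; exact F.symm.xS h hij

theorem lS_self (F : FP Om z t K x L l) (h : W2 Om) (i : Fin 3) :
    l i * (t * ee z t x i) * (l i)⁻¹ = z := by
  rw [F.eq]; exact F.symm.xS_self h i

/-- U3 (2) -/
theorem exists_tra (F : FP Om z t K x L l) (h : W2 Om) :
    ∃ g, g * t = t * g ∧ Tra z x (fun i => t * x i * t⁻¹) g (1, 1) := by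
  have hzt : z * t = t * z := F.P.pr.comm
  obtain ⟨g, hg⟩ : ∃ g, g = x 1 * l 0 * x 0 * x 1 * l 1 := ⟨_, rfl⟩
  have hc : ∀ y : G, g * y * g⁻¹ = x 1 * (l 0 * (x 0 * (x 1 * (l 1 * y * (l 1)⁻¹) * (x 1)⁻¹) * (x 0)⁻¹) * (l 0)⁻¹) *
      (x 1)⁻¹ := by
    intro y; rw [hg]; group
  have xz : ∀ i, x i * z * (x i)⁻¹ = z := fun i => by rw [← F.P.q.zc i, mul_inv_cancel_right]
  have lt : ∀ i, l i * t * (l i)⁻¹ = t := fun i => by rw [← F.Q.q.zc i, mul_inv_cancel_right]
  have xt : ∀ i, x i * t * (x i)⁻¹ = t * ee z t x i := F.P.conj_t h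
  have lz : ∀ i, l i * z * (l i)⁻¹ = t * ee z t x i := F.conj_z h
  have gz : g * z * g⁻¹ = z := by
    rw [hc, lz, F.xS_self h, xt, F.lS_self h, xz]
  have gt : g * t * g⁻¹ = t := by
    rw [hc, lt, xt, F.xS h (i := 0) (j := 1) (by decide), F.lS h (i := 0) (by decide)]
    exact F.xS_self h 1
  have gs : ∀ i, g * (t * ee z t x i) * g⁻¹ = t * ee z t x (i + 1) := by
    intro i
    rw [hc]
    fin_cases i
    · show x 1 * (l 0 * (x 0 * (x 1 * (l 1 * (t * ee z t x 0) * (l 1)⁻¹) * (x 1)⁻¹) * (x 0)⁻¹) * (l 0)⁻¹) * (x 1)⁻¹ =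
        t * ee z t x 1
      rw [F.lS h (i := 1) (by decide), F.xS h (i := 1) (by decide)]
      have e : th3 1 (th3 1 0) = 0 := by decide
      rw [e, F.xS_self h, lt, xt]
    · show x 1 * (l 0 * (x 0 * (x 1 * (l 1 * (t * ee z t x 1) * (l 1)⁻¹) * (x 1)⁻¹) * (x 0)⁻¹) * (l 0)⁻¹) * (x 1)⁻¹ =
        t * ee z t x 2
      rw [F.lS_self h, xz, xz, lz, F.xS h (i := 1) (by decide)]
      rfl
    · show x 1 * (l 0 * (x 0 * (x 1 * (l 1 * (t * ee z t x 2) * (l 1)⁻¹) * (x 1)⁻¹) * (x 0)⁻¹) * (l 0)⁻¹) * (x 1)⁻¹ =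
        t * ee z t x 0
      rw [F.lS h (i := 1) (by decide), F.xS h (i := 1) (by decide)]
      have e : th3 1 (th3 1 2) = 2 := by decide
      rw [e, F.xS h (i := 0) (by decide), F.lS h (i := 0) (by decide), F.xS h (i := 1) (by decide)]
      rfl
  -- the action on `K`
  have key : ∀ g, g * z * g⁻¹ = z → g * t * g⁻¹ = t → (∀ i, g * (t * ee z t x i) * g⁻¹ = t * ee z t x (i + 1)) →
      cj g K = K → g * t = t * g ∧ Tra z x (fun i => t * x i * t⁻¹) g (1, 1) := by
    intro g gz gt gs hK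
    rw [mul_inv_eq_iff_eq_mul] at gz gt
    obtain ⟨σ, hσ⟩ := F.P.q.exists_act F.P.q hK gz
    have e1 : ∀ i, σ i = i + 1 := by
      intro i
      apply F.P.e_inj h
      rw [← F.P.act_ee gz gt hσ i]
      have h1 := gs i
      have e : g * (t * ee z t x i) * g⁻¹ = t * (g * ee z t x i * g⁻¹) := by
        calc g * (t * ee z t x i) * g⁻¹ = (g * t) * ee z t x i * g⁻¹ := by group
          _ = _ := by rw [gt]; group
      rw [e] at h1
      exact mul_left_cancel h1
    refine ⟨gt, gz, ?_, ?_⟩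
    · intro i
      have h1 := hσ i
      rw [e1] at h1
      exact h1
    · intro i
      have h1 := hσ i
      rw [e1] at h1
      have e : g * (t * x i * t⁻¹) * g⁻¹ = t * (g * x i * g⁻¹) * t⁻¹ := by
        have e2 : t⁻¹ * g⁻¹ = g⁻¹ * t⁻¹ := by rw [← mul_inv_rev, ← mul_inv_rev, gt]
        calc g * (t * x i * t⁻¹) * g⁻¹ = (g * t) * x i * (t⁻¹ * g⁻¹) := by group
          _ = (t * g) * x i * (g⁻¹ * t⁻¹) := by rw [gt, e2]
          _ = _ := by group
      show g * (t * x i * t⁻¹) * g⁻¹ = t * x (i + 1) * t⁻¹ ∨ g * (t * x i * t⁻¹) * g⁻¹ = z * (t * x (i + 1) * t⁻¹)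
      rw [e]
      rcases h1 with h1 | h1 <;> rw [h1]
      · left; rfl
      · right
        calc t * (z * x (i + 1)) * t⁻¹ = (t * z) * x (i + 1) * t⁻¹ := by group
          _ = _ := by rw [← hzt]; group
  have hgz : g * z = z * g := by rwa [mul_inv_eq_iff_eq_mul] at gz
  rcases F.P.cases h (F.P.hK.cj_comm h hgz) with h1 | h1
  · exact ⟨g, key g gz gt gs h1⟩
  · have t2 : t * t = 1 := F.P.t2 h
    refine ⟨t * g, key (t * g) ?_ ?_ ?_ ?_⟩
    · calc t * g * z * (t * g)⁻¹ = t * (g * z * g⁻¹) * t⁻¹ := by group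
        _ = z := by rw [gz, ← hzt, mul_inv_cancel_right]
    · calc t * g * t * (t * g)⁻¹ = t * (g * t * g⁻¹) * t⁻¹ := by group
        _ = t := by rw [gt, mul_inv_cancel_right]
    · intro i
      calc t * g * (t * ee z t x i) * (t * g)⁻¹ = t * (g * (t * ee z t x i) * g⁻¹) * t⁻¹ := by group
        _ = t * (t * ee z t x (i + 1)) * t⁻¹ := by rw [gs]
        _ = t * (ee z t x (i + 1) * t) * t⁻¹ := by rw [F.P.e_t h]
        _ = _ := by group
    · rw [cj_mul, h1, ← cj_mul, t2, cj_one]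

end FP

/-! ### U4 -/

namespace UW

variable (W : UW Om)

include W

theorem h11 (P : HP Om z s K x) : ((1 : Fin 3), (1 : Fin 3)) ∈ D0 Om z x (fun i => s * x i * s⁻¹) := by
  have h := W.w
  obtain ⟨L, l, Q⟩ := (P.pr.symm' h W.no).exists_hp h
  rcases P.joined_or Q h W.no with ⟨l', F⟩ | D
  · obtain ⟨g, -, hg⟩ := F.exists_tra h
    exact W.tra (P.uframe h) g _ hg
  · have key : ∀ i, ((i, i) : Fin 3 × Fin 3) ∈ DC Om z x (fun i => s * x i * s⁻¹) (z * (s * ee s z l 0)) := by
      intro i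
      have hl := D.lab h i 0
      refine ⟨_, hl, ?_⟩
      left
      show z * (z * ee z s x i) * (s * ee s z l 0) * (z * (s * ee s z l 0)) = x i * (s * x i * s⁻¹)
      rw [D.P.xx_eq]
      have hzT : z * ee z s x i * z = z * (z * ee z s x i) := D.P.c_z h i
      have hzT' : s * ee s z l 0 * z = z * (s * ee s z l 0) := D.Q.c_t h 0
      have hTT' : s * ee s z l 0 * (s * ee s z l 0) = 1 := D.Q.c_sq h 0
      calc z * (z * ee z s x i) * (s * ee s z l 0) * (z * (s * ee s z l 0)) =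
          z * (z * ee z s x i) * ((s * ee s z l 0) * z) * (s * ee s z l 0) := by group
        _ = z * ((z * ee z s x i) * z) * ((s * ee s z l 0) * (s * ee s z l 0)) := by rw [hzT']; group
        _ = (z * z) * (z * ee z s x i) := by rw [hTT', hzT]; group
        _ = _ := by rw [D.P.q.z2, one_mul]
    have h1 := D0.sub_mem (key 0) (key 1)
    exact h1

/-- U4: in coordinates adapted to a p-neighbour `s` of `z` the directions of all labels are `(i, i)` -/
theorem dc_iff (P : HP Om z s K x) (hc : c ∈ CC Om z) (p : Fin 3 × Fin 3) :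
    p ∈ DC Om z x (fun i => s * x i * s⁻¹) c ↔ p.1 = p.2 := W.dc_iff_of P (W.h11 P) hc p

theorem lab_e (P : HP Om z s K x) (hc : c ∈ CC Om z) (i : Fin 3) :
    Lab Om z (z * ee z s x i * c) c ∧ Lab Om z (ee z s x i * c) c := by
  have h := W.w
  obtain ⟨t, lt, hd⟩ := (W.dc_iff P hc (i, i)).2 rfl
  have hd' : t * c = z * ee z s x i ∨ t * c = ee z s x i := by
    rcases hd with h1 | h1
    · left; rw [h1]; exact P.xx_eq i
    · right
      rw [h1]
      show z * (x i * (s * x i * s⁻¹)) = ee z s x i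
      rw [P.xx_eq, P.q.zzx]
  have lz := lt.mul h
  have ht : t = t * c * c := by rw [mul_assoc, lt.sq, mul_one]
  rcases hd' with h1 | h1
  · rw [h1] at ht
    have h2 : z * t = ee z s x i * c := by rw [ht, ← mul_assoc, P.q.zzx]
    rw [h2] at lz
    rw [ht] at lt
    exact ⟨lt, lz⟩
  · rw [h1] at ht
    have h2 : z * t = z * ee z s x i * c := by rw [ht, ← mul_assoc]
    rw [h2] at lz
    rw [ht] at lt
    exact ⟨lz, lt⟩

theorem lab_cases (P : HP Om z s K x) (lt : Lab Om z t c) :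
    ∃ i, t = z * ee z s x i * c ∨ t = ee z s x i * c := by
  have h := W.w
  obtain ⟨th, i, j, -, -, -, -, hd, -⟩ := lt.theta h (P.uframe h)
  have h1 : (i, j) ∈ DC Om z x (fun i => s * x i * s⁻¹) c := ⟨t, lt, hd⟩
  have h2 : i = j := (W.dc_iff P lt.mem_CC _).1 h1
  subst h2
  have ht : t = t * c * c := by rw [mul_assoc, lt.sq, mul_one]
  refine ⟨i, ?_⟩
  rcases hd with h1 | h1
  · left
    rw [ht, h1]
    show x i * (s * x i * s⁻¹) * c = _
    rw [P.xx_eq]
  · right
    rw [ht, h1]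
    show z * (x i * (s * x i * s⁻¹)) * c = _
    rw [P.xx_eq, P.q.zzx]

/-- two p-neighbours of `z` act in the same way on the axes -/
theorem act_eq (P : HP Om z s K x) (hp' : PR Om z s') (i : Fin 3) :
    s' * x i * s'⁻¹ = s * x i * s⁻¹ ∨ s' * x i * s'⁻¹ = z * (s * x i * s⁻¹) := by
  have h := W.w
  have P' : HP Om z s' K x := ⟨hp', P.hK, P.q⟩
  obtain ⟨c, hc⟩ := W.lab P.pr.hz
  obtain ⟨j, hj⟩ := W.lab_cases P (W.lab_e P' hc i).1
  have hzz := P.q.zzx
  have e1 : ∃ e, (e = 1 ∨ e = z) ∧ x i * (s' * x i * s'⁻¹) = e * (x j * (s * x j * s⁻¹)) := by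
    rw [P'.xx_eq, P.xx_eq]
    rcases hj with h1 | h1
    · exact ⟨1, Or.inl rfl, by rw [mul_right_cancel h1, one_mul]⟩
    · exact ⟨z, Or.inr rfl, by rw [mul_right_cancel h1, hzz]⟩
  obtain ⟨e, he, h1⟩ := e1
  have heK : e ∈ K := by rcases he with rfl | rfl; exacts [one_mem _, P.q.zmem]
  have heK' : e ∈ cj s K := by rcases he with rfl | rfl; exacts [one_mem _, P.q'.zmem]
  have hec : ∀ k ∈ K, e * k = k * e := by
    intro k hk
    rcases he with rfl | rfl
    · rw [one_mul, mul_one]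
    · exact P.q.zcomm hk
  have hs'K : s' * x i * s'⁻¹ ∈ cj s K := by
    have h2 : s' * x i * s'⁻¹ ∈ cj s' K := conj_mem_cj (P.q.mem i)
    have h3 : cj s' K = cj s K := by
      rcases P.cases h (P'.hK' h) with h4 | h4
      · exact absurd h4 (hp'.sw K P.hK)
      · exact h4
    rwa [h3] at h2
  -- `(x j)⁻¹ x i ∈ K ∩ K^s`
  have h2 : (x j)⁻¹ * x i = e * (s * x j * s⁻¹) * (s' * x i * s'⁻¹)⁻¹ := by
    rw [eq_mul_inv_iff_mul_eq, mul_assoc, h1, ← mul_assoc, ← hec _ (inv_mem (P.q.mem j)), mul_assoc, inv_mul_cancel_left]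
  have h3 : (x j)⁻¹ * x i = 1 ∨ (x j)⁻¹ * x i = z := by
    refine P.hK.inf (P.hK' h) h P.ne' (mul_mem (inv_mem (P.q.mem j)) (P.q.mem i)) ?_
    rw [h2]
    exact mul_mem (mul_mem heK' (P.q'.mem j)) (inv_mem hs'K)
  have h4 : i = j := by
    apply P.q.inj
    rcases h3 with h3 | h3
    · left; exact (inv_mul_eq_one.1 h3).symm
    · right
      rw [inv_mul_eq_iff_eq_mul] at h3
      rw [h3, P.q.zc]
  subst h4
  rcases he with rfl | rfl
  · left
    rw [one_mul] at h1
    exact mul_left_cancel h1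
  · right
    have e5 : ∀ Y : G, e * (x i * Y) = x i * (e * Y) := fun Y => by rw [← mul_assoc, P.q.zc, mul_assoc]
    rw [e5] at h1
    exact mul_left_cancel h1

theorem cx_of_cent (P : HP Om z s K x) (hp' : PR Om z s') (hk : ∀ k ∈ K, s * s' * k * (s * s')⁻¹ = k) :
    s * s' ∈ CX Om z := by
  have h := W.w
  have s2 : s * s = 1 := P.t2 h
  have si : s⁻¹ = s := P.tinv h
  have s2' : s' * s' = 1 := hp'.t2 h
  have si' : s'⁻¹ = s' := hp'.tinv h
  have hmm : ∀ m ∈ K, s' * m * s'⁻¹ = s * m * s⁻¹ := by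
    intro m hm
    have h1 := hk m hm
    calc s' * m * s'⁻¹ = s⁻¹ * (s * s' * m * (s * s')⁻¹) * s := by group
      _ = s⁻¹ * m * s := by rw [h1]
      _ = s * m * s⁻¹ := by rw [si]
  rw [mem_CX]
  intro M hM k hkM
  rcases P.cases h hM with rfl | rfl
  · have := hk k hkM
    rwa [mul_inv_eq_iff_eq_mul] at this
  · obtain ⟨m, hm, rfl⟩ : ∃ m ∈ K, s * m * s⁻¹ = k := by
      obtain ⟨m, hm, rfl⟩ := hkM; exact ⟨m, hm, rfl⟩
    have h1 : s * s' * (s * m * s⁻¹) * (s * s')⁻¹ = s * m * s⁻¹ := by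
      rw [← hmm m hm]
      calc s * s' * (s' * m * s'⁻¹) * (s * s')⁻¹ = s * (s' * s') * m * (s * (s' * s'))⁻¹ := by group
        _ = s' * m * s'⁻¹ := by rw [s2', mul_one, hmm m hm]
    rwa [mul_inv_eq_iff_eq_mul] at h1

/-- U4: two p-neighbours of `z` are congruent modulo `K X_z` -/
theorem exists_conj (P : HP Om z s K x) (hp' : PR Om z s') :
    s * s' ∈ CX Om z ∨ ∃ j, s * (x j * s' * (x j)⁻¹) ∈ CX Om z := by
  have h := W.w
  have hyz : s * s' * z = z * (s * s') := by
    rw [mul_assoc, ← hp'.comm, ← mul_assoc, ← P.pr.comm, mul_assoc]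
  have hact : Act z x x (s * s') 1 := by
    intro i
    have e : s * s' * x i * (s * s')⁻¹ = s * (s' * x i * s'⁻¹) * s⁻¹ := by group
    rw [e]
    rcases W.act_eq P hp' i with h1 | h1
    · left; rw [h1]; exact P.tt h _
    · right
      rw [h1]
      calc s * (z * (s * x i * s⁻¹)) * s⁻¹ = (s * z) * (s * x i * s⁻¹) * s⁻¹ := by group
        _ = z * (s * (s * x i * s⁻¹) * s⁻¹) := by rw [← P.pr.comm]; group
        _ = _ := by rw [P.tt h]; rfl
  rcases P.q.inner_cases (hact.inner P.q hyz) with h1 | ⟨j, h1⟩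
  · exact Or.inl (W.cx_of_cent P hp' h1)
  · right
    refine ⟨j, W.cx_of_cent P (hp'.conj_comm h (P.q.zc j).symm) ?_⟩
    intro k hk
    have e : s * (x j * s' * (x j)⁻¹) * k * (s * (x j * s' * (x j)⁻¹))⁻¹ =
        (s * x j * s⁻¹) * (s * s' * ((x j)⁻¹ * k * x j) * (s * s')⁻¹) * (s * x j * s⁻¹)⁻¹ := by group
    have hk' : (x j)⁻¹ * k * x j ∈ K := mul_mem (mul_mem (inv_mem (P.q.mem j)) hk) (P.q.mem j)
    rw [e, h1 _ hk']
    have e2 : x j * ((x j)⁻¹ * k * x j) * (x j)⁻¹ = k := by group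
    rw [e2, mul_inv_eq_iff_eq_mul]
    exact (P.hK.comm (P.hK' h) h P.ne' hk (P.q'.mem j)).symm

/-- no pairs of type f -/
theorem no_ft (hf : FT Om z t) : False := by
  have h := W.w
  have hn := W.no
  -- `z` is of type f with respect to `t`
  have hf' : FT Om t z := by
    rcases tcases h hf.fr.ht hf.fr.hz hf.fr.ne.symm hf.fr.comm.symm with h1 | h1 | h1
    · exact ((h1.symm' h hn).not_fr hf.fr).elim
    · exact h1
    · exact (hf.ninn (h1.symm h).2.2.2.2).elim
  obtain ⟨K1, h1⟩ := hf.fr.hz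
  obtain ⟨K2, h2, hne, -⟩ := h1.other h
  obtain ⟨a, qa, -, -, ha⟩ := hf.coord h h1
  obtain ⟨b, qb, -, -, hb⟩ := hf.coord h h2
  obtain ⟨-, r2, hr2, e2⟩ := hf.inv_axis h h2 (qb.mem 2) (qb.sq 2) (Or.inr hb)
  obtain ⟨-, r1, hr1, e1⟩ := hf.inv_axis h h1 (qa.mem 2) (qa.sq 2) (Or.inr ha)
  have hza : z * a 2 * (z * a 2) = z := by
    calc z * a 2 * (z * a 2) = z * (a 2 * z) * a 2 := by group
      _ = z * (z * a 2) * a 2 := by rw [qa.zc]
      _ = z := by rw [qa.zzx, qa.sq]
  have htz : t * z = z * t := hf.fr.comm.symm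
  obtain ⟨-, r3, hr3, e3⟩ := hf.inv_axis h h1 (mul_mem qa.zmem (qa.mem 2)) hza (Or.inr (by
    calc t * (z * a 2) * t⁻¹ = (t * z) * a 2 * t⁻¹ := by group
      _ = z * (t * a 2 * t⁻¹) := by rw [htz]; group
      _ = _ := by rw [ha]))
  obtain ⟨w, hw⟩ : ∃ w, w = a 2 * b 2 := ⟨_, rfl⟩
  have hwR : w ∈ RZ Om z := by rw [hw]; exact mul_mem (h1.le_RZ (qa.mem 2)) (h2.le_RZ (qb.mem 2))
  have hab : a 2 * b 2 = b 2 * a 2 := h1.comm h2 h hne (qa.mem 2) (qb.mem 2)
  have hws : w * w = 1 := by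
    rw [hw]
    calc a 2 * b 2 * (a 2 * b 2) = a 2 * (b 2 * a 2) * b 2 := by group
      _ = (a 2 * a 2) * (b 2 * b 2) := by rw [← hab]; group
      _ = 1 := by rw [qa.sq, qb.sq, qa.z2]
  have hwt : w * t = t * w := by
    have e : t * w * t⁻¹ = w := by
      rw [hw]
      calc t * (a 2 * b 2) * t⁻¹ = (t * a 2 * t⁻¹) * (t * b 2 * t⁻¹) := by group
        _ = z * a 2 * (z * b 2) := by rw [ha, hb]
        _ = z * (a 2 * z) * b 2 := by group
        _ = z * (z * a 2) * b 2 := by rw [qa.zc]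
        _ = _ := by rw [qa.zzx]
    rw [mul_inv_eq_iff_eq_mul] at e
    exact e.symm
  have hwz : w * z = z * w := RZ_le_centralizer h hwR
  have hconj : ∀ r ∈ K1, ∀ y ∈ K1, r * t * r⁻¹ = t * y → InZ Om (t * (y * b 2)) := by
    intro r hr y hy e
    have e4 : r * r2 * t * (r * r2)⁻¹ = t * (y * b 2) := by
      have h5 : r * b 2 * r⁻¹ = b 2 := by
        rw [h1.comm h2 h hne hr (qb.mem 2), mul_inv_cancel_right]
      calc r * r2 * t * (r * r2)⁻¹ = r * (r2 * t * r2⁻¹) * r⁻¹ := by group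
        _ = (r * t * r⁻¹) * (r * b 2 * r⁻¹) := by rw [e2]; group
        _ = _ := by rw [e, h5]; group
    rw [← e4]; exact hf.fr.ht.conj h _
  have hs : InZ Om (t * w) := by rw [hw]; exact hconj r1 hr1 _ (qa.mem 2) e1
  have hs' : InZ Om (t * (z * w)) := by
    have := hconj r3 hr3 _ (mul_mem qa.zmem (qa.mem 2)) e3
    rw [hw, ← mul_assoc z]; exact this
  have hw1 : w ≠ 1 := by
    rw [hw]; intro h5
    have h6 : a 2 = (b 2)⁻¹ := eq_inv_of_mul_eq_one_left h5
    rcases h1.inf h2 h hne (qa.mem 2) (by rw [h6]; exact inv_mem (qb.mem 2)) with h7 | h7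
    · exact qa.ne_one 2 h7
    · exact qa.ne_z 2 h7
  have hwz' : w ≠ z := by
    rw [hw]; intro h5
    have h6 : a 2 = z * (b 2)⁻¹ := by rw [← h5]; group
    rcases h1.inf h2 h hne (qa.mem 2) (by rw [h6]; exact mul_mem qb.zmem (inv_mem (qb.mem 2))) with h7 | h7
    · exact qa.ne_one 2 h7
    · exact qa.ne_z 2 h7
  have t2 : t * t = 1 := hf.fr.ht.z2 h
  have z2 : z * z = 1 := qa.z2
  have hzwt : z * w * t = t * (z * w) := by rw [mul_assoc, hwt, ← mul_assoc, ← htz, mul_assoc]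
  have p1 : PR Om t (t * w) := by
    refine pr_of_not h hf.fr.ht hs (fun e => hw1 (mul_eq_left.1 e.symm)) ?_ ?_
    · rw [mul_assoc, hwt]
    · rw [← mul_assoc, t2, one_mul]
      intro h5; exact hwz' (hn.eq_of_RZ h hf.fr.hz h5 hwR)
  have hzw1 : z * w ≠ 1 := by
    intro h5
    apply hwz'
    have := eq_inv_of_mul_eq_one_right h5
    rw [this, qa.zinv]
  have p2 : PR Om t (t * (z * w)) := by
    refine pr_of_not h hf.fr.ht hs' (fun e => hzw1 (mul_eq_left.1 e.symm)) ?_ ?_
    · rw [mul_assoc, hzwt]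
    · rw [← mul_assoc, t2, one_mul]
      intro h5
      have h6 := hn.eq_of_RZ h hf.fr.hz h5 (mul_mem (z_mem_RZ hf.fr.hz h) hwR)
      exact hw1 (mul_eq_left.1 h6)
  obtain ⟨L, l, P⟩ := p1.exists_hp h
  -- `z` acts on `L` modulo `t` trivially
  have hzs : z = (t * (z * w)) * (t * w) := by
    calc z = z * (w * w) := by rw [hws, mul_one]
      _ = z * w * w * (t * t) := by rw [t2]; group
      _ = z * w * (w * t) * t := by group
      _ = z * w * (t * w) * t := by rw [hwt]
      _ = (z * w * t) * (w * t) := by group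
      _ = _ := by rw [hzwt, hwt]
  obtain ⟨σ, hσ, -, hσ1⟩ := hf'.act h P.hK P.q
  apply hσ1
  refine hσ.unique P.q ?_
  intro i
  rw [hzs]
  have e4 : t * (z * w) * (t * w) * l i * (t * (z * w) * (t * w))⁻¹ =
      (t * (z * w)) * ((t * w) * l i * (t * w)⁻¹) * (t * (z * w))⁻¹ := by group
  rw [e4]
  have P2 : HP Om t (t * (z * w)) L l := ⟨p2, P.hK, P.q⟩
  rcases W.act_eq P2 p1 i with h5 | h5
  · left; rw [h5]; exact P2.tt h _
  · right
    rw [h5]
    have hct : t * (z * w) * t = t * (t * (z * w)) := by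
      rw [mul_assoc, hzwt]
    calc t * (z * w) * (t * (t * (z * w) * l i * (t * (z * w))⁻¹)) * (t * (z * w))⁻¹ =
        (t * (z * w) * t) * ((t * (z * w)) * l i * (t * (z * w))⁻¹) * (t * (z * w))⁻¹ := by group
      _ = t * ((t * (z * w)) * ((t * (z * w)) * l i * (t * (z * w))⁻¹) * (t * (z * w))⁻¹) := by rw [hct]; group
      _ = _ := by rw [P2.tt h]; rfl

/-- commuting elements of `Z` are of type p or I -/
theorem pr_or_ti (hz : InZ Om z) (ht : InZ Om t) (hne : z ≠ t) (hc : z * t = t * z) : PR Om z t ∨ TI Om z t := by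
  rcases tcases W.w hz ht hne hc with h1 | h1 | h1
  · exact Or.inl h1
  · exact (W.no_ft h1).elim
  · exact Or.inr h1

end UW

end

end Cfsg.Agent.Cit.Nil.RTwo
end

-- part: Cit/Nil/ROne/TauIn
section
set_option linter.all false
open scoped Cfsg.Agent.FastGrp

/-!
# `r = 1`, (5.0): TAU inside a subgroup

`tau_in`: a member `L ≤ D` of order 8, `v ∈ L` of order 4, `N_D(L) ≤ N(⟨v⟩)`: there is `f : D → ±1` with `f = 1` on `⟨v⟩`
and `f = -1` on `L \ ⟨v⟩`.
-/

set_option autoImplicit false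
set_option linter.style.haveILetI false
set_option linter.unusedSectionVars false

namespace Cfsg.Agent.Cit.ROne

open Subgroup Cfsg Cfsg.Agent.Cit Cfsg.Agent.Cit.Tau

variable {G : Type*} [Group G]

/-- an invariant subset of `Om` -/
theorem hyp_of_sub {Om Om' : Set (Subgroup G)} (h : Hyp Om) (hs : ∀ K ∈ Om', K ∈ Om)
    (hc : ∀ K ∈ Om', ∀ g, cj g K ∈ Om') : Hyp Om' where
  conj := hc
  quat K hK := h.quat K (hs K hK)
  uniq K hK := h.uniq K (hs K hK)
  sub K hK := h.sub K (hs K hK)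
  h2 K hK L hL := h.h2 K (hs K hK) L (hs L hL)
  h3 K hK L hL := h.h3 K (hs K hK) L (hs L hL)

theorem hyp_cls {Om : Set (Subgroup G)} (h : Hyp Om) {K : Subgroup G} (hK : K ∈ Om) : Hyp (Cit.cls K) := by
  refine hyp_of_sub h ?_ ?_
  · rintro _ ⟨g, rfl⟩
    exact h.conj K hK g
  · rintro _ ⟨g, rfl⟩ x
    exact ⟨x * g, by rw [cj_mul]⟩

variable [Finite G] {Om : Set (Subgroup G)} {D L : Subgroup G} {v : G}

/-- in a member which is a 2-group of order 8 an element of order 4 is centralised by its powers only -/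
theorem mem_zpowers_of_comm (h : Hyp Om) (hL : L ∈ Om) (h8 : Nat.card L = 8) (hv : v ∈ L) (hv4 : orderOf v = 4)
    {x : G} (hx : x ∈ L) (hc : x * v = v * x) : x ∈ zpowers v := by
  have h2 : IsPGroup 2 L := IsPGroup.of_card (n := 3) (by rw [h8]; norm_num)
  by_contra hn
  -- `⟨v, x⟩ = L`
  have hle : zpowers v ≤ L := zpowers_le.2 hv
  have h1 : closure ({v, x} : Set G) ≤ L := by
    rw [closure_le]
    rintro y (rfl | rfl)
    · exact hv
    · exact hx
  have h3 : zpowers v < closure ({v, x} : Set G) := by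
    refine lt_of_le_of_ne (zpowers_le.2 (subset_closure (by simp))) ?_
    intro he
    apply hn
    rw [he]
    exact subset_closure (by simp)
  have h4 : closure ({v, x} : Set G) = L := by
    apply eq_of_le_of_card_ge h1
    have h5 : Nat.card (zpowers v) < Nat.card (closure ({v, x} : Set G)) :=
      lt_of_le_of_ne (card_le_of_le h3.le) (fun e => h3.ne (eq_of_le_of_card_ge h3.le e.ge))
    rw [Nat.card_zpowers, hv4] at h5
    have h6 : Nat.card (closure ({v, x} : Set G)) ∣ 8 := by rw [← h8]; exact card_dvd_of_le h1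
    rw [h8]
    have h7 := Nat.le_of_dvd (by norm_num) h6
    interval_cases h9 : Nat.card (closure ({v, x} : Set G)) <;> omega
  obtain ⟨a, ha, b, hb, hab⟩ := h.exists_comm_eq hL h2
  have hcomm : ∀ y ∈ L, ∀ w ∈ L, y * w = w * y := by
    have h5 : closure ({v, x} : Set G) ≤ centralizer ((closure ({v, x} : Set G) : Subgroup G) : Set G) := by
      rw [centralizer_closure, closure_le]
      rintro y (rfl | rfl)
      · rw [SetLike.mem_coe, mem_centralizer_iff]
        rintro w (rfl | rfl)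
        · rfl
        · exact hc
      · rw [SetLike.mem_coe, mem_centralizer_iff]
        rintro w (rfl | rfl)
        · exact hc.symm
        · rfl
    rw [h4] at h5
    intro y hy w hw
    exact (mem_centralizer_iff.1 (h5 hy) w hw).symm
  have h10 : zz L = 1 := by
    rw [← hab, hcomm a ha b hb]; group
  exact h.zz_ne hL h10

/-- **(5.0)** -/
theorem tau_in (h : Hyp Om) (hL : L ∈ Om) (h8 : Nat.card L = 8) (hLD : L ≤ D) (hv : v ∈ L) (hv4 : orderOf v = 4)
    (hN : ∀ g ∈ D, g ∈ normalizer (L : Set G) → g ∈ normalizer (zpowers v : Set G)) :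
    ∃ f : ↥D →* ℤˣ, ∀ (x : G) (hx : x ∈ L), f ⟨x, hLD hx⟩ = 1 ↔ x ∈ zpowers v := by
  have h2 : IsPGroup 2 L := IsPGroup.of_card (n := 3) (by rw [h8]; norm_num)
  set L' : Subgroup ↥D := L.subgroupOf D with hL'
  have hL'm : L' ∈ restr Om D := subgroupOf_mem_restr hL hLD
  have hH : Hyp (Cit.cls L') := hyp_cls (h.restr D) hL'm
  have h2' : IsPGroup 2 L' := h2.comap_subtype
  have hOO : OO L' = ⊥ := OO_eq_bot_of_two h2'
  set v' : ↥D := ⟨v, hLD hv⟩ with hv'
  have hv'L : v' ∈ L' := mem_subgroupOf.2 hv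
  have hv'4 : orderOf v' = 4 := by rw [← hv4, hv', Subgroup.orderOf_mk]
  have hmem : ∀ {x : ↥D}, x ∈ zpowers v' ↔ (x : G) ∈ zpowers v := by
    intro x
    rw [mem_zpowers_iff, mem_zpowers_iff]
    constructor
    · rintro ⟨k, hk⟩
      exact ⟨k, by rw [← hk]; rfl⟩
    · rintro ⟨k, hk⟩
      exact ⟨k, Subtype.ext hk⟩
  have hNn : normalizer (L' : Set ↥D) ≤ normalizer (zpowers v' : Set ↥D) := by
    intro g hg
    have h3 : (g : G) ∈ normalizer (L : Set G) := by
      have key : ∀ g ∈ normalizer (L' : Set ↥D), ∀ x ∈ L, (g : G) * x * (g : G)⁻¹ ∈ L := by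
        intro g hg x hx
        exact mem_subgroupOf.1 ((mem_normalizer_iff.1 hg ⟨x, hLD hx⟩).1 (mem_subgroupOf.2 hx))
      rw [mem_normalizer_iff]
      intro x
      refine ⟨key g hg x, fun hx => ?_⟩
      have h4 := key g⁻¹ (inv_mem hg) _ hx
      have e : ((g⁻¹ : ↥D) : G) * ((g : G) * x * (g : G)⁻¹) * ((g⁻¹ : ↥D) : G)⁻¹ = x := by
        rw [Subgroup.coe_inv]; group
      rwa [e] at h4
    have h4 := hN g g.2 h3
    rw [mem_normalizer_iff] at h4 ⊢
    intro x
    rw [hmem, hmem]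
    exact h4 x
  have hU := Nil.VC.vchoice (K := L') (V := zpowers v') hNn (zpowers_le.2 hv'L) (by rw [hOO]; exact bot_le)
    (by rw [hOO, Subgroup.card_bot, mul_one, Nat.card_zpowers, hv'4]) ⟨v', mem_zpowers v', hv'4⟩
  obtain ⟨f, hf⟩ := TauMain.tau hH hU
  refine ⟨f, fun x hx => ?_⟩
  rw [hf L' (self_mem_cls L') ⟨x, hLD hx⟩ (mem_subgroupOf.2 hx)]
  have hUL : Nil.VC.Uc L' (zpowers v') L' = zpowers v' := by
    have := Nil.VC.Uc_cj (K := L') (V := zpowers v') hNn 1
    rwa [cj_one, cj_one] at this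
  have hXX : ∀ {y : ↥D}, y ∈ XX (Nil.VC.Uc L' (zpowers v')) L' ↔ y ∈ L' ∧ ∀ w ∈ Nil.VC.Uc L' (zpowers v') L',
      y * w * y⁻¹ * w⁻¹ ∈ OO L' := Iff.rfl
  rw [hXX, hUL, hOO]
  constructor
  · rintro ⟨-, h3⟩
    have h4 := h3 v' (mem_zpowers v')
    rw [mem_bot, mul_inv_eq_one, mul_inv_eq_iff_eq_mul] at h4
    exact mem_zpowers_of_comm h hL h8 hv hv4 hx (congrArg Subtype.val h4)
  · intro h3
    refine ⟨mem_subgroupOf.2 hx, fun w hw => ?_⟩
    obtain ⟨k, hk⟩ := mem_zpowers_iff.1 (hmem.1 hw)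
    obtain ⟨j, hj⟩ := mem_zpowers_iff.1 h3
    rw [mem_bot, mul_inv_eq_one, mul_inv_eq_iff_eq_mul]
    apply Subtype.ext
    show x * (w : G) = w * x
    rw [← hk, ← hj, ← zpow_add, ← zpow_add, add_comm]

end Cfsg.Agent.Cit.ROne
end

-- part: Cit/Nil/RTwo/SPP
section
prune_inst 0x400000
set_option linter.all false
open scoped Cfsg.Agent.FastGrp

/-!
# Case (S) of S1309, `r = 2`, `m = 1`: `Z_c ∩ C(z)` (the file F2 of section 12)

`SW.ppAll (S : SW Om) (D : DchAll Om) : PPAll Om`: the members of `Z_c ∩ C(z)` commute, there are 15 of them,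
hyperbolic lines.
-/

set_option autoImplicit false
set_option linter.style.haveILetI false
set_option linter.unusedSectionVars false
set_option maxHeartbeats 400000

namespace Cfsg.Agent.Cit.Nil.RTwo

open Subgroup Cfsg Cit

variable {G : Type*} [Group G]

section

variable [Finite G] {Om : Set (Subgroup G)} {K K1 K2 L M L1 L2 : Subgroup G} {z t u v g r s s' y w w' c c' : G}
  {a b x l : Fin 3 → G} {i j i' j' : Fin 3}

/-! ### General facts on p-neighbours with the same graph -/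

namespace HP

theorem frameS (P : HP Om z t K x) (h : W2 Om) : Frame Om z K (cj t K) x (fun i => t * x i * t⁻¹) :=
  ⟨P.hK, P.hK' h, P.ne', P.q, P.q'⟩

theorem mul_mem_CX (h : W2 Om) (P : HP Om z s K x) (hp' : PR Om z s') (hmm : ∀ m ∈ K, s' * m * s'⁻¹ = s * m * s⁻¹) :
    s * s' ∈ CX Om z := by
  have s2 : s * s = 1 := P.t2 h
  have s2' : s' * s' = 1 := hp'.t2 h
  rw [mem_CX]
  intro M hM k hkM
  rw [← mul_inv_eq_iff_eq_mul]
  rcases P.cases h hM with rfl | rfl
  · calc s * s' * k * (s * s')⁻¹ = s * (s' * k * s'⁻¹) * s⁻¹ := by group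
      _ = s * (s * k * s⁻¹) * s⁻¹ := by rw [hmm k hkM]
      _ = k := P.tt h k
  · obtain ⟨m, hm, rfl⟩ : ∃ m ∈ K, s * m * s⁻¹ = k := by
      obtain ⟨m, hm, rfl⟩ := hkM; exact ⟨m, hm, rfl⟩
    calc s * s' * (s * m * s⁻¹) * (s * s')⁻¹ = s * s' * (s' * m * s'⁻¹) * (s * s')⁻¹ := by rw [hmm m hm]
      _ = s * (s' * s') * m * (s * (s' * s'))⁻¹ := by group
      _ = _ := by rw [s2', mul_one]

/-- two p-neighbours of `z` with the same graph are congruent modulo `K X_z` -/
theorem exists_conj_of (h : W2 Om) (P : HP Om z s K x) (hp' : PR Om z s')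
    (hact : ∀ i, s' * x i * s'⁻¹ = s * x i * s⁻¹ ∨ s' * x i * s'⁻¹ = z * (s * x i * s⁻¹)) :
    s * s' ∈ CX Om z ∨ ∃ j, s * (x j * s' * (x j)⁻¹) ∈ CX Om z := by
  have hyz : s * s' * z = z * (s * s') := by
    rw [mul_assoc, ← hp'.comm, ← mul_assoc, ← P.pr.comm, mul_assoc]
  have hact1 : Act z x x (s * s') 1 := by
    intro i
    have e : s * s' * x i * (s * s')⁻¹ = s * (s' * x i * s'⁻¹) * s⁻¹ := by group
    rw [e]
    rcases hact i with h1 | h1
    · left; rw [h1]; exact P.tt h _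
    · right
      rw [h1]
      calc s * (z * (s * x i * s⁻¹)) * s⁻¹ = (s * z) * (s * x i * s⁻¹) * s⁻¹ := by group
        _ = z * (s * (s * x i * s⁻¹) * s⁻¹) := by rw [← P.pr.comm]; group
        _ = _ := by rw [P.tt h]; rfl
  have hcent : ∀ u : G, PR Om z u → (∀ k ∈ K, s * u * k * (s * u)⁻¹ = k) → s * u ∈ CX Om z := by
    intro u hu hk
    refine P.mul_mem_CX h hu ?_
    intro m hm
    have si : s⁻¹ = s := P.tinv h
    have h1 := hk m hm
    calc u * m * u⁻¹ = s⁻¹ * (s * u * m * (s * u)⁻¹) * s := by group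
      _ = s⁻¹ * m * s := by rw [h1]
      _ = s * m * s⁻¹ := by rw [si]
  rcases P.q.inner_cases (hact1.inner P.q hyz) with h1 | ⟨j, h1⟩
  · exact Or.inl (hcent _ hp' h1)
  · right
    refine ⟨j, hcent _ (hp'.conj_comm h (P.q.zc j).symm) ?_⟩
    intro k hk
    have e : s * (x j * s' * (x j)⁻¹) * k * (s * (x j * s' * (x j)⁻¹))⁻¹ =
        (s * x j * s⁻¹) * (s * s' * ((x j)⁻¹ * k * x j) * (s * s')⁻¹) * (s * x j * s⁻¹)⁻¹ := by group
    have hk' : (x j)⁻¹ * k * x j ∈ K := mul_mem (mul_mem (inv_mem (P.q.mem j)) hk) (P.q.mem j)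
    rw [e, h1 _ hk']
    have e2 : x j * ((x j)⁻¹ * k * x j) * (x j)⁻¹ = k := by group
    rw [e2, mul_inv_eq_iff_eq_mul]
    exact (P.hK.comm (P.hK' h) h P.ne' hk (P.q'.mem j)).symm

/-- `s'` commutes with the elements `x_i (s x_i s⁻¹)`: it acts on the axes as `s` does -/
theorem act_of_comm (h : W2 Om) (P : HP Om z s K x) (hp' : PR Om z s')
    (hc : s' * (x i * (s * x i * s⁻¹)) = x i * (s * x i * s⁻¹) * s') :
    s' * x i * s'⁻¹ = s * x i * s⁻¹ ∨ s' * x i * s'⁻¹ = z * (s * x i * s⁻¹) := by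
  have P' : HP Om z s' K x := ⟨hp', P.hK, P.q⟩
  have hKK : cj s' K = cj s K := by
    rcases P.cases h (P'.hK' h) with h4 | h4
    · exact absurd h4 (hp'.sw K P.hK)
    · exact h4
  have hA : s' * x i * s'⁻¹ ∈ cj s K := by
    have h2 : s' * x i * s'⁻¹ ∈ cj s' K := conj_mem_cj (P.q.mem i)
    rwa [hKK] at h2
  have hB : s' * (s * x i * s⁻¹) * s'⁻¹ ∈ K := by
    have h2 : s * x i * s⁻¹ ∈ cj s' K := by rw [hKK]; exact P.q'.mem i
    obtain ⟨m, hm, hm'⟩ := h2
    have hm2 : s' * m * s'⁻¹ = s * x i * s⁻¹ := hm'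
    rw [← hm2, P'.tt h]
    exact hm
  have hAB : s' * x i * s'⁻¹ * (s' * (s * x i * s⁻¹) * s'⁻¹) = x i * (s * x i * s⁻¹) := by
    calc s' * x i * s'⁻¹ * (s' * (s * x i * s⁻¹) * s'⁻¹) = s' * (x i * (s * x i * s⁻¹)) * s'⁻¹ := by group
      _ = _ := by rw [hc, mul_inv_cancel_right]
  have hBA : s' * (s * x i * s⁻¹) * s'⁻¹ * (s' * x i * s'⁻¹) = x i * (s * x i * s⁻¹) := by
    rw [← hAB]
    exact P.hK.comm (P.hK' h) h P.ne' hB hA
  have h3 : (x i)⁻¹ * (s' * (s * x i * s⁻¹) * s'⁻¹) = s * x i * s⁻¹ * (s' * x i * s'⁻¹)⁻¹ := by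
    rw [inv_mul_eq_iff_eq_mul]
    exact (eq_mul_inv_of_mul_eq hBA).trans (mul_assoc _ _ _)
  have h4 : s * x i * s⁻¹ * (s' * x i * s'⁻¹)⁻¹ = 1 ∨ s * x i * s⁻¹ * (s' * x i * s'⁻¹)⁻¹ = z := by
    refine P.hK.inf (P.hK' h) h P.ne' ?_ (mul_mem (P.q'.mem i) (inv_mem hA))
    rw [← h3]; exact mul_mem (inv_mem (P.q.mem i)) hB
  rcases h4 with h4 | h4
  · left; exact (mul_inv_eq_one.1 h4).symm
  · right
    rw [mul_inv_eq_iff_eq_mul] at h4
    rw [h4, P.q.zzx]

end HP

theorem Frame.comm_of (h : W2 Om) (F : Frame Om z K1 K2 a b) (hd : Dir z a b w i j) (hd' : Dir z a b w' i' j')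
    (hij : i = i' ↔ j = j') : w * w' = w' * w := by
  have key : (a i * b j) * (a i' * b j') = (a i' * b j') * (a i * b j) := by
    by_cases hi : i = i'
    · have hj := hij.1 hi
      subst hi; subst hj; rfl
    · have hj : j ≠ j' := fun e => hi (hij.2 e)
      have z2 := F.qa.z2
      calc (a i * b j) * (a i' * b j') = a i * (b j * a i') * b j' := by group
        _ = (a i * a i') * (b j * b j') := by rw [← F.ab h]; group
        _ = z * a i' * a i * (z * b j' * b j) := by rw [F.qa.anti hi, F.qb.anti hj]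
        _ = z * a i' * (a i * z) * (b j' * b j) := by group
        _ = (z * (a i' * z)) * a i * (b j' * b j) := by rw [← F.qa.zc]; group
        _ = (z * z) * a i' * (a i * b j') * b j := by rw [← F.qa.zc]; group
        _ = _ := by rw [z2, one_mul, F.ab h]; group
  have hz : ∀ k l, Commute z (a k * b l) := fun k l => (show Commute z (a k) from F.qa.zc k).mul_right (F.qb.zc l)
  have hzz : Commute z z := Commute.refl z
  have hk : Commute (a i * b j) (a i' * b j') := key
  have e : Commute w w' := by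
    rcases hd with rfl | rfl <;> rcases hd' with rfl | rfl
    · exact hk
    · exact ((hz i j).symm).mul_right hk
    · exact (hz i' j').mul_left hk
    · exact (hzz.mul_right (hz i' j')).mul_left (((hz i j).symm).mul_right hk)
  exact e.eq

end

section

variable [Finite G] {Om : Set (Subgroup G)} {K K1 K2 L M L1 L2 : Subgroup G} {z t u v g r s s' y w w' c c' n : G}
  {a b x l : Fin 3 → G} {i j i' j' : Fin 3}

theorem line_key : ∀ p v : Fin 3 × Fin 3, p.1 = p.2 → (p + v).1 = (p + v).2 → v.1 ≠ 0 →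
    ∀ q : Fin 3 × Fin 3, (q = p ∨ q = p + v ∨ q = p - v) ↔ q.1 = q.2 := by decide

theorem line_key' : ∀ p v q : Fin 3 × Fin 3, v.1 ≠ 0 → v.2 ≠ 0 → (q = p ∨ q = p + v ∨ q = p - v) →
    (p.1 = q.1 ↔ p.2 = q.2) := by decide

namespace SW

variable (S : SW Om)

include S

theorem hn : NoOne Om := S.ne

/-- the directions of one label -/
theorem line_of (F : Frame Om z K1 K2 a b) : ∃ v : Fin 3 × Fin 3, v.1 ≠ 0 ∧ v.2 ≠ 0 ∧
    ∀ c p, p ∈ DC Om z a b c → ∀ q, q ∈ DC Om z a b c ↔ q = p ∨ q = p + v ∨ q = p - v := by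
  obtain ⟨v, h1, h2, h3⟩ := S.line z K1 K2 a b F
  refine ⟨v, h1, h2, ?_⟩
  intro c p hp
  obtain ⟨c', hc'⟩ := h3 p
  have h4 : c' = c := S.uniq z K1 K2 a b F c' c p ((hc' p).2 (Or.inl rfl)) hp
  rw [← h4]; exact hc'

/-- `c Z ∩ Z_c` is empty -/
theorem mul_not_inZ (hc : c ∈ CC Om z) : ¬ InZ Om (z * c) := by
  intro h1
  have hz := CC.inZ hc
  have h2 := eq_of_CX' S.w hz h1 (mul_mem (z_mem_CX S.w) (CC.mem_CX hc))
  exact S.ne z c hc (mul_eq_left.1 h2)

variable (D : DchAll Om)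

include D

theorem dch (hz : c ∈ CC Om z) (ht : c ∈ CC Om t) (hne : z ≠ t) (hzt : z * t = t * z) : Dch Om z t c := by
  obtain ⟨c', h1⟩ := D z t (CC.inZ hz) (CC.inZ ht) hne hzt
  rw [h1.uq c hz ht]; exact h1

theorem lab_of (hz : c ∈ CC Om z) (ht : c ∈ CC Om t) (hne : z ≠ t) (hzt : z * t = t * z) (hf : Fx Om z t) :
    Lab Om z t c ∧ InZ Om (z * t) := by
  rcases (S.dch D hz ht hne hzt).alt with h1 | h1
  · exact ⟨h1.1, h1.2.2.2.1⟩
  · exact (fx_sw_false (CC.inZ hz) hf h1.1).elim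

theorem pr_of (hz : c ∈ CC Om z) (ht : c ∈ CC Om t) (hne : z ≠ t) (hzt : z * t = t * z) (hf : ¬ InZ Om (z * t)) :
    PR Om z t ∧ InZ Om (z * t * c) ∧ c ∈ CC Om (z * t * c) ∧ (∀ a ∈ CC Om z, a ≠ c → t * a ≠ a * t) ∧
      (∀ u, Lab Om z u c → t * u = u * t) := by
  rcases (S.dch D hz ht hne hzt).alt with h1 | h1
  · exact (hf h1.2.2.2.1).elim
  · exact ⟨⟨CC.inZ hz, CC.inZ ht, hne, hzt, h1.1⟩, h1.2.2.2.1, h1.2.2.2.2.1, h1.2.2.2.2.2.1, h1.2.2.2.2.2.2⟩

theorem pr_of' (hz : c ∈ CC Om z) (ht : c ∈ CC Om t) (hzt : z * t = t * z) (hs : Sw Om z t) :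
    PR Om z t ∧ ¬ InZ Om (z * t) ∧ InZ Om (z * t * c) ∧ c ∈ CC Om (z * t * c) ∧
      (∀ a ∈ CC Om z, a ≠ c → t * a ≠ a * t) ∧ (∀ u, Lab Om z u c → t * u = u * t) := by
  have hne : z ≠ t := by
    rintro rfl
    exact fx_sw_false (CC.inZ hz) ((Inn.of_CX (z_mem_CX S.w)).fx S.w) hs
  rcases (S.dch D hz ht hne hzt).alt with h1 | h1
  · exact (fx_sw_false (CC.inZ hz) h1.2.1 hs).elim
  · exact ⟨⟨CC.inZ hz, CC.inZ ht, hne, hzt, h1.1⟩, h1.2.2.1, h1.2.2.2.1, h1.2.2.2.2.1, h1.2.2.2.2.2.1,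
      h1.2.2.2.2.2.2⟩

/-- in the coordinates of a p-neighbour over `c` the directions over `c` are `(i, i)` -/
theorem dc_iff (P : HP Om z t K x) (hz : c ∈ CC Om z) (ht : c ∈ CC Om t) (p : Fin 3 × Fin 3) :
    p ∈ DC Om z x (fun i => t * x i * t⁻¹) c ↔ p.1 = p.2 := by
  have h := S.w
  have F := P.frameS h
  have hct : c * t = t * c := CC.comm_z h ht
  have htz : t * z = z * t := P.pr.comm.symm
  obtain ⟨-, -, -, -, -, hu⟩ := S.pr_of' D hz ht P.pr.comm P.pr.sw
  have key : ∀ p : Fin 3 × Fin 3, p ∈ DC Om z x (fun i => t * x i * t⁻¹) c → p.1 = p.2 := by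
    rintro p ⟨u, lu, hd⟩
    have h1 : Act z x (fun i => t * x i * t⁻¹) t 1 := fun i => Or.inl rfl
    have h2 : Act z (fun i => t * x i * t⁻¹) x t 1 := fun i => Or.inl (by
      show t * (t * x i * t⁻¹) * t⁻¹ = x i
      exact P.tt h _)
    have h3 := F.dir_conj' h htz h1 h2 hd
    have e : t * (u * c) * t⁻¹ = u * c := by
      rw [← mul_assoc, hu u lu, mul_assoc u, ← hct, ← mul_assoc, mul_inv_cancel_right]
    rw [e] at h3
    exact (F.dir_unique h hd h3).1
  obtain ⟨v, hv1, -, hv⟩ := S.line_of F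
  obtain ⟨p0, hp0⟩ := CC.exists_dir h F hz
  have hl := hv c p0 hp0
  rw [hl p]
  exact line_key p0 v (key p0 hp0) (key _ ((hl _).2 (Or.inr (Or.inl rfl)))) hv1 p

theorem lab_e (P : HP Om z t K x) (hz : c ∈ CC Om z) (ht : c ∈ CC Om t) (i : Fin 3) :
    Lab Om z (z * ee z t x i * c) c ∧ Lab Om z (ee z t x i * c) c := by
  have h := S.w
  obtain ⟨u, lt, hd⟩ := (S.dc_iff D P hz ht (i, i)).2 rfl
  have hd' : u * c = z * ee z t x i ∨ u * c = ee z t x i := by
    rcases hd with h1 | h1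
    · left; rw [h1]; exact P.xx_eq i
    · right
      rw [h1]
      show z * (x i * (t * x i * t⁻¹)) = ee z t x i
      rw [P.xx_eq, P.q.zzx]
  have lz := lt.mul h
  have hu : u = u * c * c := by rw [mul_assoc, lt.sq, mul_one]
  rcases hd' with h1 | h1
  · rw [h1] at hu
    have h2 : z * u = ee z t x i * c := by rw [hu, ← mul_assoc, P.q.zzx]
    rw [h2] at lz
    rw [hu] at lt
    exact ⟨lt, lz⟩
  · rw [h1] at hu
    have h2 : z * u = z * ee z t x i * c := by rw [hu, ← mul_assoc]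
    rw [h2] at lz
    rw [hu] at lt
    exact ⟨lz, lt⟩

theorem lab_cases (P : HP Om z t K x) (hz : c ∈ CC Om z) (ht : c ∈ CC Om t) (lu : Lab Om z u c) :
    ∃ i, u = z * ee z t x i * c ∨ u = ee z t x i * c := by
  have h := S.w
  obtain ⟨th, i, j, -, -, -, -, hd, -⟩ := lu.theta h (P.frameS h)
  have h1 : (i, j) ∈ DC Om z x (fun i => t * x i * t⁻¹) c := ⟨u, lu, hd⟩
  have h2 : i = j := (S.dc_iff D P hz ht _).1 h1
  subst h2
  have hu : u = u * c * c := by rw [mul_assoc, lu.sq, mul_one]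
  refine ⟨i, ?_⟩
  rcases hd with h1 | h1
  · left
    rw [hu, h1]
    show x i * (t * x i * t⁻¹) * c = _
    rw [P.xx_eq]
  · right
    rw [hu, h1]
    show z * (x i * (t * x i * t⁻¹)) * c = _
    rw [P.xx_eq, P.q.zzx]

theorem cx_sq (hz : InZ Om z) (hy : y ∈ CX Om z) : y * y = 1 := by
  have z2 := hz.z2 S.w
  rcases S.cx z hz y hy with h1 | h1 | h1 | h1
  · rw [h1, one_mul]
  · rw [h1, z2]
  · exact CC.sq h1
  · have h2 := CC.sq h1
    have h3 : y * z = z * y := CX_le hz S.w hy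
    calc y * y = (z * z) * (y * y) := by rw [z2, one_mul]
      _ = z * (z * y) * y := by group
      _ = z * (y * z) * y := by rw [h3]
      _ = z * y * (z * y) := by group
      _ = 1 := h2

/-- two p-neighbours over `c` commute, their product is in `X_z {1, e_i, z e_i}` -/
theorem comm_pp (P : HP Om z t K x) (hz : c ∈ CC Om z) (ht : c ∈ CC Om t) (hs : c ∈ CC Om s) (hzs : z * s = s * z)
    (hsw : Sw Om z s) : t * s = s * t := by
  have h := S.w
  have hzZ := P.pr.hz
  obtain ⟨hps, -, -, -, -, hu⟩ := S.pr_of' D hz hs hzs hsw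
  have hcs : c * s = s * c := CC.comm_z h hs
  have z2 := P.q.z2
  have t2 : t * t = 1 := P.t2 h
  have s2 : s * s = 1 := hps.t2 h
  have hact : ∀ i, s * x i * s⁻¹ = t * x i * t⁻¹ ∨ s * x i * s⁻¹ = z * (t * x i * t⁻¹) := by
    intro i
    apply P.act_of_comm h hps
    have lab := (S.lab_e D P hz ht i).1
    have h1 := hu _ lab
    rw [P.xx_eq]
    have h2 : s * (z * ee z t x i) * c = z * ee z t x i * s * c := by
      calc s * (z * ee z t x i) * c = s * (z * ee z t x i * c) := by group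
        _ = z * ee z t x i * (c * s) := by rw [h1]; group
        _ = _ := by rw [hcs]; group
    exact mul_right_cancel h2
  have hend : t * s * (t * s) = 1 → t * s = s * t := by
    intro h1
    have h2 := eq_inv_of_mul_eq_one_left h1
    rw [mul_inv_rev, hps.tinv h, P.tinv h] at h2
    exact h2
  apply hend
  rcases P.exists_conj_of h hps hact with h1 | ⟨j, h1⟩
  · exact S.cx_sq D hzZ h1
  · have P' : HP Om z s K x := ⟨hps, P.hK, P.q⟩
    rw [P'.conj_t h] at h1
    have h2 := S.cx_sq D hzZ h1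
    have hcomm : t * (s * ee z s x j) * ee z s x j = ee z s x j * (t * (s * ee z s x j)) :=
      CX_comm (P'.e_mem h j) h1
    have e2 := P'.e_sq h j
    have e : t * s = t * (s * ee z s x j) * ee z s x j := by
      calc t * s = t * s * (ee z s x j * ee z s x j) := by rw [e2, mul_one]
        _ = _ := by group
    rw [e]
    calc t * (s * ee z s x j) * ee z s x j * (t * (s * ee z s x j) * ee z s x j) =
        t * (s * ee z s x j) * ee z s x j * (ee z s x j * (t * (s * ee z s x j))) := by rw [hcomm]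
      _ = t * (s * ee z s x j) * (ee z s x j * ee z s x j) * (t * (s * ee z s x j)) := by group
      _ = 1 := by rw [e2, mul_one, h2]

theorem comm_labs (lu : Lab Om z u c) (lv : Lab Om z v c) : u * v = v * u := by
  have h := S.w
  obtain ⟨K1, K2, a, b, F⟩ := lu.ti.1.exists_frame h
  obtain ⟨-, i, j, -, -, -, -, hd, -⟩ := lu.theta h F
  obtain ⟨-, i', j', -, -, -, -, hd', -⟩ := lv.theta h F
  obtain ⟨v0, h1, h2, h3⟩ := S.line_of F
  have h4 : (i, j) ∈ DC Om z a b c := ⟨u, lu, hd⟩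
  have h5 : (i', j') ∈ DC Om z a b c := ⟨v, lv, hd'⟩
  have h6 := line_key' (i, j) v0 (i', j') h1 h2 ((h3 c _ h4 _).1 h5)
  have h7 := F.comm_of h hd hd' h6
  have hcu : c * u = u * c := lu.comm_t h
  have hcv : c * v = v * c := lv.comm_t h
  have c2 := lu.sq
  calc u * v = u * (c * c) * v := by rw [c2, mul_one]
    _ = (u * c) * (c * v) := by group
    _ = (u * c) * (v * c) := by rw [hcv]
    _ = (v * c) * (u * c) := h7
    _ = v * (c * u) * c := by group
    _ = v * u * (c * c) := by rw [hcu]; group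
    _ = _ := by rw [c2, mul_one]

/-- **the members of `Z_c ∩ C(z)` commute** -/
theorem pp_comm (hc : c ∈ CC Om z) (hu : u ∈ PP Om c z) (hv : v ∈ PP Om c z) : u * v = v * u := by
  have h := S.w
  have hz := CC.inZ hc
  by_cases hzu : z = u
  · rw [← hzu]; exact hv.2.2
  by_cases hzv : z = v
  · rw [← hzv]; exact hu.2.2.symm
  rcases (S.dch D hc hu.2.1 hzu hu.2.2).alt with h1 | h1
  · rcases (S.dch D hc hv.2.1 hzv hv.2.2).alt with h2 | h2
    · exact S.comm_labs D h1.1 h2.1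
    · exact (h2.2.2.2.2.2.2 u h1.1).symm
  · rcases (S.dch D hc hv.2.1 hzv hv.2.2).alt with h2 | h2
    · exact h1.2.2.2.2.2.2 v h2.1
    · obtain ⟨hp, -⟩ := S.pr_of' D hc hu.2.1 hu.2.2 h1.1
      obtain ⟨K, x, P⟩ := hp.exists_hp h
      exact S.comm_pp D P hc hu.2.1 hv.2.1 hv.2.2 h2.1

/-- another line over the same label -/
theorem loc (l : Lab Om z t c) : ∃ s, Lab Om z s c ∧ t * s = s * t ∧ s ≠ z ∧ s ≠ t ∧ ¬ InZ Om (t * s) := by
  have h := S.w
  obtain ⟨K1, K2, a, b, F⟩ := l.ti.1.exists_frame h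
  obtain ⟨-, i, j, -, -, -, -, hd, -⟩ := l.theta h F
  obtain ⟨v0, h1, h2, h3⟩ := S.line_of F
  have h4 : (i, j) ∈ DC Om z a b c := ⟨t, l, hd⟩
  obtain ⟨s, ls, hs⟩ := (h3 c _ h4 ((i, j) + v0)).2 (Or.inr (Or.inl rfl))
  have hts := S.comm_labs D l ls
  have hct : c * t = t * c := l.comm_t h
  have e : t * s = (t * c) * (s * c) := by
    calc t * s = t * (c * c) * s := by rw [l.sq, mul_one]
      _ = (t * c) * (c * s) := by group
      _ = _ := by rw [ls.comm_t h]
  have hdir : ∀ e : G, (e = 1 ∨ e = z) → s * c = e * (t * c) → False := by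
    intro e he h5
    have h6 : Dir z a b (s * c) i j := by
      rw [h5]
      have z2 := l.z2 h
      rcases he with rfl | rfl
      · rw [one_mul]; exact hd
      · rcases hd with h7 | h7
        · right; rw [h7]
        · left; rw [h7, ← mul_assoc, z2, one_mul]
    have h7 := (F.dir_unique h h6 hs).1
    have h8 : i = i + v0.1 := h7
    exact h1 (by
      have := left_eq_add.1 h8
      exact this)
  have hst : s ≠ t := by
    rintro rfl
    exact hdir 1 (Or.inl rfl) (one_mul _).symm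
  refine ⟨s, ls, hts, ls.ne_zt.symm, hst, ?_⟩
  intro h5
  have h6 := S.hn.eq_of_RZ h l.ti.1 h5 (by rw [e]; exact mul_mem l.wz ls.wz)
  refine hdir z (Or.inr rfl) ?_
  have hww : t * c * (t * c) = 1 := by
    calc t * c * (t * c) = t * (c * t) * c := by group
      _ = (t * t) * (c * c) := by rw [hct]; group
      _ = 1 := by rw [l.t2 h, l.sq, one_mul]
  have hwz : t * c * z = z * (t * c) := RZ_le_centralizer h l.wz
  calc s * c = (t * c) * (t * c) * (s * c) := by rw [hww, one_mul]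
    _ = (t * c) * ((t * c) * (s * c)) := by group
    _ = (t * c) * z := by rw [← e, h6]
    _ = _ := hwz

/-- there is a p-neighbour over `c` -/
theorem exists_p (hc : c ∈ CC Om z) : ∃ t, PR Om z t ∧ c ∈ CC Om t := by
  have h := S.w
  obtain ⟨u, lu⟩ := id hc
  obtain ⟨s, ls, h1, h2, h3, h4⟩ := S.loc D (lu.symm h)
  have hs : c ∈ CC Om s := (ls.symm h).mem_CC
  exact ⟨s, (S.pr_of D hc hs h3.symm h1 h4).1, hs⟩

end SW

end

end Cfsg.Agent.Cit.Nil.RTwo
end

-- part: Cit/Nil/RTwo/SPPTwo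
section
set_option linter.all false
open scoped Cfsg.Agent.FastGrp

/-!
# Case (S) of S1309, `r = 2`, `m = 1`: `Z_c ∩ C(z)`, the end (the file F2 of section 12)

* `SW.pp_card` : `Z_c ∩ C(z)` has 15 elements: `z`, six lines over `c`, eight p-neighbours;
* `SW.l3` : hyperbolic lines;
* `SW.ppAll (S : SW Om) (D : DchAll Om) : PPAll Om`.
-/

set_option autoImplicit false
set_option linter.style.haveILetI false
set_option linter.unusedSectionVars false
set_option maxHeartbeats 400000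

namespace Cfsg.Agent.Cit.Nil.RTwo

open Subgroup Cfsg Cit

variable {G : Type*} [Group G]

section

variable [Finite G] {Om : Set (Subgroup G)} {K K1 K2 L M L1 L2 : Subgroup G} {z t u v g r s s' y w w' c c' n : G}
  {a b x l : Fin 3 → G} {i j i' j' : Fin 3}

/-- the elements `e_i` are independent -/
theorem HP.e_ne_zmul (h : W2 Om) (P : HP Om z t K x) (i j : Fin 3) : ee z t x i ≠ z * ee z t x j := by
  intro e
  by_cases hij : i = j
  · subst hij
    exact P.q.zne _ e.symm
  · have h1 := P.ee_ne h hij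
    rw [e, mul_assoc, P.e_sq h, mul_one] at h1
    exact P.e_ne_one h _ (mul_eq_left.1 h1.symm)

namespace SW

variable (S : SW Om) (D : DchAll Om)

include S D

/-- the lines over `c` -/
theorem lab_ncard (hc : c ∈ CC Om z) : {u | Lab Om z u c}.ncard = 6 := by
  have h := S.w
  obtain ⟨t, hp, ht⟩ := S.exists_p D hc
  obtain ⟨K, x, P⟩ := hp.exists_hp h
  obtain ⟨f, hf⟩ : ∃ f : Fin 3 × Fin 2 → G, f = fun m => (if m.2 = 0 then z * ee z t x m.1 else ee z t x m.1) * c :=
    ⟨_, rfl⟩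
  have hinj : Function.Injective f := by
    rintro ⟨i, a⟩ ⟨j, b⟩ e
    rw [hf] at e
    have e1 := mul_right_cancel e
    have key : ∀ a b : Fin 2, a = b ∨ (a = 0 ∧ b = 1) ∨ (a = 1 ∧ b = 0) := by decide
    rcases key a b with rfl | ⟨rfl, rfl⟩ | ⟨rfl, rfl⟩
    · have key2 : ∀ a : Fin 2, a = 0 ∨ a = 1 := by decide
      rcases key2 a with rfl | rfl
      · have e2 : z * ee z t x i = z * ee z t x j := e1
        rw [P.e_inj h (mul_left_cancel e2)]
      · have e2 : ee z t x i = ee z t x j := e1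
        rw [P.e_inj h e2]
    · exfalso
      have e2 : z * ee z t x i = ee z t x j := e1
      exact P.e_ne_zmul h j i e2.symm
    · exfalso
      have e2 : ee z t x i = z * ee z t x j := e1
      exact P.e_ne_zmul h i j e2
  have hrange : {u | Lab Om z u c} = Set.range f := by
    ext u
    constructor
    · intro lu
      obtain ⟨i, hi | hi⟩ := S.lab_cases D P hc ht lu
      · exact ⟨(i, 0), by rw [hf, hi]; rfl⟩
      · exact ⟨(i, 1), by rw [hf, hi]; rfl⟩
    · rintro ⟨⟨i, a⟩, rfl⟩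
      have key2 : ∀ a : Fin 2, a = 0 ∨ a = 1 := by decide
      rw [hf]
      rcases key2 a with rfl | rfl
      · exact (S.lab_e D P hc ht i).1
      · exact (S.lab_e D P hc ht i).2
  rw [hrange, Set.ncard_range_of_injective hinj]
  simp

/-- the p-neighbours over `c` -/
theorem p_ncard (hc : c ∈ CC Om z) :
    {s | c ∈ CC Om s ∧ z * s = s * z ∧ Sw Om z s}.ncard = 8 := by
  classical
  have h := S.w
  have hzZ := CC.inZ hc
  obtain ⟨t, hp, ht⟩ := S.exists_p D hc
  have hzt : z * t = t * z := hp.comm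
  obtain ⟨-, hnzt, hztc, hcztc, -, htu⟩ := S.pr_of' D hc ht hp.comm hp.sw
  have t2 : t * t = 1 := hp.t2 h
  have hct : c * t = t * c := CC.comm_z h ht
  have c2 : c * c = 1 := CC.sq hc
  have hcz : c * z = z * c := CC.comm_z h hc
  have hcF : Fx Om z c := (Inn.of_CX (CC.mem_CX hc)).fx h
  obtain ⟨T, hT⟩ : ∃ T : Set G, T = {1, z} ∪ {u | Lab Om z u c} := ⟨_, rfl⟩
  have hTc : T.ncard = 8 := by
    rw [hT, Set.ncard_union_eq, S.lab_ncard D hc, Set.ncard_pair (hzZ.z1 h).symm]
    rw [Set.disjoint_left]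
    rintro u (rfl | rfl) hu
    · exact hu.ti.2.1.z1 h rfl
    · exact hu.ne_zt rfl
  rw [← hTc]
  symm
  -- facts on the elements of `T`
  have hTF : ∀ n ∈ T, Fx Om z n ∧ n * z = z * n := by
    intro n hn
    rw [hT] at hn
    rcases hn with (rfl | rfl) | hu
    · exact ⟨(Inn.one).fx h, by rw [one_mul, mul_one]⟩
    · exact ⟨(Inn.of_CX (z_mem_CX h)).fx h, rfl⟩
    · exact ⟨hu.ti.2.2.2.2.fx h, hu.ti.2.2.2.1.symm⟩
  have hTt : ∀ n ∈ T, n * t = t * n := by
    intro n hn
    rw [hT] at hn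
    rcases hn with (rfl | rfl) | hu
    · rw [one_mul, mul_one]
    · exact hzt
    · exact (htu n hu).symm
  have hTalt : ∀ n ∈ T, (InZ Om (n * t) ∧ c ∈ CC Om (n * t)) ∨ (¬ InZ Om (n * t) ∧ InZ Om (n * t * c) ∧ c ∈ CC Om (n * t * c)) := by
    intro n hn
    have hn' := hn
    rw [hT] at hn
    rcases hn with (rfl | rfl) | hu
    · left; rw [one_mul]; exact ⟨hp.ht, ht⟩
    · exact Or.inr ⟨hnzt, hztc, hcztc⟩
    · have hcn : c ∈ CC Om n := (Lab.symm h hu).mem_CC
      have hne : n ≠ t := by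
        rintro rfl
        exact fx_sw_false hzZ (hTF n hn').1 hp.sw
      rcases (S.dch D hcn ht hne (hTt n hn')).alt with h1 | h1
      · left; exact ⟨h1.2.2.2.1, (((h1.1).mul h).symm h).mem_CC⟩
      · right; exact ⟨h1.2.2.1, h1.2.2.2.1, h1.2.2.2.2.1⟩
  have hTc' : ∀ n ∈ T, n * c = c * n := by
    intro n hn
    rw [hT] at hn
    rcases hn with (rfl | rfl) | hu
    · rw [one_mul, mul_one]
    · exact hcz.symm
    · exact (hu.comm_t h).symm
  have hdiff : ∀ a ∈ T, ∀ b ∈ T, a ≠ b * c := by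
    intro a ha b hb e
    rw [hT] at ha hb
    rcases hb with (rfl | rfl) | hb
    · rw [one_mul] at e
      rcases ha with (rfl | rfl) | ha
      · exact S.ne z c hc e.symm
      · exact CC.ne_z h hc e.symm
      · exact ha.ne_t h e.symm
    · rcases ha with (rfl | rfl) | ha
      · apply CC.ne_z h hc
        have h1 := eq_inv_of_mul_eq_one_right e.symm
        rw [h1, hzZ.inv h]
      · exact S.ne _ c hc (mul_eq_left.1 e.symm)
      · apply ha.ne_zmt h
        rw [e, ← mul_assoc, hzZ.z2 h, one_mul]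
    · have hw : b * c ∈ RZ Om z := hb.wz
      rcases ha with (rfl | rfl) | ha
      · apply hb.ne_t h
        have h1 := eq_inv_of_mul_eq_one_right e.symm
        rw [h1, hb.tinv h]
      · apply hb.ne_zmt h
        calc c = (b * b) * c := by rw [hb.t2 h, one_mul]
          _ = b * (b * c) := by group
          _ = b * (c * b) := by rw [hb.comm_t h]
          _ = (b * c) * b := by group
          _ = a * b := by rw [← e]
      · have h1 := S.hn.eq_of_RZ h hzZ ha.ti.2.1 (by rw [e]; exact hw)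
        exact ha.ne_zt h1.symm
  refine Set.ncard_congr (fun n _ => if InZ Om (n * t) then n * t else n * t * c) ?_ ?_ ?_
  · intro n hn
    have hF := hTF n hn
    have hsw : Sw Om z (n * t) := hF.1.mul_sw hp.sw
    have hcomm : z * (n * t) = n * t * z := by
      rw [← mul_assoc, ← hF.2, mul_assoc, hzt, mul_assoc]
    show (if InZ Om (n * t) then n * t else n * t * c) ∈ {s | c ∈ CC Om s ∧ z * s = s * z ∧ Sw Om z s}
    rcases hTalt n hn with ⟨h1, h2⟩ | ⟨h1, h2, h3⟩
    · rw [if_pos h1]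
      exact ⟨h2, hcomm, hsw⟩
    · rw [if_neg h1]
      refine ⟨h3, ?_, hsw.mul_fx hcF⟩
      calc z * (n * t * c) = z * (n * t) * c := by group
        _ = n * t * (z * c) := by rw [hcomm]; group
        _ = _ := by rw [← hcz]; group
  · intro a b ha hb e
    have e1 : (if InZ Om (a * t) then a * t else a * t * c) = if InZ Om (b * t) then b * t else b * t * c := e
    have hcc : ∀ n, n * t * c = n * c * t := fun n => by rw [mul_assoc, ← hct, mul_assoc]
    split_ifs at e1 with h1 h2 h2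
    · exact mul_right_cancel e1
    · rw [hcc] at e1
      exact (hdiff a ha b hb (mul_right_cancel e1)).elim
    · rw [hcc] at e1
      exact (hdiff b hb a ha (mul_right_cancel e1).symm).elim
    · exact mul_right_cancel (mul_right_cancel e1)
  · rintro s ⟨hs, hzs, hsw⟩
    by_cases hst : s = t
    · refine ⟨1, by rw [hT]; exact Or.inl (Or.inl rfl), ?_⟩
      show (if InZ Om (1 * t) then 1 * t else 1 * t * c) = s
      rw [one_mul, if_pos hp.ht, hst]
    have hsp : s ∈ PP Om c z := ⟨CC.inZ hs, hs, hzs⟩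
    have htp : t ∈ PP Om c z := ⟨hp.ht, ht, hzt⟩
    have hstc : s * t = t * s := S.pp_comm D hc hsp htp
    have hcs : c * s = s * c := CC.comm_z h hs
    have hF : Fx Om z (s * t) := hsw.mul h hp.sw hzs.symm hzt.symm
    have hcomm : z * (s * t) = s * t * z := by
      rw [← mul_assoc, hzs, mul_assoc, hzt, mul_assoc]
    have hmem : ∀ n, c ∈ CC Om n → z * n = n * z → Fx Om z n → n ∈ T := by
      intro n hn hzn hfn
      rw [hT]
      by_cases hne : z = n
      · rw [← hne]; exact Or.inl (Or.inr rfl)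
      · exact Or.inr (S.lab_of D hc hn hne hzn hfn).1
    rcases (S.dch D hs ht hst hstc).alt with h1 | h1
    · have hn : c ∈ CC Om (s * t) := (((h1.1).mul h).symm h).mem_CC
      refine ⟨s * t, hmem _ hn hcomm hF, ?_⟩
      show (if InZ Om (s * t * t) then s * t * t else s * t * t * c) = s
      have e : s * t * t = s := by rw [mul_assoc, t2, mul_one]
      rw [e, if_pos (CC.inZ hs)]
    · refine ⟨s * t * c, hmem _ h1.2.2.2.2.1 ?_ (hF.mul hcF), ?_⟩
      · calc z * (s * t * c) = z * (s * t) * c := by group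
          _ = s * t * (z * c) := by rw [hcomm]; group
          _ = _ := by rw [← hcz]; group
      · show (if InZ Om (s * t * c * t) then s * t * c * t else s * t * c * t * c) = s
        have e : s * t * c * t = s * c := by
          rw [mul_assoc, hct]
          calc s * t * (t * c) = s * (t * t) * c := by group
            _ = _ := by rw [t2, mul_one]
        rw [e, if_neg (S.mul_not_inZ hs), mul_assoc, c2, mul_one]

theorem pp_card (hc : c ∈ CC Om z) : (PP Om c z).ncard = 15 := by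
  have h := S.w
  have hzZ := CC.inZ hc
  have e : PP Om c z = {z} ∪ {u | Lab Om z u c} ∪ {s | c ∈ CC Om s ∧ z * s = s * z ∧ Sw Om z s} := by
    ext t
    constructor
    · rintro ⟨h1, h2, h3⟩
      by_cases hne : z = t
      · exact Or.inl (Or.inl hne.symm)
      rcases (S.dch D hc h2 hne h3).alt with h4 | h4
      · exact Or.inl (Or.inr h4.1)
      · exact Or.inr ⟨h2, h3, h4.1⟩
    · rintro ((rfl | h1) | ⟨h1, h2, -⟩)
      · exact ⟨hzZ, hc, rfl⟩
      · exact ⟨h1.ti.2.1, (Lab.symm h h1).mem_CC, h1.ti.2.2.2.1⟩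
      · exact ⟨CC.inZ h1, h1, h2⟩
  have d1 : Disjoint ({z} : Set G) {u | Lab Om z u c} := by
    rw [Set.disjoint_left]
    rintro u rfl hu
    exact hu.ne_zt rfl
  have d2 : Disjoint (({z} : Set G) ∪ {u | Lab Om z u c}) {s | c ∈ CC Om s ∧ z * s = s * z ∧ Sw Om z s} := by
    rw [Set.disjoint_left]
    rintro u (rfl | hu) ⟨-, -, hs⟩
    · exact fx_sw_false hzZ ((Inn.of_CX (z_mem_CX h)).fx h) hs
    · exact fx_sw_false hzZ (hu.ti.2.2.2.2.fx h) hs
  rw [e, Set.ncard_union_eq d2, Set.ncard_union_eq d1, S.lab_ncard D hc, S.p_ncard D hc, Set.ncard_singleton]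

/-- the common neighbours of a hyperbolic pair separate -/
theorem l3_aux (huc : c ∈ CC Om u) (hvc : c ∈ CC Om v) (hwc : c ∈ CC Om w) (huv : u * v = v * u) (huw : u * w = w * u)
    (hne : u ≠ v) (hnot : ¬ InZ Om (u * v))
    (hall : ∀ n, InZ Om n → c ∈ CC Om n → u * n = n * u → InZ Om (u * n) → InZ Om (v * n) → w = n ∨ InZ Om (w * n))
    (hI : InZ Om (u * w)) : False := by
  have h := S.w
  obtain ⟨hp, -, -, -, hvu⟩ := S.pr_of D huc hvc hne huv hnot
  obtain ⟨K, x, P⟩ := hp.exists_hp h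
  have u2 : u * u = 1 := hp.hz.z2 h
  have v2 : v * v = 1 := hp.t2 h
  have hcu : c * u = u * c := CC.comm_z h huc
  have hcv : c * v = v * c := CC.comm_z h hvc
  have c2 : c * c = 1 := CC.sq huc
  have hne' : u ≠ w := by
    rintro rfl
    rw [u2] at hI
    exact hI.z1 h rfl
  have lw : Lab Om u w c := by
    rcases (S.dch D huc hwc hne' huw).alt with h1 | h1
    · exact h1.1
    · exact (h1.2.2.1 hI).elim
  have hcF : Fx Om v c := (Inn.of_CX (CC.mem_CX hvc)).fx h
  have ece : ∀ i, c * ee u v x i = ee u v x i * c := fun i => CX_comm (P.e_mem h i) (CC.mem_CX huc)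
  -- the common neighbours `n_i = u e_i c`
  have hn : ∀ i, w = u * ee u v x i * c ∨ InZ Om (w * (u * ee u v x i * c)) := by
    intro i
    have li := (S.lab_e D P huc hvc i).1
    have hcn : c ∈ CC Om (u * ee u v x i * c) := (li.symm h).mem_CC
    have hvn : v * (u * ee u v x i * c) = u * ee u v x i * c * v := hvu _ li
    have hvne : v ≠ u * ee u v x i * c := by
      intro e
      refine fx_sw_false hp.hz (li.ti.2.2.2.2.fx h) ?_
      rw [← e]; exact hp.sw
    have hF : Fx Om v (u * ee u v x i * c) := (P.fx_ze h S.hn i).mul hcF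
    exact hall _ li.ti.2.1 hcn li.ti.2.2.2.1 (li.mul h).ti.2.1 (S.lab_of D hvc hcn hvne hvn hF).2
  obtain ⟨i, hi⟩ := S.lab_cases D P huc hvc lw
  obtain ⟨j, hij⟩ : ∃ j, i ≠ j := ⟨i + 1, i_ne1 i⟩
  have hnR : ∀ k e : G, (e = 1 ∨ e = u) → k ∈ RZ Om u → k ≠ 1 → k ≠ u → ¬ InZ Om (e * k) := by
    intro k e he hk h1 h2 h3
    rcases he with rfl | rfl
    · rw [one_mul] at h3
      exact h2 (S.hn.eq_of_RZ h hp.hz h3 hk)
    · have h4 := S.hn.eq_of_RZ h hp.hz h3 (mul_mem (z_mem_RZ hp.hz h) hk)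
      exact h1 (mul_eq_left.1 h4)
  have hprod : ∀ e : G, (e = 1 ∨ e = u) → w = e * (u * ee u v x i * c) → False := by
    intro e he hw
    rcases hn j with h1 | h1
    · rw [hw] at h1
      have h2 : e * (u * ee u v x i * c) = u * (e * ee u v x i) * c := by
        rcases he with rfl | rfl
        · rw [one_mul, one_mul]
        · group
      rw [h2] at h1
      have h3 := mul_left_cancel (mul_right_cancel h1)
      rcases he with rfl | rfl
      · rw [one_mul] at h3
        exact hij (P.e_inj h h3)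
      · exact P.e_ne_zmul h j i h3.symm
    · have h2 : w * (u * ee u v x j * c) = e * (u * ee u v x (th3 i j)) := by
        rw [hw]
        calc e * (u * ee u v x i * c) * (u * ee u v x j * c) =
            e * (u * ee u v x i * (c * u) * ee u v x j * c) := by group
          _ = e * (u * (ee u v x i * u) * (c * ee u v x j) * c) := by rw [hcu]; group
          _ = e * (u * u * (ee u v x i * ee u v x j) * (c * c)) := by rw [P.e_z h, ece]; group
          _ = e * (u * ee u v x (th3 i j)) := by rw [u2, one_mul, c2, mul_one, P.ee_ne h hij]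
      rw [h2] at h1
      refine hnR _ e he (P.c_mem h _) (P.c_ne_one h _) ?_ h1
      intro h3
      exact P.e_ne_one h _ (mul_eq_left.1 h3)
  rcases hi with h1 | h1
  · exact hprod 1 (Or.inl rfl) (by rw [one_mul]; exact h1)
  · refine hprod u (Or.inr rfl) ?_
    rw [h1]
    calc ee u v x i * c = (u * u) * ee u v x i * c := by rw [u2, one_mul]
      _ = _ := by group

theorem l3 (huc : c ∈ CC Om u) (hvc : c ∈ CC Om v) (hwc : c ∈ CC Om w) (huv : u * v = v * u) (huw : u * w = w * u)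
    (hne : u ≠ v) (hnot : ¬ InZ Om (u * v))
    (hall : ∀ n, InZ Om n → c ∈ CC Om n → u * n = n * u → InZ Om (u * n) → InZ Om (v * n) → w = n ∨ InZ Om (w * n)) :
    w = u ∨ w = v ∨ w = u * v * c := by
  have h := S.w
  by_contra hcon
  push Not at hcon
  obtain ⟨hwu, hwv, hwy⟩ := hcon
  have huZ := CC.inZ huc
  have hvZ := CC.inZ hvc
  have u2 : u * u = 1 := huZ.z2 h
  have v2 : v * v = 1 := hvZ.z2 h
  have c2 : c * c = 1 := CC.sq huc
  have hcu : c * u = u * c := CC.comm_z h huc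
  have hcv : c * v = v * c := CC.comm_z h hvc
  have hcw : c * w = w * c := CC.comm_z h hwc
  have hvw : v * w = w * v := S.pp_comm D huc ⟨hvZ, hvc, huv⟩ ⟨CC.inZ hwc, hwc, huw⟩
  obtain ⟨hp, hyZ, hyc, -, -⟩ := S.pr_of D huc hvc hne huv hnot
  have hcF : ∀ s, c ∈ CC Om s → Fx Om s c := fun s hs => (Inn.of_CX (CC.mem_CX hs)).fx h
  -- a commuting element of order 2 with product of order 2
  have hcomm : ∀ a b : G, InZ Om a → InZ Om b → InZ Om (a * b) → a * b = b * a := by
    intro a b ha hb hab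
    have h1 := hab.z2 h
    have h2 := eq_inv_of_mul_eq_one_left h1
    rw [mul_inv_rev, ha.inv h, hb.inv h] at h2
    exact h2
  -- type I with respect to `u`, `v`
  have hIu : ¬ InZ Om (u * w) := fun hI => S.l3_aux D huc hvc hwc huv huw hne hnot hall hI
  have hIv : ¬ InZ Om (v * w) := by
    intro hI
    refine S.l3_aux D hvc huc hwc huv.symm hvw hne.symm ?_ ?_ hI
    · rw [← huv]; exact hnot
    · intro n hn hnc hvn h1 h2
      exact hall n hn hnc (hcomm u n huZ hn h2) h2 h1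
  have swwu : Sw Om w u := by
    rcases (S.dch D hwc huc hwu huw.symm).alt with h1 | h1
    · exact (hIu (by rw [huw]; exact h1.2.2.2.1)).elim
    · exact h1.1
  have swwv : Sw Om w v := by
    rcases (S.dch D hwc hvc hwv hvw.symm).alt with h1 | h1
    · exact (hIv (by rw [hvw]; exact h1.2.2.2.1)).elim
    · exact h1.1
  obtain ⟨y, hy⟩ : ∃ y, y = u * v * c := ⟨_, rfl⟩
  rw [← hy] at hyZ hyc hwy
  have hwZ := CC.inZ hwc
  have fxwy : Fx Om w y := by rw [hy]; exact (swwu.mul h swwv huw hvw).mul (hcF w hwc)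
  have hyw : y * w = w * y := by
    rw [hy]
    calc u * v * c * w = u * v * (c * w) := by group
      _ = u * (v * w) * c := by rw [hcw]; group
      _ = (u * w) * v * c := by rw [hvw]; group
      _ = _ := by rw [huw]; group
  have hIy : InZ Om (y * w) := by
    rw [hyw]
    exact (S.lab_of D hwc hyc hwy hyw.symm fxwy).2
  have hyv : y * v = u * c := by
    rw [hy]
    calc u * v * c * v = u * v * (c * v) := by group
      _ = u * (v * v) * c := by rw [hcv]; group
      _ = _ := by rw [v2, mul_one]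
  have hvy : v * y = u * c := by
    rw [hy]
    calc v * (u * v * c) = (v * u) * v * c := by group
      _ = u * (v * v) * c := by rw [← huv]; group
      _ = _ := by rw [v2, mul_one]
  have huyv : u = y * v * c := by rw [hyv, mul_assoc, c2, mul_one]
  refine S.l3_aux D hyc hvc hwc (hyv.trans hvy.symm) hyw ?_ ?_ ?_ hIy
  · intro e
    rw [e, v2] at hyv
    apply CC.ne_z h huc
    have h1 := eq_inv_of_mul_eq_one_right hyv.symm
    rw [h1, huZ.inv h]
  · rw [hyv]; exact S.mul_not_inZ huc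
  · intro n hn hnc hyn h1 h2
    have hvn : v * n = n * v := hcomm v n hvZ hn h2
    have hcn : c * n = n * c := CC.comm_z h hnc
    have hun : u * n = n * u := by
      rw [huyv]
      calc y * v * c * n = y * v * (c * n) := by group
        _ = y * (v * n) * c := by rw [hcn]; group
        _ = (y * n) * v * c := by rw [hvn]; group
        _ = _ := by rw [hyn]; group
    have fxv : Fx Om n v := by
      by_cases e : n = v
      · rw [e]; exact (Inn.of_CX (z_mem_CX h)).fx h
      rcases (S.dch D hnc hvc e hvn.symm).alt with h3 | h3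
      · exact h3.2.1
      · exact (h3.2.2.1 (by rw [← hvn]; exact h2)).elim
    have fxy : Fx Om n y := by
      by_cases e : n = y
      · rw [e]; exact (Inn.of_CX (z_mem_CX h)).fx h
      rcases (S.dch D hnc hyc e hyn.symm).alt with h3 | h3
      · exact h3.2.1
      · exact (h3.2.2.1 (by rw [← hyn]; exact h1)).elim
    have fxu : Fx Om n u := by rw [huyv]; exact (fxy.mul fxv).mul (hcF n hnc)
    have hnu : n ≠ u := by
      rintro rfl
      apply hnot
      rw [huv]; exact h2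
    have h4 := (S.lab_of D hnc huc hnu hun.symm fxu).2
    exact hall n hn hnc hun (by rw [hun]; exact h4) h2

/-- **the file F2** -/
theorem ppAll : PPAll Om where
  comm _ _ hc _ hu _ hv := S.pp_comm D hc hu hv
  card _ _ hc := S.pp_card D hc
  loc _ _ _ l := S.loc D l
  l3 _ _ _ _ h1 h2 h3 h4 h5 h6 h7 h8 := S.l3 D h1 h2 h3 h4 h5 h6 h7 h8

end SW

end

end Cfsg.Agent.Cit.Nil.RTwo
end

-- part: Cit/Nil/Two/SWSW
section
set_option linter.all false
open scoped Cfsg.Agent.FastGrp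

/-!
# S1309 (n3), two classes: the case `r_a = r_b = 2`

`A`, `B` : two families with `SW` (the world (S) of `r = 2`, `m = 1`). Let `z` be an involution of `A`, `u` an involution
of `B`, `u ∈ X_z(A)`, `z ∈ X_u(B)`, `u ≠ z`. Then `u` or `z u` is a label `c` of `z`.

* `u = c` : `C(c)` is transitive on the 15 elements of `Z_c(A) ∩ C(z)` and they all lie in `X_u(B)`, a group of order 8;
* `u = z c` : `t ↦ t c` maps the eight p-neighbours of `z` over `c` into the six lines over `c` of `u`.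

`SW.false_of_two` : contradiction.
-/

set_option autoImplicit false
set_option linter.style.haveILetI false
set_option linter.unusedSectionVars false

namespace Cfsg.Agent.Cit.Nil.Two

open Subgroup Cfsg Cfsg.Agent.Cit Cfsg.Agent.Cit.Nil.RTwo

variable {G : Type*} [Group G] [Finite G] {A B Om : Set (Subgroup G)} {z t u c x : G}

/-- `Z` is one class -/
def OneZ (Om : Set (Subgroup G)) : Prop := ∀ z t, InZ Om z → InZ Om t → ∃ g, g * z * g⁻¹ = t

theorem exists_move (S : SW Om) (hcls : OneZ Om) (hc : c ∈ CC Om z) (hc' : c ∈ CC Om t) :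
    ∃ g, g * c = c * g ∧ g * z * g⁻¹ = t := by
  obtain ⟨k, rfl⟩ := hcls z t (CC.inZ hc) (CC.inZ hc')
  obtain ⟨m, hm, hm'⟩ := S.tr _ _ _ (CC.conj S.w hc k) hc'
  refine ⟨m * k, ?_, ?_⟩
  · rw [← mul_inv_eq_iff_eq_mul]
    calc m * k * c * (m * k)⁻¹ = m * (k * c * k⁻¹) * m⁻¹ := by group
      _ = c := hm'
  · calc m * k * z * (m * k)⁻¹ = m * (k * z * k⁻¹) * m⁻¹ := by group
      _ = _ := by rw [hm, mul_inv_cancel_right]

theorem cx_ncard_le (S : SW Om) (hz : InZ Om z) : {x | x ∈ CX Om z}.ncard ≤ 8 := by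
  obtain ⟨c0, c1, c2, hC, -, -, -, -⟩ := S.three z hz
  have h1 : {x | x ∈ CX Om z} ⊆ Set.range ![1, z, c0, c1, c2, z * c0, z * c1, z * c2] := by
    intro x hx
    have key : ∀ d ∈ CC Om z, d = c0 ∨ d = c1 ∨ d = c2 := by
      intro d hd
      rw [hC] at hd
      simpa using hd
    rcases S.cx z hz x hx with rfl | rfl | h2 | h2
    · exact ⟨0, rfl⟩
    · exact ⟨1, rfl⟩
    · rcases key _ h2 with rfl | rfl | rfl
      · exact ⟨2, rfl⟩
      · exact ⟨3, rfl⟩
      · exact ⟨4, rfl⟩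
    · have h3 : x = z * (z * x) := by rw [← mul_assoc, hz.z2 S.w, one_mul]
      rcases key _ h2 with h4 | h4 | h4
      · exact ⟨5, by rw [h3, h4]; rfl⟩
      · exact ⟨6, by rw [h3, h4]; rfl⟩
      · exact ⟨7, by rw [h3, h4]; rfl⟩
  refine (Set.ncard_le_ncard h1 (Set.toFinite _)).trans ?_
  have h2 := Set.ncard_image_le (s := (Set.univ : Set (Fin 8))) (f := ![1, z, c0, c1, c2, z * c0, z * c1, z * c2])
    (Set.toFinite _)
  rw [Set.image_univ, Set.ncard_univ] at h2
  simpa using h2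

/-- the involution of `B` is not a label of `z` -/
theorem false_of_label (SA : SW A) (SB : SW B) (hcls : OneZ A) (hu : InZ B u) (hc : u ∈ CC A z) (hz : z ∈ CX B u) :
    False := by
  have h1 : PP A u z ⊆ {x | x ∈ CX B u} := by
    rintro t ⟨-, ht, -⟩
    obtain ⟨g, hg, rfl⟩ := exists_move SA hcls hc ht
    exact CX_conj_comm SB.w hg hz
  have h2 := Set.ncard_le_ncard h1 (Set.toFinite _)
  rw [SA.pp_card SA.dich hc] at h2
  have h3 := cx_ncard_le SB hu
  omega

/-- **two worlds (S)** -/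
theorem false_of_two (SA : SW A) (SB : SW B) (hA : OneZ A) (hB : OneZ B) (hz : InZ A z) (hu : InZ B u)
    (huz : u ∈ CX A z) (hzu : z ∈ CX B u) (hne : u ≠ z) : False := by
  have u2 := hu.z2 SB.w
  have z2 := hz.z2 SA.w
  have u1 := hu.z1 SB.w
  have z1 := hz.z1 SA.w
  have huz' : u * z = z * u := CX_le hz SA.w huz
  rcases SA.cx z hz u huz with h1 | h1 | h1 | h1
  · exact u1 h1
  · exact hne h1
  · exact false_of_label SA SB hA hu h1 hzu
  rcases SB.cx u hu z hzu with h2 | h2 | h2 | h2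
  · exact z1 h2
  · exact hne h2.symm
  · exact false_of_label SB SA hB hz h2 huz
  -- `c = z u`
  obtain ⟨c, hcd⟩ : ∃ c, c = z * u := ⟨_, rfl⟩
  rw [← hcd] at h1
  rw [huz', ← hcd] at h2
  have huc : u = z * c := by rw [hcd, ← mul_assoc, z2, one_mul]
  have c2 := CC.sq h1
  have hcz : c * z = z * c := CC.comm_z SA.w h1
  -- `t c ∈ Z(B)` for `t` over `c`
  have key : ∀ t, c ∈ CC A t → c ∈ CC B (t * c) := by
    intro t ht
    obtain ⟨g, hg, rfl⟩ := exists_move SA hA h1 ht
    have h3 := CC.conj SB.w h2 g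
    have e : g * u * g⁻¹ = g * z * g⁻¹ * c := by
      rw [huc]
      calc g * (z * c) * g⁻¹ = g * z * (c * g⁻¹) := by group
        _ = g * z * (g⁻¹ * c) := by
          have : c * g⁻¹ = g⁻¹ * c := by rw [eq_inv_mul_iff_mul_eq, ← mul_assoc, hg, mul_inv_cancel_right]
          rw [this]
        _ = _ := by group
    rwa [e, hg, mul_inv_cancel_right] at h3
  have hsub : (fun s => s * c) '' {s | c ∈ CC A s ∧ z * s = s * z ∧ Sw A z s} ⊆ {v | Lab B u v c} := by
    rintro _ ⟨s, ⟨hs, hzs, hsw⟩, rfl⟩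
    show Lab B u (s * c) c
    obtain ⟨-, -, -, h3, -, -⟩ := SA.pr_of' SA.dich h1 hs hzs hsw
    have h4 := key _ hs
    have h5 := key _ h3
    have hcs : c * s = s * c := CC.comm_z SA.w hs
    have e1 : z * s * c * c = u * (s * c) := by
      rw [huc]
      calc z * s * c * c = z * (s * c) * c := by group
        _ = z * (c * s) * c := by rw [hcs]
        _ = _ := by group
    rw [e1] at h5
    have hne' : u ≠ s * c := by
      intro e
      have h6 : InZ B (u * (s * c)) := CC.inZ h5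
      rw [← e, u2] at h6
      exact h6.z1 SB.w rfl
    have hcomm : u * (s * c) = s * c * u := by
      rw [huc]
      calc z * c * (s * c) = z * (c * s) * c := by group
        _ = z * s * (c * c) := by rw [hcs]; group
        _ = s * z * (c * c) := by rw [hzs]
        _ = s * (z * c) * c := by group
        _ = s * (c * z) * c := by rw [hcz]
        _ = _ := by group
    rcases (SB.dch SB.dich h2 h4 hne' hcomm).alt with h6 | h6
    · exact h6.1
    · exact absurd (CC.inZ h5) h6.2.2.1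
  have h3 := Set.ncard_le_ncard hsub (Set.toFinite _)
  rw [Set.ncard_image_of_injective _ (mul_left_injective c), SA.p_ncard SA.dich h1, SB.lab_ncard SB.dich h2] at h3
  omega

end Cfsg.Agent.Cit.Nil.Two
end

-- part: Cit/Nil/RTwo/NineT
section
prune_inst 0x400000
set_option linter.all false
open scoped Cfsg.Agent.FastGrp

/-!
# The transfer lemma (9.0) of `blueprints/CIT-6b-r2m1-helper274.md`

`transfer_stable` : the transfer of a homomorphism `φ : S → A` which is constant on the sets of conjugate elements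
of `S` is `φ ^ |G : S|` on `S`.

`W2.exists_central` : every Sylow 2-subgroup centralises some `z ∈ Z`.

`exists_eps` : if commuting involutions `z, t ∈ Z` give the same sign (`Sw`) to the 2-elements of `C(z, t)`, then this
sign is a homomorphism `G → {±1}`.

uses: `W2` only.
-/

set_option autoImplicit false
set_option linter.style.haveILetI false
set_option linter.unusedSectionVars false

namespace Cfsg.Agent.Cit.Nil.RTwo

open Subgroup Cfsg Cit

variable {G : Type*} [Group G]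

section general

open MulAction

theorem transfer_stable [Finite G] {S : Subgroup G} {A : Type*} [CommGroup A] (φ : S →* A)
    (hst : ∀ (x g : G) (hx : x ∈ S) (hg : g⁻¹ * x * g ∈ S), φ ⟨_, hg⟩ = φ ⟨x, hx⟩) {x : G} (hx : x ∈ S) :
    MonoidHom.transfer φ x = φ ⟨x, hx⟩ ^ S.index := by
  classical
  have : Fintype (G ⧸ S) := Fintype.ofFinite _
  have : Fintype (Quotient (orbitRel (zpowers x) (G ⧸ S))) := Fintype.ofFinite _
  rw [MonoidHom.transfer_eq_prod_quotient_orbitRel_zpowers_quot]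
  have aux : ∀ (m : ℕ) (g : G) (h : g⁻¹ * x ^ m * g ∈ S), φ ⟨_, h⟩ = φ ⟨x, hx⟩ ^ m := by
    intro m g h
    rw [hst (x ^ m) g (S.pow_mem hx m) h, ← map_pow]
    rfl
  rw [Finset.prod_congr rfl (fun q _ => aux _ _ _), Finset.prod_pow_eq_pow_sum, ← index_eq_sum_minimalPeriod S x]

/-- an odd power of `g` is a 2-element -/
theorem exists_odd_pow [Finite G] (g : G) : ∃ m, Odd m ∧ IsPGroup 2 (zpowers (g ^ m)) := by
  obtain ⟨k, m, hm, hk⟩ := Nat.exists_eq_two_pow_mul_odd (orderOf_pos g).ne'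
  refine ⟨m, hm, ?_⟩
  have h1 : (g ^ m) ^ 2 ^ k = 1 := by
    rw [← pow_mul, mul_comm, ← hk, pow_orderOf_eq_one]
  intro ⟨y, hy⟩
  obtain ⟨i, rfl⟩ := mem_zpowers_iff.1 hy
  refine ⟨k, Subtype.ext ?_⟩
  change ((g ^ m) ^ i) ^ 2 ^ k = 1
  rw [← zpow_natCast, ← zpow_mul, mul_comm, zpow_mul, zpow_natCast, h1, one_zpow]

theorem isPGroup_closure_pair [Finite G] {s t : G} (hs : IsPGroup 2 (zpowers s)) (ht : IsPGroup 2 (zpowers t))
    (hst : s * t = t * s) : IsPGroup 2 (zpowers s ⊔ zpowers t : Subgroup G) := by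
  haveI : Fact (Nat.Prime 2) := ⟨Nat.prime_two⟩
  refine IsPGroup.to_sup_of_normal_right' hs ht ?_
  rw [zpowers_le, mem_normalizer_iff]
  intro x
  have key : ∀ x ∈ zpowers t, s * x * s⁻¹ = x := by
    intro x hx
    obtain ⟨i, rfl⟩ := mem_zpowers_iff.1 hx
    have h1 : Commute s (t ^ i) := (show Commute s t from hst).zpow_right i
    rw [h1.eq, mul_inv_cancel_right]
  constructor
  · intro hx
    rw [key x hx]; exact hx
  · intro hx
    have h1 : s⁻¹ * (s * x * s⁻¹) * s = x := by group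
    have h2 := key _ hx
    have h3 : s * x * s⁻¹ = x := by
      have h4 : s * (s * x * s⁻¹) * s⁻¹ = s * x * s⁻¹ := h2
      calc s * x * s⁻¹ = s⁻¹ * (s * (s * x * s⁻¹) * s⁻¹) * s := by group
        _ = s⁻¹ * (s * x * s⁻¹) * s := by rw [h4]
        _ = x := h1
    rw [h3] at hx; exact hx

end general

section

variable [Finite G] {Om : Set (Subgroup G)} {z t s g : G} {K : Subgroup G}

theorem InZ.isPGroup (hz : InZ Om z) (h : W2 Om) : IsPGroup 2 (zpowers z) := by
  intro ⟨y, hy⟩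
  obtain ⟨i, rfl⟩ := mem_zpowers_iff.1 hy
  refine ⟨1, Subtype.ext ?_⟩
  change (z ^ i) ^ 2 ^ 1 = 1
  rw [pow_one, ← zpow_natCast, ← zpow_mul, mul_comm, zpow_mul, zpow_natCast, pow_two, hz.z2 h, one_zpow]

/-- every Sylow 2-subgroup centralises some `z ∈ Z` -/
theorem W2.exists_central (h : W2 Om) (hne : Om.Nonempty) (S : Sylow 2 G) :
    ∃ z, InZ Om z ∧ ∀ s ∈ (S : Subgroup G), s * z = z * s := by
  obtain ⟨K, hK⟩ := h.hyp.OmS_nonempty S hne
  have hp := h.isPGroup hK.1
  have hKS : K ≤ S := by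
    have h1 := syl_inf S.isPGroup' hK
    have h3 : K ⊓ (S : Subgroup G) = K := h1.eq_of_le inf_le_left le_rfl hp
    rw [← h3]; exact inf_le_right
  refine ⟨zz K, ⟨K, hK.1, rfl⟩, fun s hs => ?_⟩
  have hsK : cj s K ∈ OmS Om (S : Subgroup G) := cj_mem_OmS' h.hyp.conj (le_normalizer hs) hK
  have h2 : zz (cj s K) = zz K := by
    by_cases h3 : cj s K = K
    · rw [h3]
    · refine h.one _ hsK.1 _ hK.1 fun k hk l hl => ?_
      refine h.hyp.comm S.isPGroup' hsK hK h3 ⟨hk, ?_⟩ ⟨hl, hKS hl⟩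
      have h5 : k ∈ cj s (S : Subgroup G) := cj_mono s hKS hk
      have h6 : cj s (S : Subgroup G) = S := mem_normalizer_iff_cj.1 (le_normalizer hs)
      rwa [h6] at h5
  rw [h.hyp.zz_cj hK.1] at h2
  rw [← mul_inv_eq_iff_eq_mul]; exact h2

/-- a 2-subgroup centralises some `z ∈ Z`, and this `z` lies in a Sylow group over it -/
theorem W2.exists_central' (h : W2 Om) (hne : Om.Nonempty) {P : Subgroup G} (hP : IsPGroup 2 P) :
    ∃ z, InZ Om z ∧ ∀ s ∈ P, s * z = z * s := by
  haveI : Fact (Nat.Prime 2) := ⟨Nat.prime_two⟩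
  obtain ⟨S, hS⟩ := hP.exists_le_sylow
  obtain ⟨z, hz, h1⟩ := h.exists_central hne S
  exact ⟨z, hz, fun s hs => h1 s (hS hs)⟩

theorem sw_iff_conj (h : W2 Om) (k : G) : Sw Om (k * z * k⁻¹) (k * g * k⁻¹) ↔ Sw Om z g := by
  refine ⟨fun h1 => ?_, fun h1 => h1.conj h k⟩
  have h2 := h1.conj h k⁻¹
  have e1 : k⁻¹ * (k * z * k⁻¹) * k⁻¹⁻¹ = z := by group
  have e2 : k⁻¹ * (k * g * k⁻¹) * k⁻¹⁻¹ = g := by group
  rwa [e1, e2] at h2

theorem sw_pow_odd (h : W2 Om) (hz : InZ Om z) (hg : g * z = z * g) (hs : Sw Om z g) {m : ℕ} (hm : Odd m) :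
    Sw Om z (g ^ m) := by
  obtain ⟨k, rfl⟩ := hm
  have hc : ∀ n : ℕ, g ^ n * z = z * g ^ n := fun n => (show Commute g z from hg).pow_left n
  have h1 : Fx Om z (g ^ (2 * k)) := by
    rw [pow_mul, pow_two]
    have h2 : Fx Om z (g * g) := Sw.mul h hs hs hg hg
    intro M hM
    have h3 : ∀ n : ℕ, cj ((g * g) ^ n) M = M := by
      intro n
      induction n with
      | zero => rw [pow_zero, cj_one]
      | succ n ih => rw [pow_succ, cj_mul, h2 M hM, ih]
    exact h3 k
  rw [pow_succ]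
  exact Fx.mul_sw h1 hs

/-- the condition of (9.0) -/
def EqEps (Om : Set (Subgroup G)) : Prop :=
  ∀ z t s, InZ Om z → InZ Om t → z * t = t * z → s * z = z * s → s * t = t * s → IsPGroup 2 (zpowers s) →
    (Sw Om z s ↔ Sw Om t s)

/-- fusion -/
theorem eps_fusion (h : W2 Om) (he : EqEps Om) (hz : InZ Om z) (ht : InZ Om t) (hsz : s * z = z * s)
    (hst : s * t = t * s) (hs : IsPGroup 2 (zpowers s)) : Sw Om z s ↔ Sw Om t s := by
  haveI : Fact (Nat.Prime 2) := ⟨Nat.prime_two⟩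
  have hne : Om.Nonempty := by obtain ⟨K, hK⟩ := hz; exact ⟨K, hK.1⟩
  have p1 := isPGroup_closure_pair (hz.isPGroup h) hs hsz.symm
  have p2 := isPGroup_closure_pair (ht.isPGroup h) hs hst.symm
  have l1 : zpowers z ⊔ zpowers s ≤ centralizer {s} := by
    refine sup_le ?_ ?_ <;> rw [zpowers_le, mem_centralizer_singleton_iff]
    exact hsz.symm
  have l2 : zpowers t ⊔ zpowers s ≤ centralizer {s} := by
    refine sup_le ?_ ?_ <;> rw [zpowers_le, mem_centralizer_singleton_iff]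
    exact hst.symm
  obtain ⟨P, hP, hP1⟩ := exists_syl_ge p1 l1
  obtain ⟨Q, hQ, hQ1⟩ := exists_syl_ge p2 l2
  obtain ⟨k, hk, hkQ⟩ := hQ.exists_conj hP
  obtain ⟨y, hy, hyP⟩ := h.exists_central' hne hP.2.1
  have hks : k * s = s * k := mem_centralizer_singleton_iff.1 hk
  have hkt : k * t * k⁻¹ ∈ P := by
    rw [← hkQ]
    exact conj_mem_cj (hQ1 (mem_sup_left (mem_zpowers t)))
  have hzP : z ∈ P := hP1 (mem_sup_left (mem_zpowers z))
  have hsP : s ∈ P := hP1 (mem_sup_right (mem_zpowers s))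
  have e1 := he z y s hz hy (hyP z hzP) hsz (hyP s hsP) hs
  have hs' : s * (k * t * k⁻¹) = (k * t * k⁻¹) * s := by
    have h1 : k⁻¹ * s = s * k⁻¹ := by
      rw [inv_mul_eq_iff_eq_mul, ← mul_assoc, hks, mul_inv_cancel_right]
    calc s * (k * t * k⁻¹) = (s * k) * t * k⁻¹ := by group
      _ = k * (s * t) * k⁻¹ := by rw [← hks]; group
      _ = k * t * (s * k⁻¹) := by rw [hst]; group
      _ = (k * t * k⁻¹) * s := by rw [← h1]; group
  have e2 := he (k * t * k⁻¹) y s (ht.conj h k) hy (hyP _ hkt) hs' (hyP s hsP) hs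
  have e3 : Sw Om (k * t * k⁻¹) s ↔ Sw Om t s := by
    have h1 : k * s * k⁻¹ = s := by rw [hks, mul_inv_cancel_right]
    have h2 := sw_iff_conj (z := t) (g := s) h k
    rwa [h1] at h2
  rw [e1, ← e2, e3]

/-- **(9.0)** -/
theorem exists_eps (h : W2 Om) (hne : Om.Nonempty) (he : EqEps Om) :
    ∃ f : G →* ℤˣ, ∀ z s, InZ Om z → s * z = z * s → IsPGroup 2 (zpowers s) → (f s = -1 ↔ Sw Om z s) := by
  classical
  haveI : Fact (Nat.Prime 2) := ⟨Nat.prime_two⟩
  obtain ⟨S⟩ := (inferInstance : Nonempty (Sylow 2 G))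
  obtain ⟨z, hz, hzS⟩ := h.exists_central hne S
  have hm1 : (-1 : ℤˣ) ≠ 1 := by decide
  let φ : (S : Subgroup G) →* ℤˣ :=
    { toFun := fun s => if Sw Om z s then -1 else 1
      map_one' := by
        rw [if_neg]
        intro h1
        obtain ⟨K, hK⟩ := hz
        exact h1 K hK (cj_one K)
      map_mul' := by
        intro a b
        have ha := hzS a a.2
        have hb := hzS b b.2
        rcases fx_or_sw h hz ha with fa | fa <;> rcases fx_or_sw h hz hb with fb | fb
        · have h1 : ¬ Sw Om z ((a * b : (S : Subgroup G)) : G) := fun h1 => fx_sw_false hz (fa.mul fb) h1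
          rw [if_neg h1, if_neg (fun h1 => fx_sw_false hz fa h1), if_neg (fun h1 => fx_sw_false hz fb h1)]; rfl
        · have h1 : Sw Om z ((a * b : (S : Subgroup G)) : G) := Fx.mul_sw fa fb
          rw [if_pos h1, if_neg (fun h1 => fx_sw_false hz fa h1), if_pos fb]; rfl
        · have h1 : Sw Om z ((a * b : (S : Subgroup G)) : G) := Sw.mul_fx fa fb
          rw [if_pos h1, if_neg (fun h1 => fx_sw_false hz fb h1), if_pos fa]; rfl
        · have h1 : ¬ Sw Om z ((a * b : (S : Subgroup G)) : G) :=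
            fun h1 => fx_sw_false hz (Sw.mul h fa fb ha hb) h1
          rw [if_neg h1, if_pos fa, if_pos fb]; rfl }
  have hφ : ∀ (s : G) (hs : s ∈ (S : Subgroup G)), φ ⟨s, hs⟩ = -1 ↔ Sw Om z s := by
    intro s hs
    change (if Sw Om z s then (-1 : ℤˣ) else 1) = -1 ↔ _
    by_cases h1 : Sw Om z s
    · simp [h1]
    · simp [h1, hm1.symm]
  have hφ' : ∀ (s t : (S : Subgroup G)), (Sw Om z (s : G) ↔ Sw Om z (t : G)) → φ s = φ t := by
    intro s t hst
    change (if Sw Om z s then (-1 : ℤˣ) else 1) = if Sw Om z t then (-1 : ℤˣ) else 1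
    simp [hst]
  have hS2 : ∀ s ∈ (S : Subgroup G), IsPGroup 2 (zpowers s) := fun s hs => isPGroup_zpowers S.isPGroup' hs
  have hst : ∀ (x g : G) (hx : x ∈ (S : Subgroup G)) (hg : g⁻¹ * x * g ∈ (S : Subgroup G)),
      φ ⟨_, hg⟩ = φ ⟨x, hx⟩ := by
    intro x g hx hg
    apply hφ'
    change Sw Om z (g⁻¹ * x * g) ↔ Sw Om z x
    have h1 := sw_iff_conj (z := z) (g := g⁻¹ * x * g) h g
    have e1 : g * (g⁻¹ * x * g) * g⁻¹ = x := by group
    rw [e1] at h1
    rw [← h1]
    refine eps_fusion h he (hz.conj h g) hz ?_ (hzS x hx) (hS2 x hx)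
    have h3 := hzS _ hg
    calc x * (g * z * g⁻¹) = g * (g⁻¹ * x * g * z) * g⁻¹ := by group
      _ = g * (z * (g⁻¹ * x * g)) * g⁻¹ := by rw [h3]
      _ = _ := by group
  have hodd : Odd (S : Subgroup G).index := by
    rw [← Nat.not_even_iff_odd, even_iff_two_dvd]
    exact S.not_dvd_index
  have hf : ∀ (x : G) (hx : x ∈ (S : Subgroup G)), MonoidHom.transfer φ x = φ ⟨x, hx⟩ := by
    intro x hx
    rw [transfer_stable φ hst hx]
    obtain ⟨k, hk⟩ := hodd
    rw [hk, pow_succ, pow_mul, Int.units_sq, one_pow, one_mul]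
  refine ⟨MonoidHom.transfer φ, fun t s ht hs hs2 => ?_⟩
  have p1 := isPGroup_closure_pair (ht.isPGroup h) hs2 hs.symm
  obtain ⟨g, hg⟩ := exists_le_cj S p1
  have ht' : g⁻¹ * t * g ∈ (S : Subgroup G) := mem_cj.1 (hg (mem_sup_left (mem_zpowers t)))
  have hs' : g⁻¹ * s * g ∈ (S : Subgroup G) := mem_cj.1 (hg (mem_sup_right (mem_zpowers s)))
  have e1 : MonoidHom.transfer φ s = MonoidHom.transfer φ (g⁻¹ * s * g) := by
    rw [map_mul, map_mul, map_inv, mul_comm, mul_inv_cancel_left]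
  rw [e1, hf _ hs', hφ]
  have h1 := sw_iff_conj (z := t) (g := s) h g⁻¹
  rw [inv_inv] at h1
  rw [← h1]
  refine eps_fusion h he hz ?_ (hzS _ hs') ?_ (hS2 _ hs')
  · have := ht.conj h g⁻¹
    rwa [inv_inv] at this
  · calc g⁻¹ * s * g * (g⁻¹ * t * g) = g⁻¹ * (s * t) * g := by group
      _ = g⁻¹ * (t * s) * g := by rw [hs]
      _ = _ := by group

end

end Cfsg.Agent.Cit.Nil.RTwo
end

-- part: Cit/Nil/RTwo/AOne
section
prune_inst 0x400000
set_option linter.all false
open scoped Cfsg.Agent.FastGrp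

/-!
# The case (A), `k = 1` (section 9 of the blueprint): all lines in `R_z`, three directions

`AW Om` : the type I neighbours of `z` are `± a i b i` (`i : Fin 3`) in a suitable frame.
-/

set_option autoImplicit false
set_option linter.style.haveILetI false
set_option linter.unusedSectionVars false
set_option maxHeartbeats 400000

namespace Cfsg.Agent.Cit.Nil.RTwo

open Subgroup Cfsg Cit

variable {G : Type*} [Group G]

/-- diagonal frames -/
structure Dg (Om : Set (Subgroup G)) (z : G) (K1 K2 : Subgroup G) (a b : Fin 3 → G) : Prop where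
  fr : Frame Om z K1 K2 a b
  ti : ∀ t, TI Om z t ↔ ∃ i, t = a i * b i ∨ t = z * (a i * b i)

/-- the world (A), `k = 1` -/
structure AW (Om : Set (Subgroup G)) : Prop where
  w : W2 Om
  line : HasLine Om
  cls : ∀ z t, InZ Om z → InZ Om t → ∃ g, g * z * g⁻¹ = t
  dg : ∀ z, InZ Om z → ∃ K1 K2 a b, Dg Om z K1 K2 a b
  d3 : ∀ z, InZ Om z → ∃ d : G, d * z = z * d ∧ (∃ m, Odd m ∧ d ^ m = 1) ∧ (∀ x ∈ CX Om z, d * x = x * d) ∧
    ∀ s, TI Om z s → d * s * d⁻¹ ≠ s ∧ d * s * d⁻¹ ≠ z * s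

/-- `A_z` -/
def AS (Om : Set (Subgroup G)) (z : G) : Subgroup G := closure {x | x = z ∨ TI Om z x}

section

variable [Finite G] {Om : Set (Subgroup G)} {K K1 K2 L M L1 L2 : Subgroup G} {z t u v g r s s' x y w c c' : G}
  {a b p q : Fin 3 → G}

theorem AS_conj (h : W2 Om) (g : G) : cj g (AS Om z) = AS Om (g * z * g⁻¹) := by
  have key : ∀ (g z : G), cj g (AS Om z) ≤ AS Om (g * z * g⁻¹) := by
    intro g z
    have h1 : AS Om z ≤ (AS Om (g * z * g⁻¹)).comap (MulAut.conj g).toMonoidHom := by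
      rw [AS, closure_le]
      rintro x (rfl | hx)
      · exact subset_closure (Or.inl rfl)
      · exact subset_closure (Or.inr (hx.conj h g))
    rintro _ ⟨x, hx, rfl⟩
    exact h1 hx
  refine le_antisymm (key g z) ?_
  have h1 := cj_mono g (key g⁻¹ (g * z * g⁻¹))
  rw [cj_cj_inv] at h1
  have h2 : g⁻¹ * (g * z * g⁻¹) * g⁻¹⁻¹ = z := by group
  rwa [h2] at h1

theorem AS_conj_comm (h : W2 Om) (hg : g * z = z * g) : cj g (AS Om z) = AS Om z := by
  rw [AS_conj h, hg, mul_inv_cancel_right]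

theorem z_mem_AS : z ∈ AS Om z := subset_closure (Or.inl rfl)

theorem TI.mem_AS (hti : TI Om z s) : s ∈ AS Om z := subset_closure (Or.inr hti)

/-- elements `k l` of `R_z` (`k ∈ K1`, `l ∈ K2`) such that `s` inverts `k` and `l` -/
theorem Cf.sw_iff_of_inv (C : Cf Om z s K1 K2 L1 L2 a b p q) (h : W2 Om) {k l : G} (hk : k ∈ K1) (hl : l ∈ K2)
    (h1 : s * k * s⁻¹ = z * k) (h2 : s * l * s⁻¹ = z * l) : Sw Om s (k * l) ↔ PTwo Om z s := by
  have key : ∀ {K : Subgroup G} {x : Fin 3 → G}, Q3 K z x → s * x 1 * s⁻¹ = z * x 1 → ∀ k ∈ K, s * k * s⁻¹ = z * k →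
      (x 1)⁻¹ * k * s = s * ((x 1)⁻¹ * k) := by
    intro K x Q hx k hk h1
    have h2 : s * (x 1)⁻¹ * s⁻¹ = z * (x 1)⁻¹ := by
      have : s * (x 1)⁻¹ * s⁻¹ = (s * x 1 * s⁻¹)⁻¹ := by group
      rw [this, hx, mul_inv_rev, Q.zinv, Q.zcomm (inv_mem (Q.mem 1))]
    have : s * ((x 1)⁻¹ * k) * s⁻¹ = (x 1)⁻¹ * k := by
      calc s * ((x 1)⁻¹ * k) * s⁻¹ = (s * (x 1)⁻¹ * s⁻¹) * (s * k * s⁻¹) := by group
        _ = z * (x 1)⁻¹ * (z * k) := by rw [h2, h1]
        _ = z * ((x 1)⁻¹ * z) * k := by group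
        _ = z * (z * (x 1)⁻¹) * k := by rw [Q.zcomm (inv_mem (Q.mem 1))]
        _ = (z * z) * ((x 1)⁻¹ * k) := by group
        _ = _ := by rw [Q.z2, one_mul]
    rw [mul_inv_eq_iff_eq_mul] at this
    exact this.symm
  have f1 := (C.fx_of_pow h (mul_mem (inv_mem (C.qa.mem 1)) hk) (key C.qa C.ta1 k hk h1)).1
  have f2 := (C.swk.fx_of_pow h (mul_mem (inv_mem (C.qb.mem 1)) hl) (key C.qb C.swk.ta1 l hl h2)).1
  have e : k * l = (a 1 * b 1) * (((a 1)⁻¹ * k) * ((b 1)⁻¹ * l)) := by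
    have e1 := C.k1.comm C.k2 h C.kne (mul_mem (inv_mem (C.qa.mem 1)) hk) (C.qb.mem 1)
    calc k * l = a 1 * (((a 1)⁻¹ * k) * b 1) * ((b 1)⁻¹ * l) := by group
      _ = a 1 * (b 1 * ((a 1)⁻¹ * k)) * ((b 1)⁻¹ * l) := by rw [e1]
      _ = _ := by group
  rw [C.pTwo_iff h, e]
  constructor
  · intro hs M hM h3
    apply hs M hM
    rw [cj_mul, (f1.mul f2) M hM, h3]
  · intro hs
    exact hs.mul_fx (f1.mul f2)

namespace Dg

variable (D : Dg Om z K1 K2 a b) (h : W2 Om)

include D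

theorem rot (m : Fin 3) : Dg Om z K1 K2 (fun i => a (i + m)) (fun i => b (i + m)) where
  fr := ⟨D.fr.k1, D.fr.k2, D.fr.ne, D.fr.qa.rot m, D.fr.qb.rot m⟩
  ti t := by
    rw [D.ti]
    constructor
    · rintro ⟨i, hi⟩
      exact ⟨i - m, by rwa [sub_add_cancel]⟩
    · rintro ⟨i, hi⟩
      exact ⟨i + m, hi⟩

theorem zz (y : G) : z * (z * y) = y := D.fr.qa.zzx y

include h

theorem ab (i j : Fin 3) : a i * b j = b j * a i := D.fr.ab h i j

theorem w_sq (i : Fin 3) : a i * b i * (a i * b i) = 1 := by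
  calc a i * b i * (a i * b i) = a i * (b i * a i) * b i := by group
    _ = (a i * a i) * (b i * b i) := by rw [← D.ab h]; group
    _ = 1 := by rw [D.fr.qa.sq, D.fr.qb.sq, D.fr.qa.z2]

theorem w_mul (i : Fin 3) : a i * b i * (a (i + 1) * b (i + 1)) = a (i + 2) * b (i + 2) := by
  calc a i * b i * (a (i + 1) * b (i + 1)) = a i * (b i * a (i + 1)) * b (i + 1) := by group
    _ = (a i * a (i + 1)) * (b i * b (i + 1)) := by rw [← D.ab h]; group
    _ = _ := by rw [D.fr.qa.mul, D.fr.qb.mul]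

theorem w_mul' (i : Fin 3) : a (i + 1) * b (i + 1) * (a i * b i) = a (i + 2) * b (i + 2) := by
  calc a (i + 1) * b (i + 1) * (a i * b i) = a (i + 1) * (b (i + 1) * a i) * b i := by group
    _ = (a (i + 1) * a i) * (b (i + 1) * b i) := by rw [← D.ab h]; group
    _ = z * a (i + 2) * (z * b (i + 2)) := by rw [D.fr.qa.mul', D.fr.qb.mul']
    _ = z * (a (i + 2) * z) * b (i + 2) := by group
    _ = z * (z * (a (i + 2) * b (i + 2))) := by rw [← D.fr.qa.zc]; group
    _ = _ := D.zz _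

theorem w_z (i : Fin 3) : a i * b i * z = z * (a i * b i) := by
  rw [mul_assoc, ← D.fr.qb.zc, ← mul_assoc, ← D.fr.qa.zc, mul_assoc]

omit h in
/-- `x ∈ A_z` in coordinates -/
theorem wmem (x : G) : (x = 1 ∨ x = z ∨ TI Om z x) ↔ (x = 1 ∨ x = z ∨ ∃ i, x = a i * b i ∨ x = z * (a i * b i)) := by
  rw [D.ti]

/-- the members of `A_z` -/
theorem mem_AS {x : G} : x ∈ AS Om z ↔ x = 1 ∨ x = z ∨ TI Om z x := by
  have hz2 := D.fr.qa.z2
  constructor
  · intro hx
    rw [D.wmem]
    -- the set is a subgroup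
    let E : Subgroup G :=
      { carrier := {x | x = 1 ∨ x = z ∨ ∃ i, x = a i * b i ∨ x = z * (a i * b i)}
        one_mem' := Or.inl rfl
        mul_mem' := by
          have key : ∀ i j, (a i * b i * (a j * b j) = 1) ∨ ∃ m, a i * b i * (a j * b j) = a m * b m := by
            intro i j
            rcases i_cases3 i j with rfl | rfl | rfl
            · left; exact D.w_sq h _
            · right; exact ⟨_, D.w_mul h i⟩
            · right
              refine ⟨i + 1, ?_⟩
              have h1 := D.w_mul' h (i + 2)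
              rw [i21, i22] at h1
              exact h1
          have kz : ∀ i, a i * b i * z = z * (a i * b i) := D.w_z h
          rintro x y (hx | hx | ⟨i, hx | hx⟩) (hy | hy | ⟨j, hy | hy⟩) <;> rw [hx, hy]
          · left; simp
          · right; left; simp
          · right; right; exact ⟨j, Or.inl (by simp)⟩
          · right; right; exact ⟨j, Or.inr (by simp)⟩
          · right; left; simp
          · left; exact hz2
          · right; right; exact ⟨j, Or.inr rfl⟩
          · right; right; exact ⟨j, Or.inl (D.zz _)⟩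
          · right; right; exact ⟨i, Or.inl (by simp)⟩
          · right; right; exact ⟨i, Or.inr (kz i)⟩
          · rcases key i j with h1 | ⟨m, h1⟩
            · left; exact h1
            · right; right; exact ⟨m, Or.inl h1⟩
          · have e : a i * b i * (z * (a j * b j)) = z * (a i * b i * (a j * b j)) := by
              rw [← mul_assoc, kz, mul_assoc]
            rcases key i j with h1 | ⟨m, h1⟩
            · right; left; show _ = _; rw [e, h1, mul_one]
            · right; right; exact ⟨m, Or.inr (by rw [e, h1])⟩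
          · right; right; exact ⟨i, Or.inr (by simp)⟩
          · right; right
            refine ⟨i, Or.inl ?_⟩
            rw [mul_assoc, kz, D.zz]
          · rcases key i j with h1 | ⟨m, h1⟩
            · right; left; show _ = _; rw [mul_assoc, h1, mul_one]
            · right; right; exact ⟨m, Or.inr (by rw [mul_assoc, h1])⟩
          · have e : z * (a i * b i) * (z * (a j * b j)) = a i * b i * (a j * b j) := by
              calc z * (a i * b i) * (z * (a j * b j)) = z * (a i * b i * z) * (a j * b j) := by group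
                _ = z * (z * (a i * b i)) * (a j * b j) := by rw [kz]
                _ = _ := by rw [D.zz]
            rcases key i j with h1 | ⟨m, h1⟩
            · left; show _ = _; rw [e, h1]
            · right; right; exact ⟨m, Or.inl (by rw [e, h1])⟩
        inv_mem' := by
          rintro x (rfl | rfl | ⟨i, rfl | rfl⟩)
          · left; simp
          · right; left; exact D.fr.qa.zinv
          · right; right; exact ⟨i, Or.inl (inv_eq_of_mul_eq_one_right (D.w_sq h i))⟩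
          · right; right
            refine ⟨i, Or.inr (inv_eq_of_mul_eq_one_right ?_)⟩
            calc z * (a i * b i) * (z * (a i * b i)) = z * (a i * b i * z) * (a i * b i) := by group
              _ = z * (z * (a i * b i)) * (a i * b i) := by rw [D.w_z h]
              _ = 1 := by rw [D.zz, D.w_sq h] }
    have h1 : AS Om z ≤ E := by
      rw [AS, closure_le]
      rintro y (rfl | hy)
      · exact Or.inr (Or.inl rfl)
      · exact Or.inr (Or.inr ((D.ti y).1 hy))
    exact h1 hx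
  · rintro (rfl | rfl | h1)
    · exact one_mem _
    · exact z_mem_AS
    · exact h1.mem_AS

/-- `A_z` is commutative -/
theorem AS_comm {x y : G} (hx : x ∈ AS Om z) (hy : y ∈ AS Om z) : x * y = y * x := by
  have key : ∀ i j, a i * b i * (a j * b j) = a j * b j * (a i * b i) := by
    intro i j
    rcases i_cases3 i j with rfl | rfl | rfl
    · rfl
    · rw [D.w_mul h, D.w_mul' h]
    · have h1 := D.w_mul h (i + 2)
      have h2 := D.w_mul' h (i + 2)
      rw [i21, i22] at h1 h2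
      rw [h1, h2]
  rw [D.mem_AS h, D.wmem] at hx hy
  have kz := D.w_z h
  rcases hx with hx | hx | ⟨i, hx | hx⟩ <;> rcases hy with hy | hy | ⟨j, hy | hy⟩ <;> rw [hx, hy]
  · simp
  · simp
  · simp
  · simp
  · exact (kz j).symm
  · calc z * (z * (a j * b j)) = z * (a j * b j * z) := by rw [kz]
      _ = _ := by group
  · simp
  · exact kz i
  · exact key i j
  · calc a i * b i * (z * (a j * b j)) = a i * b i * z * (a j * b j) := by group
      _ = z * (a i * b i) * (a j * b j) := by rw [kz]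
      _ = z * (a i * b i * (a j * b j)) := by group
      _ = z * (a j * b j * (a i * b i)) := by rw [key]
      _ = _ := by group
  · simp
  · calc z * (a i * b i) * z = z * (a i * b i * z) := by group
      _ = _ := by rw [kz]
  · calc z * (a i * b i) * (a j * b j) = z * (a i * b i * (a j * b j)) := by group
      _ = z * (a j * b j * (a i * b i)) := by rw [key]
      _ = (z * (a j * b j)) * (a i * b i) := by group
      _ = a j * b j * z * (a i * b i) := by rw [kz]
      _ = _ := by group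
  · calc z * (a i * b i) * (z * (a j * b j)) = z * (a i * b i * z) * (a j * b j) := by group
      _ = z * (z * (a i * b i)) * (a j * b j) := by rw [kz]
      _ = a i * b i * (a j * b j) := by rw [D.zz]
      _ = a j * b j * (a i * b i) := key i j
      _ = z * (z * (a j * b j)) * (a i * b i) := by rw [D.zz]
      _ = z * (a j * b j * z) * (a i * b i) := by rw [kz]
      _ = _ := by group

theorem swap : Dg Om z K2 K1 b a where
  fr := D.fr.swap
  ti t := by
    rw [D.ti]
    constructor <;> rintro ⟨i, hi⟩ <;> exact ⟨i, by rwa [D.ab h] at *⟩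

/-- the action of `a i b i` on `a j` -/
theorem conj_ne {i j : Fin 3} (hij : i ≠ j) : a i * b i * a j * (a i * b i)⁻¹ = z * a j := by
  calc a i * b i * a j * (a i * b i)⁻¹ = a i * (b i * a j) * (b i)⁻¹ * (a i)⁻¹ := by group
    _ = a i * (a j * b i) * (b i)⁻¹ * (a i)⁻¹ := by rw [D.ab h]
    _ = a i * a j * (a i)⁻¹ := by group
    _ = _ := D.fr.qa.conj_ne hij

theorem conj_ne' {i j : Fin 3} (hij : i ≠ j) (hs : s = a i * b i ∨ s = z * (a i * b i)) :
    s * a j * s⁻¹ = z * a j ∧ s * b j * s⁻¹ = z * b j := by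
  have h1 : a i * b i * a j * (a i * b i)⁻¹ = z * a j := D.conj_ne h hij
  have h2 : a i * b i * b j * (a i * b i)⁻¹ = z * b j := by rw [D.ab h]; exact (D.swap h).conj_ne h hij
  have hz1 : z * (z * a j) * z⁻¹ = z * a j := by
    rw [D.zz, D.fr.qa.zinv, D.fr.qa.zc]
  have hz2 : z * (z * b j) * z⁻¹ = z * b j := by
    rw [D.zz, D.fr.qa.zinv, D.fr.qb.zc]
  rcases hs with rfl | rfl
  · exact ⟨h1, h2⟩
  · constructor
    · calc z * (a i * b i) * a j * (z * (a i * b i))⁻¹ = z * (a i * b i * a j * (a i * b i)⁻¹) * z⁻¹ := by group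
        _ = _ := by rw [h1, hz1]
    · calc z * (a i * b i) * b j * (z * (a i * b i))⁻¹ = z * (a i * b i * b j * (a i * b i)⁻¹) * z⁻¹ := by group
        _ = _ := by rw [h2, hz2]

end Dg

namespace AW

variable (W : AW Om)

include W

theorem mem_AS (hz : InZ Om z) {x : G} : x ∈ AS Om z ↔ x = 1 ∨ x = z ∨ TI Om z x := by
  obtain ⟨K1, K2, a, b, D⟩ := W.dg z hz
  exact D.mem_AS W.w

theorem AS_comm (hz : InZ Om z) {x y : G} (hx : x ∈ AS Om z) (hy : y ∈ AS Om z) : x * y = y * x := by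
  obtain ⟨K1, K2, a, b, D⟩ := W.dg z hz
  exact D.AS_comm W.w hx hy

theorem inZ_of_AS (hz : InZ Om z) {x : G} (hx : x ∈ AS Om z) (h1 : x ≠ 1) : InZ Om x := by
  rcases (W.mem_AS hz).1 hx with h2 | h2 | h2
  · exact absurd h2 h1
  · rw [h2]; exact hz
  · exact h2.2.1

theorem sq_of_AS (hz : InZ Om z) {x : G} (hx : x ∈ AS Om z) : x * x = 1 := by
  by_cases h1 : x = 1
  · rw [h1, one_mul]
  · exact (W.inZ_of_AS hz hx h1).z2 W.w

theorem ti_comm (h1 : TI Om z s) (h2 : TI Om z s') : s * s' = s' * s := W.AS_comm h1.1 h1.mem_AS h2.mem_AS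

/-- a diagonal frame for given members -/
theorem exists_dg (hK1 : Mem Om z K1) (hK2 : Mem Om z K2) (hne : K1 ≠ K2) : ∃ a b, Dg Om z K1 K2 a b := by
  obtain ⟨M1, M2, a, b, D⟩ := W.dg z hK1.inZ
  rcases D.fr.k1.cases D.fr.k2 W.w D.fr.ne hK1 with e1 | e1 <;> rcases D.fr.k1.cases D.fr.k2 W.w D.fr.ne hK2 with e2 | e2
  · exact absurd (e1.trans e2.symm) hne
  · subst e1; subst e2; exact ⟨a, b, D⟩
  · subst e1; subst e2; exact ⟨b, a, D.swap W.w⟩
  · exact absurd (e1.trans e2.symm) hne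

/-- (A.5): points on different lines of `z` -/
theorem sw_iff (h1 : TI Om z s) (h2 : TI Om z s') (hne : s' ≠ s) (hne' : s' ≠ z * s) : Sw Om s s' ↔ PTwo Om z s := by
  have h := W.w
  obtain ⟨K1, K2, L1, L2, a', b', p, q, C⟩ := h1.exists_cf h
  obtain ⟨a, b, D⟩ := W.exists_dg C.k1 C.k2 C.kne
  obtain ⟨i, hi⟩ := (D.ti s).1 h1
  obtain ⟨j, hj⟩ := (D.ti s').1 h2
  have hij : i ≠ j := by
    rintro rfl
    rcases hi with hi | hi <;> rcases hj with hj | hj
    · exact hne (hj.trans hi.symm)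
    · exact hne' (by rw [hj, hi])
    · exact hne' (by rw [hj, hi, D.zz])
    · exact hne (hj.trans hi.symm)
  obtain ⟨e1, e2⟩ := D.conj_ne' h hij hi
  have e3 := C.sw_iff_of_inv h (D.fr.qa.mem j) (D.fr.qb.mem j) e1 e2
  rcases hj with hj | hj
  · rw [hj, e3]
  · rw [hj, C.sw_iff_of_fx h (C.fx_z h), e3]

end AW

end

end Cfsg.Agent.Cit.Nil.RTwo

private theorem dce_6296e1f50c88 : _root_.True := by
  try have : _root_.True := by simp only [_root_.Cfsg.Agent.Cit.Nil.RTwo.AS.eq_1]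
  exact _root_.True.intro
end

-- part: Cit/Nil/RTwo/ATwo
section
set_option linter.all false
open scoped Cfsg.Agent.FastGrp

/-!
# (A), `k = 1`, all lines of type `P2` (section 9, (9.3))
-/

set_option autoImplicit false
set_option linter.style.haveILetI false
set_option linter.unusedSectionVars false
set_option maxHeartbeats 400000

namespace Cfsg.Agent.Cit.Nil.RTwo

open Subgroup Cfsg Cit

variable {G : Type*} [Group G]

/-- `N_z` of (3.3): the elements centralising `R_z` and all `R_s`, `s` of type I with respect to `z` -/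
def NI (Om : Set (Subgroup G)) (z : G) : Subgroup G := CX Om z ⊓ ⨅ s, ⨅ (_ : TI Om z s), CX Om s

theorem mem_NI {Om : Set (Subgroup G)} {z x : G} : x ∈ NI Om z ↔ x ∈ CX Om z ∧ ∀ s, TI Om z s → x ∈ CX Om s := by
  rw [NI, mem_inf, mem_iInf]
  simp only [mem_iInf]

section

variable [Finite G] {Om : Set (Subgroup G)} {K K1 K2 L M L1 L2 : Subgroup G} {z t u v g r s s' x y w c c' : G}
  {a b p q : Fin 3 → G}

theorem NI_conj (h : W2 Om) (g z : G) : NI Om (g * z * g⁻¹) = cj g (NI Om z) := by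
  have key : ∀ (g z : G), cj g (NI Om z) ≤ NI Om (g * z * g⁻¹) := by
    rintro g z _ ⟨x, hx, rfl⟩
    have hx' := mem_NI.1 hx
    rw [mem_NI]
    refine ⟨(CX_conj h g).2 hx'.1, ?_⟩
    intro s hs
    have h1 := hs.conj h g⁻¹
    have e1 : g⁻¹ * (g * z * g⁻¹) * g⁻¹⁻¹ = z := by group
    rw [e1] at h1
    have h2 := (CX_conj h g).2 (hx'.2 _ h1)
    have e2 : g * (g⁻¹ * s * g⁻¹⁻¹) * g⁻¹ = s := by group
    rwa [e2] at h2
  refine le_antisymm ?_ (key g z)
  have h1 := cj_mono g (key g⁻¹ (g * z * g⁻¹))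
  rw [cj_cj_inv] at h1
  have h2 : g⁻¹ * (g * z * g⁻¹) * g⁻¹⁻¹ = z := by group
  rwa [h2] at h1

/-- (3.3): `N_z` is constant on type I edges -/
theorem NI_const (h : W2 Om) (hti : TI Om z s) : NI Om z = NI Om s := by
  obtain ⟨K1, K2, L1, L2, a, b, p, q, C⟩ := hti.exists_cf h
  have h1 : a 1 * s * (a 1)⁻¹ = z * s := C.a1t
  have h2 : a 1 * z * (a 1)⁻¹ = z := by rw [C.a1z, mul_inv_cancel_right]
  have h3 : p 1 * z * (p 1)⁻¹ = s * z := C.symm.a1t
  have h4 : p 1 * s * (p 1)⁻¹ = s := by rw [C.symm.a1z, mul_inv_cancel_right]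
  have h5 : a 1 * p 1 * a 1 * z * (a 1 * p 1 * a 1)⁻¹ = s := by
    calc a 1 * p 1 * a 1 * z * (a 1 * p 1 * a 1)⁻¹ = a 1 * (p 1 * (a 1 * z * (a 1)⁻¹) * (p 1)⁻¹) * (a 1)⁻¹ := by group
      _ = a 1 * (s * z) * (a 1)⁻¹ := by rw [h2, h3]
      _ = (a 1 * s * (a 1)⁻¹) * (a 1 * z * (a 1)⁻¹) := by group
      _ = z * s * z := by rw [h1, h2]
      _ = s := by rw [C.comm, mul_assoc, C.z2, mul_one]
  have h6 := NI_conj h (a 1 * p 1 * a 1) z
  rw [h5] at h6
  rw [h6]
  ext x
  have hcomm : ∀ y ∈ NI Om z, (a 1 * p 1 * a 1) * y * (a 1 * p 1 * a 1)⁻¹ = y := by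
    intro y hy
    have h7 := mem_NI.1 hy
    have c1 : y * a 1 = a 1 * y := mem_CX.1 h7.1 K1 C.k1 (a 1) (C.qa.mem 1)
    have c2 : y * p 1 = p 1 * y := mem_CX.1 (h7.2 s hti) L1 C.l1 (p 1) (C.qc.mem 1)
    rw [mul_inv_eq_iff_eq_mul]
    calc a 1 * p 1 * a 1 * y = a 1 * p 1 * (y * a 1) := by rw [c1]; group
      _ = a 1 * (p 1 * y) * a 1 := by group
      _ = a 1 * (y * p 1) * a 1 := by rw [c2]
      _ = (a 1 * y) * p 1 * a 1 := by group
      _ = (y * a 1) * p 1 * a 1 := by rw [c1]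
      _ = _ := by group
  constructor
  · intro hx
    exact ⟨x, hx, hcomm x hx⟩
  · rintro ⟨y, hy, rfl⟩
    have := hcomm y hy
    change (a 1 * p 1 * a 1) * y * (a 1 * p 1 * a 1)⁻¹ ∈ NI Om z
    rw [this]; exact hy

theorem NI_const_di (h : W2 Om) (hd : DI Om z t) : NI Om z = NI Om t := by
  induction hd with
  | refl => rfl
  | tail _ h2 ih => exact ih.trans (NI_const h h2)

theorem NI_le (h : W2 Om) (hz : InZ Om z) : NI Om z ≤ centralizer {z} := by
  intro x hx
  rw [mem_centralizer_singleton_iff]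
  exact CX_le hz h (mem_NI.1 hx).1

/-- an element of odd order of `X_z` which commutes with `s` (type I) centralises `R_s` -/
theorem CX_of_odd (h : W2 Om) (hti : TI Om z s) (hy : y ∈ CX Om z) (hys : y * s = s * y) {m : ℕ} (hm : Odd m)
    (hym : y ^ m = 1) : y ∈ CX Om s := by
  obtain ⟨K1, K2, L1, L2, a, b, p, q, C⟩ := hti.exists_cf h
  have hyz : y * z = z * y := CX_le hti.1 h hy
  have hpow : ∀ n : ℕ, y ^ n * s = s * y ^ n := fun n => (Commute.pow_left (show Commute y s from hys) n)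
  -- `y` fixes the members
  have hfx : Fx Om s y := by
    rcases fx_or_sw h hti.2.1 hys with h1 | h1
    · exact h1
    · exfalso
      have h2 : ∀ n : ℕ, Fx Om s (y ^ (2 * n)) := by
        intro n
        induction n with
        | zero => intro M _; rw [mul_zero, pow_zero]; exact cj_one _
        | succ n ih =>
          have e : y ^ (2 * (n + 1)) = y ^ (2 * n) * (y * y) := by rw [Nat.mul_succ, pow_add, pow_two]
          rw [e]
          exact ih.mul (h1.mul h h1 hys hys)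
      obtain ⟨n, hn⟩ := hm
      have h3 : Sw Om s (y ^ m) := by
        rw [hn, pow_add, pow_one]
        exact (h2 n).mul_sw h1
      rw [hym] at h3
      exact fx_sw_false hti.2.1 (fun M _ => cj_one _) h3
  -- on a member
  have key : ∀ {L : Subgroup G} {p : Fin 3 → G}, Mem Om s L → Q3 L s p → (∀ k ∈ L, z * k * z⁻¹ = p 0 * k * (p 0)⁻¹) →
      ∀ l ∈ L, y * l = l * y := by
    intro L p hL Q hz
    obtain ⟨σ, hσ⟩ := Q.exists_act Q (hfx L hL) hys
    -- `σ 0 = 0`
    have h0 : σ 0 = 0 := by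
      -- `y p_0 y⁻¹` acts as `z`, so as `p_0`
      have h1 : y * p 0 * y⁻¹ ∈ L := by
        have := conj_mem_cj (g := y) (Q.mem 0)
        rwa [hfx L hL] at this
      have h2 : ∀ k ∈ L, (y * p 0 * y⁻¹) * k * (y * p 0 * y⁻¹)⁻¹ = p 0 * k * (p 0)⁻¹ := by
        intro k hk
        have hk' : y⁻¹ * k * y ∈ L := by
          have h3 : cj y⁻¹ L = L := by
            rw [← hfx L hL, cj_inv_cj, hfx L hL]
          have := conj_mem_cj (g := y⁻¹) hk
          rw [h3, inv_inv] at this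
          exact this
        calc (y * p 0 * y⁻¹) * k * (y * p 0 * y⁻¹)⁻¹ = y * (p 0 * (y⁻¹ * k * y) * (p 0)⁻¹) * y⁻¹ := by group
          _ = y * (z * (y⁻¹ * k * y) * z⁻¹) * y⁻¹ := by rw [hz _ hk']
          _ = (y * z) * y⁻¹ * k * y * (y * z)⁻¹ := by group
          _ = (z * y) * y⁻¹ * k * y * (z * y)⁻¹ := by rw [hyz]
          _ = z * k * z⁻¹ := by group
          _ = _ := hz k hk
      rcases Q.eq_or_of_act h1 (Q.mem 0) (h2 _ (Q.mem 0)) (h2 _ (Q.mem 1)) with h3 | h3 <;> rcases hσ 0 with h4 | h4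
      · exact (Q.inj (Or.inl (h3.symm.trans h4))).symm
      · exact (Q.inj (Or.inr (h3.symm.trans h4))).symm
      · exact Q.inj (Or.inr (h4.symm.trans h3))
      · exact (Q.inj (Or.inl (mul_left_cancel (h3.symm.trans h4)))).symm
    -- `σ = 1`
    have hpowact : ∀ n : ℕ, Act s p p (y ^ n) (σ ^ n) := by
      intro n
      induction n with
      | zero => rw [pow_zero, pow_zero]; exact Act.one p s
      | succ n ih => rw [pow_succ, pow_succ]; exact hσ.comp Q.z2 ih (hpow n)
    have h1 : σ ^ m = 1 := by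
      have := hpowact m
      rw [hym] at this
      exact (Act.unique Q this (Act.one p s))
    have h2 : σ = 1 := by
      by_contra h2
      have h3 := rf_of h0 h2
      have h4 : σ * σ = 1 := by rw [h3]; decide
      obtain ⟨n, hn⟩ := hm
      apply h2
      rw [hn, pow_add, pow_mul, pow_two, h4, one_pow, one_mul, pow_one] at h1
      exact h1
    rw [h2] at hσ
    have h3 := hσ.inner Q hys
    -- `y ^ 2` centralises `L`
    intro l hl
    have h4 : ∀ n : ℕ, y ^ (2 * n) * l * (y ^ (2 * n))⁻¹ = l := by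
      intro n
      have h5 : y * y * l * (y * y)⁻¹ = l := by
        have e : y * y * l * (y * y)⁻¹ = y * (y * l * y⁻¹) * y⁻¹ := by group
        rw [e]
        rcases h3 l hl with h6 | h6
        · rw [h6, h6]
        · rw [h6]
          calc y * (s * l) * y⁻¹ = (y * s) * l * y⁻¹ := by group
            _ = s * (y * l * y⁻¹) := by rw [hys]; group
            _ = l := by rw [h6, Q.zzx]
      induction n with
      | zero => group
      | succ n ih =>
        have e : y ^ (2 * (n + 1)) = y ^ (2 * n) * (y * y) := by rw [Nat.mul_succ, pow_add, pow_two]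
        rw [e]
        calc y ^ (2 * n) * (y * y) * l * (y ^ (2 * n) * (y * y))⁻¹ =
            y ^ (2 * n) * (y * y * l * (y * y)⁻¹) * (y ^ (2 * n))⁻¹ := by group
          _ = l := by rw [h5, ih]
    obtain ⟨n, hn⟩ := hm
    have h5 : y ^ (2 * n) * y = 1 := by rw [← pow_succ, ← hn, hym]
    have h6 : (y ^ (2 * n)) = y⁻¹ := eq_inv_of_mul_eq_one_left h5
    have h7 := h4 n
    rw [h6, inv_inv] at h7
    calc y * l = y * (y⁻¹ * l * y) := by rw [h7]
      _ = _ := by group
  rw [mem_CX]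
  intro L hL
  rcases C.l1.cases C.l2 h C.lne hL with rfl | rfl
  · exact key C.l1 C.qc C.zc
  · exact key C.l2 C.qd C.zd

end

end Cfsg.Agent.Cit.Nil.RTwo

private theorem dce_43c18c45c91d : _root_.True := by
  try have : _root_.True := by simp only [_root_.Cfsg.Agent.Cit.Nil.RTwo.NI.eq_1]
  exact _root_.True.intro
end

-- part: Cit/Nil/RTwo/AThree
section
prune_inst 0x400000
set_option linter.all false
open scoped Cfsg.Agent.FastGrp

/-!
# (A), `k = 1`, all lines of type `P2`: (9.3)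
-/

set_option autoImplicit false
set_option linter.style.haveILetI false
set_option linter.unusedSectionVars false
set_option maxHeartbeats 400000

namespace Cfsg.Agent.Cit.Nil.RTwo

open Subgroup Cfsg Cit

variable {G : Type*} [Group G]

/-- all lines `P2` -/
structure AW2 (Om : Set (Subgroup G)) : Prop extends AW Om where
  two : ∀ z s, TI Om z s → PTwo Om z s

/-- `x ∈ ⟨z, s⟩` -/
def InV (z s x : G) : Prop := x = 1 ∨ x = z ∨ x = s ∨ x = z * s

section

variable [Finite G] {Om : Set (Subgroup G)} {K K1 K2 L M L1 L2 : Subgroup G} {z t u v g r s s' x y w c c' : G}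
  {a b p q : Fin 3 → G}

/-- a swap `u` commutes with its conjugates under `K1` -/
theorem swap_comm (h : W2 Om) (hK : Mem Om z K1) (hu : Sw Om z u) (huz : u * z = z * u) (hu2 : u * u = 1) {k : G}
    (hk : k ∈ K1) : u * (k * u * k⁻¹) = k * u * k⁻¹ * u := by
  have huinv : u⁻¹ = u := inv_eq_of_mul_eq_one_right hu2
  have hM : Mem Om z (cj u K1) := hK.cj_comm h huz
  have hne : K1 ≠ cj u K1 := fun e => hu K1 hK e.symm
  have hk' : u * k * u⁻¹ ∈ cj u K1 := conj_mem_cj hk
  have hc : k * (u * k * u⁻¹) = u * k * u⁻¹ * k := hK.comm hM h hne hk hk'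
  obtain ⟨x, q⟩ := h.exists_q3 hK
  have huz' : u * z * u⁻¹ = z := by rw [huz, mul_inv_cancel_right]
  have hkk : u * (k * k) * u⁻¹ = k * k := by
    rcases q.cov k hk with rfl | rfl | ⟨i, rfl | rfl⟩
    · group
    · rw [q.z2]; group
    · rw [q.sq, huz']
    · have e : z * x i * (z * x i) = z := by
        calc z * x i * (z * x i) = z * (x i * z) * x i := by group
          _ = z * (z * x i) * x i := by rw [q.zc]
          _ = (z * z) * (x i * x i) := by group
          _ = z := by rw [q.z2, q.sq, one_mul]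
      rw [e, huz']
  have hkk' : (u * k * u⁻¹) * (u * k * u⁻¹) = k * k := by rw [← hkk]; group
  have e1 : u * k * u⁻¹ * k⁻¹ = k * (u * k * u⁻¹)⁻¹ := by
    have hc' : k⁻¹ * (u * k * u⁻¹) = u * k * u⁻¹ * k⁻¹ := by
      have : Commute k (u * k * u⁻¹) := hc
      exact this.inv_left
    calc u * k * u⁻¹ * k⁻¹ = k⁻¹ * (u * k * u⁻¹) := hc'.symm
      _ = k⁻¹ * ((u * k * u⁻¹) * (u * k * u⁻¹)) * (u * k * u⁻¹)⁻¹ := by group
      _ = k⁻¹ * (k * k) * (u * k * u⁻¹)⁻¹ := by rw [hkk']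
      _ = _ := by group
  calc u * (k * u * k⁻¹) = u * k * u⁻¹ * k⁻¹ := by rw [huinv]; group
    _ = k * (u * k * u⁻¹)⁻¹ := e1
    _ = k * (u⁻¹⁻¹ * k⁻¹ * u⁻¹) := by group
    _ = k * u * k⁻¹ * u := by rw [huinv, huinv]; group

theorem InV.symm (hc : z * s = s * z) (hx : InV z s x) : InV s z x := by
  rcases hx with h1 | h1 | h1 | h1
  · exact Or.inl h1
  · exact Or.inr (Or.inr (Or.inl h1))
  · exact Or.inr (Or.inl h1)
  · exact Or.inr (Or.inr (Or.inr (by rw [h1, hc])))

theorem InV.mul_of (hz : z * z = 1) (hx : InV z (z * s) x) : InV z s x := by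
  rcases hx with h1 | h1 | h1 | h1
  · exact Or.inl h1
  · exact Or.inr (Or.inl h1)
  · exact Or.inr (Or.inr (Or.inr h1))
  · exact Or.inr (Or.inr (Or.inl (by rw [h1, ← mul_assoc, hz, one_mul])))

theorem InV.mem_AS (hti : TI Om z s) (hx : InV z s x) : x ∈ AS Om z := by
  rcases hx with h1 | h1 | h1 | h1 <;> rw [h1]
  · exact one_mem _
  · exact z_mem_AS
  · exact hti.mem_AS
  · exact mul_mem z_mem_AS hti.mem_AS

/-- `u ∈ C(z)` maps `a j` to `± b j`, `u² = 1`: `u` centralises `A_z` -/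
theorem Dg.comm_of_act (D : Dg Om z K1 K2 a b) (h : W2 Om) (huz : u * z = z * u) (hu : u * u = 1)
    (hact : Act z a b u 1) (hx : x ∈ AS Om z) : u * x = x * u := by
  have huinv : u⁻¹ = u := inv_eq_of_mul_eq_one_right hu
  have huz' : u * z * u⁻¹ = z := by rw [huz, mul_inv_cancel_right]
  have hmz : ∀ k : G, u * (z * k) * u⁻¹ = z * (u * k * u⁻¹) := by
    intro k
    calc u * (z * k) * u⁻¹ = (u * z * u⁻¹) * (u * k * u⁻¹) := by group
      _ = _ := by rw [huz']
  have hw : ∀ j, u * (a j * b j) * u⁻¹ = a j * b j := by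
    intro j
    have e : u * (a j * b j) * u⁻¹ = (u * a j * u⁻¹) * (u * b j * u⁻¹) := by group
    have e2 : ∀ k : G, u * (u * k * u⁻¹) * u⁻¹ = k := by
      intro k
      calc u * (u * k * u⁻¹) * u⁻¹ = (u * u) * k * (u * u)⁻¹ := by group
        _ = k := by rw [hu]; group
    rcases hact j with h1 | h1
    · rw [Equiv.Perm.one_apply] at h1
      have h2 : u * b j * u⁻¹ = a j := by rw [← h1, e2]
      rw [e, h1, h2, D.ab h]
    · rw [Equiv.Perm.one_apply] at h1
      have h2 : u * b j * u⁻¹ = z * a j := by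
        have h3 : b j = z * (u * a j * u⁻¹) := by rw [h1, D.zz]
        rw [h3, hmz, e2]
      rw [e, h1, h2]
      calc z * b j * (z * a j) = z * (b j * z) * a j := by group
        _ = z * (z * b j) * a j := by rw [← D.fr.qb.zc]
        _ = b j * a j := by rw [D.zz]
        _ = _ := (D.ab h j j).symm
  have h1 : AS Om z ≤ centralizer {u} := by
    rw [AS, closure_le]
    intro y hy
    rw [SetLike.mem_coe, mem_centralizer_singleton_iff]
    rcases hy with rfl | hy
    · exact huz.symm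
    · obtain ⟨j, hj⟩ := (D.ti y).1 hy
      have h2 : u * y * u⁻¹ = y := by
        rcases hj with hj | hj
        · rw [hj, hw]
        · rw [hj, hmz, hw]
      rw [mul_inv_eq_iff_eq_mul] at h2
      exact h2.symm
  exact (mem_centralizer_singleton_iff.1 (h1 hx)).symm

namespace AW2

variable (W : AW2 Om)

include W

/-- the elements of `A_s` with respect to `z` -/
theorem as_cases (hti : TI Om z s) (hx : x ∈ AS Om s) : InV z s x ∨ Sw Om z x := by
  have h := W.w
  rcases (W.mem_AS hti.2.1).1 hx with h1 | h1 | h1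
  · exact Or.inl (Or.inl h1)
  · exact Or.inl (Or.inr (Or.inr (Or.inl h1)))
  · by_cases e1 : x = z
    · exact Or.inl (Or.inr (Or.inl e1))
    by_cases e2 : x = s * z
    · exact Or.inl (Or.inr (Or.inr (Or.inr (by rw [e2, hti.2.2.2.1]))))
    · exact Or.inr ((W.sw_iff (hti.symm h) h1 e1 e2).2 (W.two _ _ (hti.symm h)))

theorem comm_of_AS (hti : TI Om z s) (hx : x ∈ AS Om s) : x * z = z * x :=
  W.AS_comm hti.2.1 hx (hti.symm W.w).mem_AS

/-- `[A_s, A_{zs}] = 1` -/
theorem comm_one (hti : TI Om z s) (hx : x ∈ AS Om s) (hy : y ∈ AS Om (z * s)) : x * y = y * x := by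
  have h := W.w
  have hzs := hti.mul h
  have hzs' : TI Om (z * s) z := hzs.symm h
  have hz2 := hti.1.z2 h
  have hVzs : ∀ {x}, InV z s x → x ∈ AS Om (z * s) := by
    intro x hx
    rcases hx with h1 | h1 | h1 | h1 <;> rw [h1]
    · exact one_mem _
    · exact hzs'.mem_AS
    · have : z * (z * s) ∈ AS Om (z * s) := mul_mem hzs'.mem_AS z_mem_AS
      rwa [← mul_assoc, hz2, one_mul] at this
    · exact z_mem_AS
  have hVs : ∀ {x}, InV z s x → x ∈ AS Om s := fun hx => (hx.symm hti.2.2.2.1).mem_AS (hti.symm h)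
  rcases W.as_cases hti hx with h1 | h1
  · exact W.AS_comm hzs.2.1 (hVzs h1) hy
  rcases W.as_cases hzs hy with h2 | h2
  · exact W.AS_comm hti.2.1 hx (hVs (h2.mul_of hz2))
  obtain ⟨K1, K2, L1, L2, a, b, p, q, C⟩ := hti.exists_cf h
  have e1 : cj (a 1) (AS Om s) = AS Om (z * s) := by rw [AS_conj h, C.a1t]
  rw [← e1] at hy
  obtain ⟨x', hx', rfl⟩ := hy
  change Sw Om z (a 1 * x' * (a 1)⁻¹) at h2
  have hxz := W.comm_of_AS hti hx
  have hx'z := W.comm_of_AS hti hx'
  have h3 : Sw Om z x' := by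
    have h4 := h2.conj h (a 1)⁻¹
    have e2 : (a 1)⁻¹ * z * (a 1)⁻¹⁻¹ = z := by rw [inv_inv, mul_assoc, ← C.a1z]; group
    have e3 : (a 1)⁻¹ * (a 1 * x' * (a 1)⁻¹) * (a 1)⁻¹⁻¹ = x' := by group
    rwa [e2, e3] at h4
  have hsq : x' * x' = 1 := W.sq_of_AS hti.2.1 hx'
  have hc := swap_comm h C.k1 h3 hx'z hsq (C.qa.mem 1)
  rcases W.as_cases hti (mul_mem hx hx') with h4 | h4
  · have e : x = (x * x') * x' := by rw [mul_assoc, hsq, mul_one]
    have h5 : (x * x') * (a 1 * x' * (a 1)⁻¹) = (a 1 * x' * (a 1)⁻¹) * (x * x') := by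
      refine W.AS_comm hzs.2.1 (hVzs h4) ?_
      rw [← e1]; exact conj_mem_cj hx'
    change x * (a 1 * x' * (a 1)⁻¹) = a 1 * x' * (a 1)⁻¹ * x
    calc x * (a 1 * x' * (a 1)⁻¹) = (x * x') * x' * (a 1 * x' * (a 1)⁻¹) := by rw [← e]
      _ = (x * x') * (x' * (a 1 * x' * (a 1)⁻¹)) := by group
      _ = (x * x') * (a 1 * x' * (a 1)⁻¹) * x' := by rw [hc]; group
      _ = (a 1 * x' * (a 1)⁻¹) * ((x * x') * x') := by rw [h5]; group
      _ = _ := by rw [← e]
  · exact (fx_sw_false hti.1 (h1.mul h h3 hxz hx'z) h4).elim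

/-- `[A_z, A_s] = 1` -/
theorem comm_two (hti : TI Om z s) (hx : x ∈ AS Om z) (hy : y ∈ AS Om s) : x * y = y * x := by
  have h := W.w
  have h1 : TI Om (z * s) z := (hti.mul h).symm h
  have e : z * s * z = s := by rw [hti.2.2.2.1, mul_assoc, hti.1.z2 h, mul_one]
  exact W.comm_one h1 hx (by rw [e]; exact hy)

/-- `(A_z - V)(A_s - V) ⊆ A_{zs}` -/
theorem prod_mem (hti : TI Om z s) (hx : x ∈ AS Om z) (hxV : ¬ InV z s x) (hy : y ∈ AS Om s) (hyV : ¬ InV z s y) :
    x * y ∈ AS Om (z * s) := by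
  have h := W.w
  have hsw : Sw Om z y := (W.as_cases hti hy).resolve_left hyV
  have hyz := W.comm_of_AS hti hy
  obtain ⟨K1, K2, a, b, D⟩ := W.dg z hti.1
  obtain ⟨i, hi⟩ := (D.ti s).1 hti
  have hxti : TI Om z x := by
    rcases (W.mem_AS hti.1).1 hx with h1 | h1 | h1
    · exact absurd (Or.inl h1) hxV
    · exact absurd (Or.inr (Or.inl h1)) hxV
    · exact h1
  obtain ⟨j, hj⟩ := (D.ti x).1 hxti
  have hij : i ≠ j := by
    rintro rfl
    apply hxV
    rcases hi with hi | hi <;> rcases hj with hj | hj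
    · exact Or.inr (Or.inr (Or.inl (hj.trans hi.symm)))
    · exact Or.inr (Or.inr (Or.inr (by rw [hj, hi])))
    · exact Or.inr (Or.inr (Or.inr (by rw [hj, hi, D.zz])))
    · exact Or.inr (Or.inr (Or.inl (hj.trans hi.symm)))
  rcases D.fr.act_cases h hyz with ⟨h1, -, -⟩ | ⟨h1, h2, σ, τ, h3, h4⟩
  · exact absurd h1 (hsw K1 D.fr.k1)
  -- `σ j = j`
  have h5 : y * (a j * b j) * y⁻¹ = a j * b j := by
    rw [mul_inv_eq_iff_eq_mul]
    exact (W.comm_two hti ((D.ti _).2 ⟨j, Or.inl rfl⟩).mem_AS hy).symm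
  have h6 := D.fr.dir_conj' h hyz h3 h4 (show Dir z a b (a j * b j) j j from Or.inl rfl)
  rw [h5] at h6
  have h7 := (D.fr.dir_unique h h6 (show Dir z a b (a j * b j) j j from Or.inl rfl)).2
  have h8 := h3 j
  rw [h7] at h8
  -- `a j s (a j)⁻¹ = z s`
  have h9 := (D.conj_ne' h hij hi).1
  have hs2 := hti.2.1.z2 h
  have hsinv := hti.2.1.inv h
  have h10 : a j * s * (a j)⁻¹ = z * s := by
    calc a j * s * (a j)⁻¹ = a j * (s * a j * s⁻¹)⁻¹ * s := by group
      _ = a j * (z * a j)⁻¹ * s := by rw [h9]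
      _ = a j * (a j)⁻¹ * z⁻¹ * s := by group
      _ = z * s := by rw [mul_inv_cancel, one_mul, D.fr.qa.zinv]
  have h11 : cj (a j) (AS Om s) = AS Om (z * s) := by rw [AS_conj h, h10]
  have h12 : a j * y * (a j)⁻¹ ∈ AS Om (z * s) := by rw [← h11]; exact conj_mem_cj hy
  -- `a j y (a j)⁻¹ = ± (a j b j) y`
  have hzAS : z ∈ AS Om (z * s) := ((hti.mul h).symm h).mem_AS
  have h13 : a j * y * (a j)⁻¹ = a j * (y * a j * y⁻¹)⁻¹ * y := by group
  have h14 : a j * b j * y ∈ AS Om (z * s) := by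
    rcases h8 with h8 | h8
    · have e : a j * b j * y = z * (a j * y * (a j)⁻¹) := by
        rw [h13, h8, D.fr.qb.inv]
        calc a j * b j * y = z * (z * a j) * b j * y := by rw [D.zz]
          _ = z * (a j * z) * b j * y := by rw [D.fr.qa.zc]
          _ = _ := by group
      rw [e]
      exact mul_mem hzAS h12
    · have e : a j * b j * y = a j * y * (a j)⁻¹ := by
        rw [h13, h8, mul_inv_rev, D.fr.qb.inv, D.fr.qa.zinv]
        calc a j * b j * y = a j * (z * (z * b j)) * y := by rw [D.zz]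
          _ = a j * (z * (b j * z)) * y := by rw [D.fr.qb.zc]
          _ = _ := by group
      rw [e]
      exact h12
  rcases hj with hj | hj
  · rw [hj]; exact h14
  · rw [hj, mul_assoc]; exact mul_mem hzAS h14

/-- a point of `z` off the line of `s` -/
theorem exists_off (hti : TI Om z s) : ∃ x ∈ AS Om z, ¬ InV z s x := by
  have h := W.w
  obtain ⟨K1, K2, a, b, D⟩ := W.dg z hti.1
  obtain ⟨i, hi⟩ := (D.ti s).1 hti
  refine ⟨a (i + 1) * b (i + 1), ((D.ti _).2 ⟨i + 1, Or.inl rfl⟩).mem_AS, ?_⟩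
  have hd : ∀ {k : Fin 3}, Dir z a b (a k * b k) k k := Or.inl rfl
  have hti' : TI Om z (a (i + 1) * b (i + 1)) := (D.ti _).2 ⟨i + 1, Or.inl rfl⟩
  rintro (h1 | h1 | h1 | h1)
  · exact hti'.2.1.z1 h h1
  · exact hti'.2.2.1 h1.symm
  · have h2 : Dir z a b (a (i + 1) * b (i + 1)) i i := by rw [h1]; exact hi
    exact i_ne1 i (D.fr.dir_unique h h2 hd).1
  · have h2 : Dir z a b (a (i + 1) * b (i + 1)) i i := by
      rw [h1]
      rcases hi with hi | hi
      · exact Or.inr (by rw [hi])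
      · exact Or.inl (by rw [hi, D.zz])
    exact i_ne1 i (D.fr.dir_unique h h2 hd).1

/-- `A_{zs} ≤ A_z A_s` -/
theorem AS_mul_le (hti : TI Om z s) : AS Om (z * s) ≤ AS Om z ⊔ AS Om s := by
  have h := W.w
  have hzs := hti.mul h
  have hz2 := hti.1.z2 h
  intro y hy
  rcases W.as_cases hzs hy with h1 | h1
  · exact mem_sup_left ((h1.mul_of hz2).mem_AS hti)
  by_cases hyV : InV z (z * s) y
  · exact mem_sup_left ((hyV.mul_of hz2).mem_AS hti)
  obtain ⟨x, hx, hxV⟩ := W.exists_off hti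
  have hxV' : ¬ InV z (z * s) x := fun h2 => hxV (h2.mul_of hz2)
  have h2 := W.prod_mem hzs hx hxV' hy hyV
  rw [← mul_assoc, hz2, one_mul] at h2
  have e : y = x * (x * y) := by rw [← mul_assoc, W.sq_of_AS hti.1 hx, one_mul]
  rw [e]
  exact mul_mem (mem_sup_left hx) (mem_sup_right h2)

end AW2

end

end Cfsg.Agent.Cit.Nil.RTwo
end

-- part: Cit/Nil/RTwo/AFour
section
prune_inst 0x4001048005100000000180016a00024401000000200430001f1000502004e9040a046260148202d100002ac5028040060131804400210000000000800002007291002520013400004200000803003180c00000000000000000000000000041000200400000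
set_option linter.all false
open scoped Cfsg.Agent.FastGrp

/-!
# (A), `k = 1`, all lines of type `P2`: (6.8) and the end of (9.3)
-/

set_option autoImplicit false
set_option linter.style.haveILetI false
set_option linter.unusedSectionVars false
set_option maxHeartbeats 400000

namespace Cfsg.Agent.Cit.Nil.RTwo

open Subgroup Cfsg Cit

variable {G : Type*} [Group G]

section

variable [Finite G] {Om : Set (Subgroup G)} {K K1 K2 L M L1 L2 : Subgroup G} {z t u v g r s s' x y w c c' : G}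
  {a b p q : Fin 3 → G}

namespace AW

variable (W : AW Om)

include W

theorem exists_ti (hz : InZ Om z) : ∃ s, TI Om z s := by
  obtain ⟨K1, K2, a, b, D⟩ := W.dg z hz
  exact ⟨_, (D.ti _).2 ⟨0, Or.inl rfl⟩⟩

/-- an element of `Z` centralising `A_z` is in the component -/
theorem di_of_cent (hz : InZ Om z) (ht : InZ Om t) (hc : ∀ x ∈ AS Om z, t * x = x * t) : DI Om z t := by
  have h := W.w
  by_cases hA : t ∈ AS Om z
  · rcases (W.mem_AS hz).1 hA with h1 | h1 | h1
    · exact absurd h1 (ht.z1 h)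
    · rw [h1]; exact Relation.ReflTransGen.refl
    · exact h1.di
  obtain ⟨K1, K2, a, b, D⟩ := W.dg z hz
  have hti : ∀ i, TI Om z (a i * b i) := fun i => (D.ti _).2 ⟨i, Or.inl rfl⟩
  have hd : ∀ {k : Fin 3}, Dir z a b (a k * b k) k k := Or.inl rfl
  obtain ⟨x, hx, hx1, hxt⟩ := oct h (A := AS Om z) (u := z) (v := a 0 * b 0) (w := a 1 * b 1) (t := t)
    (fun x hx h1 => W.inZ_of_AS hz hx h1) (fun x hx y hy => W.AS_comm hz hx hy) z_mem_AS (hti 0).mem_AS
    (hti 1).mem_AS (hz.z1 h) ((hti 0).2.1.z1 h) (hti 0).2.2.1.symm ((hti 1).2.1.z1 h) (hti 1).2.2.1.symm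
    (fun e => absurd (D.fr.dir_unique h (show Dir z a b (a 1 * b 1) 0 0 from Or.inl e) hd).1 (by decide))
    (fun e => absurd (D.fr.dir_unique h (show Dir z a b (a 1 * b 1) 0 0 from Or.inr e) hd).1 (by decide))
    ht hA hc
  have h2 : DI Om x t := (hxt.symm h).di
  rcases (W.mem_AS hz).1 hx with h1 | h1 | h1
  · exact absurd h1 hx1
  · rwa [h1] at h2
  · exact h1.di.trans h2

theorem AS_le_RZ (hz : InZ Om z) : AS Om z ≤ RZ Om z := by
  have h := W.w
  obtain ⟨K1, K2, a, b, D⟩ := W.dg z hz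
  rw [AS, closure_le]
  rintro x (rfl | hx)
  · exact z_mem_RZ hz h
  · obtain ⟨i, hi⟩ := (D.ti x).1 hx
    have h1 : a i * b i ∈ RZ Om z := mul_mem (D.fr.k1.le_RZ (D.fr.qa.mem i)) (D.fr.k2.le_RZ (D.fr.qb.mem i))
    rcases hi with hi | hi
    · rw [hi]; exact h1
    · rw [hi]; exact mul_mem (z_mem_RZ hz h) h1

/-- the centraliser of `A_z` in `N(K1)` is `A_z X_z` -/
theorem exists_wy (hz : InZ Om z) (huz : u * z = z * u) (hfx : Fx Om z u) (hc : ∀ x ∈ AS Om z, u * x = x * u) :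
    ∃ w ∈ AS Om z, ∃ y ∈ CX Om z, u = w * y := by
  have h := W.w
  obtain ⟨K1, K2, a, b, D⟩ := W.dg z hz
  have hti : ∀ i, TI Om z (a i * b i) := fun i => (D.ti _).2 ⟨i, Or.inl rfl⟩
  have hd : ∀ {k : Fin 3}, Dir z a b (a k * b k) k k := Or.inl rfl
  rcases D.fr.act_cases h huz with ⟨-, -, σ, τ, h3, h4⟩ | ⟨h1, -, -⟩
  swap
  · exact absurd (h1.symm.trans (hfx K1 D.fr.k1)) D.fr.ne.symm
  have hw : ∀ j, u * (a j * b j) * u⁻¹ = a j * b j := by
    intro j
    rw [mul_inv_eq_iff_eq_mul]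
    exact hc _ (hti j).mem_AS
  have h5 : ∀ j, σ j = j ∧ τ j = j := by
    intro j
    have h6 := D.fr.dir_conj huz h3 h4 (show Dir z a b (a j * b j) j j from Or.inl rfl)
    rw [hw] at h6
    exact D.fr.dir_unique h h6 hd
  have hσ : σ = 1 := Equiv.ext fun j => (h5 j).1
  have hτ : τ = 1 := Equiv.ext fun j => (h5 j).2
  rw [hσ] at h3
  rw [hτ] at h4
  -- the signs agree
  have hsign : ∀ j, (u * a j * u⁻¹ = a j ↔ u * b j * u⁻¹ = b j) := by
    intro j
    have e : (u * a j * u⁻¹) * (u * b j * u⁻¹) = a j * b j := by rw [← hw j]; group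
    constructor
    · intro h6
      rw [h6] at e
      exact mul_left_cancel e
    · intro h6
      rw [h6] at e
      exact mul_right_cancel e
  rcases D.fr.qa.inner_cases (h3.inner D.fr.qa huz) with h6 | ⟨m, h6⟩ <;>
  rcases D.fr.qb.inner_cases (h4.inner D.fr.qb huz) with h7 | ⟨n, h7⟩
  · refine ⟨1, one_mem _, u, ?_, (one_mul u).symm⟩
    rw [mem_CX]
    intro K hK k hk
    rcases D.fr.k1.cases D.fr.k2 h D.fr.ne hK with rfl | rfl
    · rw [← mul_inv_eq_iff_eq_mul]; exact h6 k hk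
    · rw [← mul_inv_eq_iff_eq_mul]; exact h7 k hk
  · exfalso
    have h8 := (hsign (n + 1)).1 (h6 _ (D.fr.qa.mem _))
    rw [h7 _ (D.fr.qb.mem _), D.fr.qb.conj_ne (i_ne1 n)] at h8
    exact D.fr.qb.zne _ h8
  · exfalso
    have h8 := (hsign (m + 1)).2 (h7 _ (D.fr.qb.mem _))
    rw [h6 _ (D.fr.qa.mem _), D.fr.qa.conj_ne (i_ne1 m)] at h8
    exact D.fr.qa.zne _ h8
  · have hmn : n = m := by
      by_contra hne
      have h8 := (hsign m).1 (by rw [h6 _ (D.fr.qa.mem _), Q3.conj_self])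
      rw [h7 _ (D.fr.qb.mem _), D.fr.qb.conj_ne hne] at h8
      exact D.fr.qb.zne _ h8
    subst hmn
    refine ⟨a n * b n, (hti n).mem_AS, (a n * b n)⁻¹ * u, ?_, by group⟩
    rw [mem_CX]
    intro K hK k hk
    have hwk : (a n * b n) * k * (a n * b n)⁻¹ = u * k * u⁻¹ := by
      rcases D.fr.k1.cases D.fr.k2 h D.fr.ne hK with rfl | rfl
      · rw [h6 k hk]
        have hc' : b n * k = k * b n := (D.fr.k1.comm D.fr.k2 h D.fr.ne hk (D.fr.qb.mem n)).symm
        calc (a n * b n) * k * (a n * b n)⁻¹ = a n * (b n * k) * (b n)⁻¹ * (a n)⁻¹ := by group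
          _ = a n * (k * b n) * (b n)⁻¹ * (a n)⁻¹ := by rw [hc']
          _ = _ := by group
      · rw [h7 k hk]
        have hmem : b n * k * (b n)⁻¹ ∈ K := mul_mem (mul_mem (D.fr.qb.mem n) hk) (inv_mem (D.fr.qb.mem n))
        have hc' : a n * (b n * k * (b n)⁻¹) = b n * k * (b n)⁻¹ * a n :=
          D.fr.k1.comm D.fr.k2 h D.fr.ne (D.fr.qa.mem n) hmem
        calc (a n * b n) * k * (a n * b n)⁻¹ = a n * (b n * k * (b n)⁻¹) * (a n)⁻¹ := by group
          _ = _ := by rw [hc']; group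
    calc (a n * b n)⁻¹ * u * k = (a n * b n)⁻¹ * (u * k * u⁻¹) * u := by group
      _ = (a n * b n)⁻¹ * ((a n * b n) * k * (a n * b n)⁻¹) * u := by rw [hwk]
      _ = _ := by group

end AW

namespace AW2

variable (W : AW2 Om)

include W

/-- (6.8) for `P2`, main case -/
theorem di_aux (hti : TI Om z s) (hp : PR Om z t) (hf : FT Om s t) : DI Om z t := by
  have h := W.w
  obtain ⟨K1, K2, L1, L2, a', b', p, q, C⟩ := hti.exists_cf h
  obtain ⟨a, b, D⟩ := W.exists_dg C.k1 C.k2 C.kne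
  have htz : t * z = z * t := hp.comm.symm
  have hts : t * s = s * t := hf.fr.comm.symm
  have hd : ∀ {k : Fin 3}, Dir z a b (a k * b k) k k := Or.inl rfl
  rcases D.fr.act_cases h htz with ⟨h1, -, -⟩ | ⟨h1, h2, σ, τ, h3, h4⟩
  · exact absurd h1 (hp.sw K1 C.k1)
  obtain ⟨i, hi⟩ := (D.ti s).1 hti
  have hσi : σ i = i := by
    have h5 := D.fr.dir_conj' h htz h3 h4 (show Dir z a b s i i from hi)
    rw [hts, mul_inv_cancel_right] at h5
    exact (D.fr.dir_unique h h5 (show Dir z a b s i i from hi)).2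
  by_cases hσ : σ = 1
  · rw [hσ] at h3
    exact W.di_of_cent hti.1 hp.ht fun x hx => D.comm_of_act h htz (hp.ht.z2 h) h3 hx
  · have hrf := rf_of hσi hσ
    obtain ⟨i', hi', hact⟩ := C.act_theta h D.fr.qa
    have hii : i' = i := by
      by_contra hne
      have h5 := (D.conj_ne' h (Ne.symm hne) hi).1
      have h6 : s * a' 0 * s⁻¹ = a' 0 := by rw [C.ta0, mul_inv_cancel_right]
      have h7 : s * a i' * s⁻¹ = a i' := by
        rcases hi' with hi' | hi'
        · rw [← hi']; exact h6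
        · have h8 : a i' = z * a' 0 := by rw [hi', D.zz]
          have h9 : s * z * s⁻¹ = z := by rw [← C.comm, mul_inv_cancel_right]
          calc s * a i' * s⁻¹ = (s * z * s⁻¹) * (s * a' 0 * s⁻¹) := by rw [h8]; group
            _ = a i' := by rw [h9, h6, h8]
      rw [h5] at h7
      exact D.fr.qa.zne _ h7
    rw [hii] at hact
    have h5 := hact.comp C.z2 h3 htz
    have h6 : σ * rf i = 1 := by
      rw [hrf]
      have : ∀ i, rf i * rf i = 1 := by decide
      exact this i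
    rw [h6] at h5
    have h7 := C.star_inZ h hf htz
    have h8 := C.star_z h htz
    rw [C.star_di h hf htz hti]
    exact W.di_of_cent hti.1 h7 fun x hx => D.comm_of_act h h8 (h7.z2 h) h5 hx

/-- (6.8) for `P2` -/
theorem di (hz : InZ Om z) (ht : InZ Om t) (hc : z * t = t * z) : DI Om z t := by
  by_contra hnd
  have h := W.w
  obtain ⟨s, hti, hst⟩ := W.line z t hz ht hc
  rcases (status h hti ht hc hst hnd).2 (W.two z s hti) with ⟨h1, h2, h3⟩ | ⟨h1, h2, h3⟩ | ⟨h1, h2, h3⟩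
  · exact hnd (W.di_aux (hti.mul h) h1 h3)
  · exact hnd (W.di_aux hti h1 h2)
  · exact hnd (hti.di.trans (W.di_aux (hti.symm h) h2 h1))

/-- `d` moves `A_s` into `A_z A_s` -/
theorem d_mem (hNI : NI Om z = ⊥) {d : G} {m : ℕ} (hdz : d * z = z * d) (hm : Odd m) (hdm : d ^ m = 1)
    (hdX : ∀ x ∈ CX Om z, d * x = x * d) (hti : TI Om z s) (hx : x ∈ AS Om s) : d * x * d⁻¹ ∈ AS Om z ⊔ AS Om s := by
  have h := W.w
  have hdA : ∀ {v}, v ∈ AS Om z → d * v * d⁻¹ ∈ AS Om z := by
    intro v hv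
    have := conj_mem_cj (g := d) hv
    rwa [AS_conj_comm h hdz] at this
  rcases W.as_cases hti hx with h1 | h1
  · exact mem_sup_left (hdA (h1.mem_AS hti))
  -- `u = x (d x d⁻¹)`
  have hxz := W.comm_of_AS hti hx
  have hsq : x * x = 1 := W.sq_of_AS hti.2.1 hx
  have hti' : TI Om z (d * s * d⁻¹) := by
    have := hti.conj h d
    rwa [hdz, mul_inv_cancel_right] at this
  have hx' : d * x * d⁻¹ ∈ AS Om (d * s * d⁻¹) := by rw [← AS_conj h]; exact conj_mem_cj hx
  have hx'z := W.comm_of_AS hti' hx'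
  have hsw' : Sw Om z (d * x * d⁻¹) := by
    have := h1.conj h d
    rwa [hdz, mul_inv_cancel_right] at this
  have huz : x * (d * x * d⁻¹) * z = z * (x * (d * x * d⁻¹)) := by
    rw [mul_assoc, hx'z, ← mul_assoc, hxz, mul_assoc]
  obtain ⟨w, hw, y, hy, hwy⟩ := W.exists_wy hti.1 huz (h1.mul h hsw' hxz hx'z) (fun v hv => by
    have e1 := W.comm_two hti hv hx
    have e2 := W.comm_two hti' hv hx'
    calc x * (d * x * d⁻¹) * v = x * (v * (d * x * d⁻¹)) := by rw [e2]; group
      _ = (v * x) * (d * x * d⁻¹) := by rw [e1]; group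
      _ = _ := by group)
  have hdx : d * x * d⁻¹ = x * w * y := by
    calc d * x * d⁻¹ = (x * x) * (d * x * d⁻¹) := by rw [hsq, one_mul]
      _ = x * (x * (d * x * d⁻¹)) := by group
      _ = _ := by rw [hwy]; group
  have hwyc : ∀ {v}, v ∈ AS Om z → ∀ n : ℕ, v * y ^ n = y ^ n * v := by
    intro v hv n
    have h2 : Commute v y := (CX_comm (W.AS_le_RZ hti.1 hv) hy).symm
    exact h2.pow_right n
  have hdy : d * y = y * d := hdX y hy
  have hpow : ∀ n : ℕ, ∃ v ∈ AS Om z, d ^ n * x * (d ^ n)⁻¹ = x * y ^ n * v := by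
    intro n
    induction n with
    | zero => exact ⟨1, one_mem _, by group⟩
    | succ n ih =>
      obtain ⟨v, hv, hv'⟩ := ih
      refine ⟨w * (d * v * d⁻¹), mul_mem hw (hdA hv), ?_⟩
      have hdyn : d * y ^ n * d⁻¹ = y ^ n := by
        have h2 : Commute d y := hdy
        rw [(h2.pow_right n).eq, mul_inv_cancel_right]
      calc d ^ (n + 1) * x * (d ^ (n + 1))⁻¹ = d * (d ^ n * x * (d ^ n)⁻¹) * d⁻¹ := by rw [pow_succ']; group
        _ = (d * x * d⁻¹) * (d * y ^ n * d⁻¹) * (d * v * d⁻¹) := by rw [hv']; group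
        _ = x * w * (y * y ^ n) * (d * v * d⁻¹) := by rw [hdx, hdyn]; group
        _ = x * (w * y ^ (n + 1)) * (d * v * d⁻¹) := by rw [← pow_succ']; group
        _ = x * (y ^ (n + 1) * w) * (d * v * d⁻¹) := by rw [hwyc hw]
        _ = _ := by group
  obtain ⟨v, hv, hv'⟩ := hpow m
  rw [hdm] at hv'
  have h2 : y ^ m * v = 1 := by
    have : x * (y ^ m * v) = x * 1 := by rw [← mul_assoc, ← hv']; group
    exact mul_left_cancel this
  have h3 : y ^ m ∈ AS Om z := by
    rw [eq_inv_of_mul_eq_one_left h2]; exact inv_mem hv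
  have h4 : y ^ m = 1 ∨ y ^ m = z := RZ_inf_CX h hti.1 (W.AS_le_RZ hti.1 h3) (pow_mem hy m)
  have hyz : y = 1 ∨ y = z := by
    have h5 : (y ^ 2) ^ m = 1 := by
      rw [← pow_mul, mul_comm, pow_mul]
      rcases h4 with h4 | h4
      · rw [h4, one_pow]
      · rw [h4, pow_two, hti.1.z2 h]
    have h6 : y ^ 2 = 1 := by
      have h7 : y ^ 2 ∈ NI Om z := by
        rw [mem_NI]
        refine ⟨pow_mem hy 2, fun s' hs' => ?_⟩
        refine CX_of_odd h hs' (pow_mem hy 2) ?_ hm h5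
        exact CX_comm (W.AS_le_RZ hti.1 hs'.mem_AS) (pow_mem hy 2)
      rw [hNI] at h7
      exact mem_bot.1 h7
    obtain ⟨n, hn⟩ := hm
    have h8 : y ^ m = y := by rw [hn, pow_add, pow_mul, h6, one_pow, one_mul, pow_one]
    rwa [h8] at h4
  rw [hdx]
  refine mul_mem (mul_mem (mem_sup_right hx) (mem_sup_left hw)) ?_
  rcases hyz with h5 | h5 <;> rw [h5]
  · exact one_mem _
  · exact mem_sup_left z_mem_AS

omit W in
theorem fin_three : ∀ f : Fin 3 → Fin 3, Function.Injective f → (∀ i, f i ≠ i) → ∀ i j, j = i ∨ j = f i ∨ j = f (f i) := by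
  decide

/-- `A_{s'} ≤ A_z A_s` for all type I neighbours `s'` of `z` -/
theorem AS_le (hNI : NI Om z = ⊥) (hti : TI Om z s) (hti' : TI Om z s') : AS Om s' ≤ AS Om z ⊔ AS Om s := by
  have h := W.w
  obtain ⟨d, hdz, ⟨m, hm, hdm⟩, hdX, hmv⟩ := W.d3 z hti.1
  have hdP : ∀ {x}, x ∈ AS Om z ⊔ AS Om s → d * x * d⁻¹ ∈ AS Om z ⊔ AS Om s := by
    intro x hx
    have h1 : AS Om z ⊔ AS Om s ≤ (AS Om z ⊔ AS Om s).comap (MulAut.conj d).toMonoidHom := by
      refine sup_le ?_ ?_
      · intro v hv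
        have := conj_mem_cj (g := d) hv
        rw [AS_conj_comm h hdz] at this
        exact mem_sup_left this
      · intro v hv
        exact W.d_mem hNI hdz hm hdm hdX hti hv
    exact h1 hx
  have hdti : ∀ {s}, TI Om z s → TI Om z (d * s * d⁻¹) := by
    intro s hs
    have := hs.conj h d
    rwa [hdz, mul_inv_cancel_right] at this
  -- `A_{d s d⁻¹} ≤ P` if `A_s ≤ P`
  have hstep : ∀ {s'}, AS Om s' ≤ AS Om z ⊔ AS Om s → AS Om (d * s' * d⁻¹) ≤ AS Om z ⊔ AS Om s := by
    intro s' hs'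
    rw [← AS_conj h]
    rintro _ ⟨x, hx, rfl⟩
    exact hdP (hs' hx)
  have hz' : ∀ {s'}, TI Om z s' → AS Om s' ≤ AS Om z ⊔ AS Om s → AS Om (z * s') ≤ AS Om z ⊔ AS Om s := by
    intro s' h1 h2
    exact (W.AS_mul_le h1).trans (sup_le le_sup_left h2)
  -- indices
  obtain ⟨K1, K2, a, b, D⟩ := W.dg z hti.1
  have hwti : ∀ i, TI Om z (a i * b i) := fun i => (D.ti _).2 ⟨i, Or.inl rfl⟩
  have hd : ∀ {k : Fin 3}, Dir z a b (a k * b k) k k := Or.inl rfl
  have hf : ∀ i, ∃ j, d * (a i * b i) * d⁻¹ = a j * b j ∨ d * (a i * b i) * d⁻¹ = z * (a j * b j) :=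
    fun i => (D.ti _).1 (hdti (hwti i))
  choose f hf using hf
  have hdz' : d * z * d⁻¹ = z := by rw [hdz, mul_inv_cancel_right]
  have hdmz : ∀ k : G, d * (z * k) * d⁻¹ = z * (d * k * d⁻¹) := by
    intro k
    calc d * (z * k) * d⁻¹ = (d * z * d⁻¹) * (d * k * d⁻¹) := by group
      _ = _ := by rw [hdz']
  have hinj : Function.Injective f := by
    intro i j hij
    have h1 : d * (a i * b i) * d⁻¹ = d * (a j * b j) * d⁻¹ ∨ d * (a i * b i) * d⁻¹ = d * (z * (a j * b j)) * d⁻¹ := by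
      rw [hdmz]
      rcases hf i with h3 | h3 <;> rcases hf j with h4 | h4
      · left; rw [h3, h4, hij]
      · right; rw [h3, h4, hij, D.zz]
      · right; rw [h3, h4, hij]
      · left; rw [h3, h4, hij]
    have h2 : Dir z a b (a i * b i) j j := by
      rcases h1 with h1 | h1
      · exact Or.inl (mul_left_cancel (mul_right_cancel h1))
      · exact Or.inr (mul_left_cancel (mul_right_cancel h1))
    exact (D.fr.dir_unique h hd h2).1
  have hne : ∀ i, f i ≠ i := by
    intro i hi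
    obtain ⟨h1, h2⟩ := hmv _ (hwti i)
    rcases hf i with h3 | h3 <;> rw [hi] at h3
    · exact h1 h3
    · exact h2 h3
  obtain ⟨i, hi⟩ := (D.ti s).1 hti
  obtain ⟨j, hj⟩ := (D.ti s').1 hti'
  -- `A_{w_i} ≤ P`
  have key0 : AS Om (a i * b i) ≤ AS Om z ⊔ AS Om s := by
    rcases hi with hi | hi
    · rw [← hi]; exact le_sup_right
    · have : a i * b i = z * s := by rw [hi, D.zz]
      rw [this]
      exact hz' hti le_sup_right
  have keyf : ∀ k, AS Om (a k * b k) ≤ AS Om z ⊔ AS Om s → AS Om (a (f k) * b (f k)) ≤ AS Om z ⊔ AS Om s := by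
    intro k hk
    have h1 := hstep hk
    rcases hf k with h2 | h2
    · rwa [h2] at h1
    · have : a (f k) * b (f k) = z * (d * (a k * b k) * d⁻¹) := by rw [h2, D.zz]
      rw [this]
      exact hz' (hdti (hwti k)) h1
  have keyj : AS Om (a j * b j) ≤ AS Om z ⊔ AS Om s := by
    rcases fin_three f hinj hne i j with h1 | h1 | h1 <;> rw [h1]
    · exact key0
    · exact keyf _ key0
    · exact keyf _ (keyf _ key0)
  rcases hj with hj | hj
  · rw [hj]; exact keyj
  · rw [hj]; exact hz' (hwti j) keyj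

end AW2

/-- `P_z` -/
def PZ (Om : Set (Subgroup G)) (z : G) : Subgroup G := ⨆ s, ⨆ (_ : TI Om z s), (AS Om z ⊔ AS Om s)

theorem PZ_conj (h : W2 Om) (g z : G) : PZ Om (g * z * g⁻¹) = cj g (PZ Om z) := by
  have key : ∀ (g z : G), cj g (PZ Om z) ≤ PZ Om (g * z * g⁻¹) := by
    intro g z
    have h1 : PZ Om z ≤ (PZ Om (g * z * g⁻¹)).comap (MulAut.conj g).toMonoidHom := by
      refine iSup_le fun s => iSup_le fun hs => ?_
      have h2 : AS Om (g * z * g⁻¹) ⊔ AS Om (g * s * g⁻¹) ≤ PZ Om (g * z * g⁻¹) :=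
        le_iSup_of_le (g * s * g⁻¹) (le_iSup_of_le (hs.conj h g) le_rfl)
      refine sup_le ?_ ?_
      · intro x hx
        exact h2 (mem_sup_left (by rw [← AS_conj h]; exact conj_mem_cj hx))
      · intro x hx
        exact h2 (mem_sup_right (by rw [← AS_conj h]; exact conj_mem_cj hx))
    rintro _ ⟨x, hx, rfl⟩
    exact h1 hx
  refine le_antisymm ?_ (key g z)
  have h1 := cj_mono g (key g⁻¹ (g * z * g⁻¹))
  rw [cj_cj_inv] at h1
  have h2 : g⁻¹ * (g * z * g⁻¹) * g⁻¹⁻¹ = z := by group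
  rwa [h2] at h1

/-- SC' (e): an equivariant `z ↦ N_z ≤ C(z)` which is constant on commuting pairs is trivial -/
def SCe (Om : Set (Subgroup G)) : Prop :=
  ∀ N : G → Subgroup G, (∀ g z, InZ Om z → N (g * z * g⁻¹) = cj g (N z)) → (∀ z, InZ Om z → N z ≤ centralizer {z}) →
    (∀ z t, InZ Om z → InZ Om t → z * t = t * z → N z = N t) → ∀ z, InZ Om z → N z = ⊥

namespace AW2

variable (W : AW2 Om)

include W

theorem PZ_eq (hNI : NI Om z = ⊥) (hti : TI Om z s) : PZ Om z = AS Om z ⊔ AS Om s := by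
  refine le_antisymm (iSup_le fun s' => iSup_le fun hs' => ?_) (le_iSup_of_le s (le_iSup_of_le hti le_rfl))
  exact sup_le le_sup_left (W.AS_le hNI hti hs')

/-- **(A), `k = 1`, `P2` is impossible** -/
theorem false_of (hSC : SCe Om) (hz : InZ Om z) : False := by
  have h := W.w
  have hconstNI : ∀ z, InZ Om z → NI Om z = ⊥ := hSC (NI Om) (fun g z _ => NI_conj h g z) (fun z hz => NI_le h hz)
    (fun z t hz ht hc => NI_const_di h (W.di hz ht hc))
  have hstep : ∀ z s, TI Om z s → PZ Om z = PZ Om s := by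
    intro z s hti
    rw [W.PZ_eq (hconstNI z hti.1) hti, W.PZ_eq (hconstNI s hti.2.1) (hti.symm h), sup_comm]
  have hdi : ∀ z t, DI Om z t → PZ Om z = PZ Om t := by
    intro z t hd
    induction hd with
    | refl => rfl
    | tail _ h2 ih => exact ih.trans (hstep _ _ h2)
  have hconst : ∀ z, InZ Om z → PZ Om z = ⊥ := by
    refine hSC (PZ Om) (fun g z _ => PZ_conj h g z) ?_ ?_
    · intro z hz
      refine iSup_le fun s => iSup_le fun hs => sup_le ?_ ?_
      · intro x hx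
        rw [mem_centralizer_singleton_iff]
        exact W.AS_comm hz hx z_mem_AS
      · intro x hx
        rw [mem_centralizer_singleton_iff]
        exact W.comm_of_AS hs hx
    · intro z t hz ht hc
      exact hdi z t (W.di hz ht hc)
  obtain ⟨s, hs⟩ := W.toAW.exists_ti hz
  have h1 : z ∈ PZ Om z := by
    rw [W.PZ_eq (hconstNI z hz) hs]
    exact mem_sup_left z_mem_AS
  rw [hconst z hz, mem_bot] at h1
  exact hz.z1 h h1

end AW2

end

end Cfsg.Agent.Cit.Nil.RTwo
end

-- part: Cit/Nil/RTwo/NineA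
section
set_option linter.all false
open scoped Cfsg.Agent.FastGrp

/-!
# Section 9 of the blueprint, case `P1`

All lines of type I are of type `P1` (`∀ z s, TI Om z s → ¬ PTwo Om z s`), every `t ∈ Z ∩ C(z)` centralises a line on `z`
(`HasLine`).

* `POne.fx`, `POne.ti_or_ft` : two points on different lines on `z` form a pair of type I or f;
* case (I) (`hI`: always type I): `POne.ti_iff`, `POne.const` : the set `{x | x = z ∨ TI z x}` is the same for all
  commuting `z, t ∈ Z`;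
* case (F) (`hF`: always f): `POne.exists_mid` (F1), `POne.no_pr` (F2), `POne.mid_unique` (F3), `POne.eqEps`: (9.0) applies.

uses: `W2`, `HasLine`.
-/

set_option autoImplicit false
set_option linter.style.haveILetI false
set_option linter.unusedSectionVars false

namespace Cfsg.Agent.Cit.Nil.RTwo

open Subgroup Cfsg Cit

variable {G : Type*} [Group G]

/-- all lines are of type `P1` -/
structure POne (Om : Set (Subgroup G)) : Prop where
  w : W2 Om
  line : HasLine Om
  p1 : ∀ z s, TI Om z s → ¬ PTwo Om z s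

section

variable [Finite G] {Om : Set (Subgroup G)} {z t s s' g w w' : G} {K L : Subgroup G}

/-- (6.6), more precisely -/
theorem f_twice_ti (h : W2 Om) (hti : TI Om z s) (h1 : FT Om z t) (h2 : FT Om s t) :
    ∃ L, Mem Om s L ∧ ∃ r ∈ L, TI Om z (r * t * r⁻¹) := by
  obtain ⟨K1, K2, L1, L2, a, b, p, q, C⟩ := hti.exists_cf h
  have htz : t * z = z * t := h1.fr.comm.symm
  have hts : t * s = s * t := h2.fr.comm.symm
  obtain ⟨-, r, hr, hrt⟩ := C.star h h2 htz
  refine ⟨L1, C.l1, r, hr, ?_⟩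
  rw [hrt]
  obtain ⟨σ, hσ, e1, e2⟩ := h1.act h C.k1 C.qa
  have hK1 : cj t K1 = K1 := h1.fr.fx K1 C.k1
  have e3 : σ 0 = 0 := by
    rcases C.symm.fix_or hts hK1 with e4 | e4 <;> rcases hσ 0 with e5 | e5
    · exact (C.qa.inj (Or.inl (e4.symm.trans e5))).symm
    · exact (C.qa.inj (Or.inr (e4.symm.trans e5))).symm
    · exact C.qa.inj (Or.inr (e5.symm.trans e4))
    · exact (C.qa.inj (Or.inl (mul_left_cancel (e4.symm.trans e5)))).symm
  have e4 := rf_of e3 e2
  rw [e4] at hσ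
  have e5 := (C.act_p0 h).comp C.z2 hσ htz
  have e6 : rf 0 * rf 0 = 1 := by decide
  rw [e6] at e5
  have hz' := C.star_z h htz
  have e7 := h.inn_both C.k1 (C.star_inZ h h2 htz) (C.star_ne h h2).symm (e5.inner C.qa hz')
  exact ⟨C.k1.inZ, C.star_inZ h h2 htz, C.star_ne h h2, hz'.symm, e7.1⟩

theorem TI.fx (h : W2 Om) (hti : TI Om z s) : Fx Om z s := fun _ hM => hti.2.2.2.2.cj_eq hM h

theorem TI.not_ft (hti : TI Om z s) (hf : FT Om z s) : False := hf.ninn hti.2.2.2.2

theorem TI.not_pr (h : W2 Om) (hti : TI Om z s) (hf : PR Om z s) : False := hf.not_fr (hti.fr h)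

/-- `t` fixing the members over `z` and centralising two type I neighbours of `z` on different lines is of type I,
if the lines lie in `R_z` -/
theorem inn_of_two_dir (h : W2 Om) (hfr : FR Om z t) (hw : w ∈ RZ Om z) (hw' : w' ∈ RZ Om z) (hw2 : w * w = 1)
    (hw2' : w' * w' = 1) (h1 : w ≠ 1) (h1' : w' ≠ 1) (hz : w ≠ z) (hz' : w' ≠ z) (hne : w' ≠ w) (hne' : w' ≠ z * w)
    (htw : t * w = w * t) (htw' : t * w' = w' * t) : Inn Om z t := by
  obtain ⟨K1, K2, a, b, F⟩ := hfr.hz.exists_frame h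
  obtain ⟨i, j, hd⟩ := F.exists_dir h hw hw2 h1 hz
  obtain ⟨i', j', hd'⟩ := F.exists_dir h hw' hw2' h1' hz'
  have htz : t * z = z * t := hfr.comm.symm
  obtain ⟨σ, hσ⟩ := F.qa.exists_act F.qa (hfr.fx K1 F.k1) htz
  obtain ⟨τ, hτ⟩ := F.qb.exists_act F.qb (hfr.fx K2 F.k2) htz
  have e1 := F.dir_conj htz hσ hτ hd
  have e2 := F.dir_conj htz hσ hτ hd'
  rw [htw, mul_inv_cancel_right] at e1
  rw [htw', mul_inv_cancel_right] at e2
  obtain ⟨f1, f2⟩ := F.dir_unique h hd e1
  obtain ⟨f3, f4⟩ := F.dir_unique h hd' e2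
  have hdiff : i ≠ i' ∨ j ≠ j' := by
    by_contra hcon
    push Not at hcon
    obtain ⟨rfl, rfl⟩ := hcon
    rcases hd with rfl | rfl <;> rcases hd' with rfl | rfl
    · exact hne rfl
    · exact hne' rfl
    · exact hne' (F.qa.zzx _).symm
    · exact hne rfl
  have key : ∀ (σ : Equiv.Perm (Fin 3)) (i j : Fin 3), i = σ i → j = σ j → i ≠ j → σ = 1 := by decide
  rcases hdiff with hd1 | hd1
  · have h3 := key σ i i' f1 f3 hd1
    rw [h3] at hσ
    exact (h.inn_both F.k1 hfr.ht hfr.ne.symm (hσ.inner F.qa htz)).1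
  · have h3 := key τ j j' f2 f4 hd1
    rw [h3] at hτ
    exact (h.inn_both F.k2 hfr.ht hfr.ne.symm (hτ.inner F.qb htz)).1

namespace POne

variable (P : POne Om)

include P

/-- `s ∈ R_z` -/
theorem mem_RZ (hti : TI Om z s) : s ∈ RZ Om z := by
  obtain ⟨c, l⟩ := hti.exists_lab P.w
  have h1 := l.wz
  rwa [l.eq_one P.w (P.p1 z s hti), mul_one] at h1

theorem fx_iff (hti : TI Om z s) (hgz : g * z = z * g) (hgs : g * s = s * g) : Fx Om z g ↔ Fx Om s g := by
  rcases eps_one P.w hti (P.p1 z s hti) hgz hgs with ⟨e1, e2, -⟩ | ⟨e1, e2, -⟩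
  · exact ⟨fun _ => e2, fun _ => e1⟩
  · exact ⟨fun h3 => (fx_sw_false hti.1 h3 e1).elim, fun h3 => (fx_sw_false hti.2.1 h3 e2).elim⟩

theorem sw_iff (hti : TI Om z s) (hgz : g * z = z * g) (hgs : g * s = s * g) : Sw Om z g ↔ Sw Om s g := by
  rcases eps_one P.w hti (P.p1 z s hti) hgz hgs with ⟨e1, e2, -⟩ | ⟨e1, e2, -⟩
  · exact ⟨fun h3 => (fx_sw_false hti.1 e1 h3).elim, fun h3 => (fx_sw_false hti.2.1 e2 h3).elim⟩
  · exact ⟨fun _ => e2, fun _ => e1⟩

/-- two commuting type I neighbours of `z` form a pair of type I or f -/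
theorem ti_or_ft (hti : TI Om z s) (hti' : TI Om z s') (hne : s ≠ s') (hc : s * s' = s' * s) :
    TI Om s s' ∨ FT Om s s' := by
  have h1 : Fx Om s s' := (P.fx_iff hti hti'.2.2.2.1.symm hc.symm).1 (hti'.fx P.w)
  rcases tcases P.w hti.2.1 hti'.2.1 hne hc with h2 | h2 | h2
  · exact (fx_sw_false hti.2.1 h1 h2.sw).elim
  · exact Or.inr h2
  · exact Or.inl h2

/-! ### Case (I) -/

theorem ti_iff (hI : ∀ z s s', TI Om z s → TI Om z s' → s ≠ s' → TI Om s s') (hti : TI Om z s) (x : G) :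
    (x = z ∨ TI Om z x) ↔ (x = s ∨ TI Om s x) := by
  constructor
  · rintro (rfl | h1)
    · exact Or.inr (hti.symm P.w)
    · by_cases h2 : x = s
      · exact Or.inl h2
      · exact Or.inr (hI z s x hti h1 (Ne.symm h2))
  · rintro (rfl | h1)
    · exact Or.inr hti
    · by_cases h2 : x = z
      · exact Or.inl h2
      · exact Or.inr (hI s z x (hti.symm P.w) h1 (Ne.symm h2))

theorem ti_iff_di (hI : ∀ z s s', TI Om z s → TI Om z s' → s ≠ s' → TI Om s s') (hd : DI Om z t) (x : G) :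
    (x = z ∨ TI Om z x) ↔ (x = t ∨ TI Om t x) := by
  induction hd with
  | refl => rfl
  | tail _ h2 ih => exact ih.trans (P.ti_iff hI h2 x)

/-- case (I): `A_z` is constant on commuting pairs -/
theorem const (hI : ∀ z s s', TI Om z s → TI Om z s' → s ≠ s' → TI Om s s') (hz : InZ Om z) (ht : InZ Om t)
    (hc : z * t = t * z) (x : G) : (x = z ∨ TI Om z x) ↔ (x = t ∨ TI Om t x) :=
  P.ti_iff_di hI (di_of_one P.w P.line P.p1 hz ht hc) x

/-! ### Case (F) -/

/-- (F1) -/
theorem exists_mid (hf : FT Om z t) : ∃ w, TI Om z w ∧ TI Om w t := by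
  obtain ⟨s, hti, hst⟩ := P.line z t hf.fr.hz hf.fr.ht hf.fr.comm
  have htz : t * z = z * t := hf.fr.comm.symm
  have h1 : Fx Om s t := (P.fx_iff hti htz hst.symm).1 hf.fr.fx
  have hne : s ≠ t := by
    rintro rfl; exact hti.not_ft hf
  rcases tcases P.w hti.2.1 hf.fr.ht hne hst with h2 | h2 | h2
  · exact (fx_sw_false hti.2.1 h1 h2.sw).elim
  · obtain ⟨L, hL, r, hr, h3⟩ := f_twice_ti P.w hti hf h2
    have h4 := h3.conj P.w r⁻¹
    have e1 : r⁻¹ * (r * t * r⁻¹) * r⁻¹⁻¹ = t := by group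
    rw [e1] at h4
    have h5 := (hti.symm P.w).2.2.2.2 L hL r⁻¹ (inv_mem hr)
    have hzs := hti.2.2.2.1
    have hrs : r * s = s * r := hL.comm_z P.w hr
    rcases h5 with h5 | h5
    · exfalso
      have e2 : r⁻¹ * z * r⁻¹⁻¹ = z := by
        rw [inv_inv]
        have : z * r⁻¹ = r⁻¹ * z := by rw [mul_inv_eq_iff_eq_mul] at h5; exact h5
        rw [← this, inv_mul_cancel_right]
      rw [e2] at h4
      exact h4.not_ft hf
    · have e2 : r⁻¹ * z * r⁻¹⁻¹ = z * s := by
        rw [inv_inv]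
        have h6 : z * r⁻¹ = s * r⁻¹ * z := by rw [mul_inv_eq_iff_eq_mul] at h5; exact h5
        have h7 : r⁻¹ * z = s⁻¹ * (z * r⁻¹) := by rw [h6]; group
        have h8 : s⁻¹ = s := hti.2.1.inv P.w
        calc r⁻¹ * z * r = s⁻¹ * (z * r⁻¹) * r := by rw [h7]
          _ = s * z := by rw [h8]; group
          _ = z * s := hzs.symm
      rw [e2] at h4
      exact ⟨z * s, hti.mul P.w, h4⟩
  · exact ⟨s, hti, h2⟩

/-- (F3) -/
theorem mid_unique (hf : FT Om z t) (h1 : TI Om z w) (h2 : t * w = w * t) (h1' : TI Om z w') (h2' : t * w' = w' * t) :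
    w' = w ∨ w' = z * w := by
  by_contra hcon
  push Not at hcon
  exact hf.ninn (inn_of_two_dir P.w hf.fr (P.mem_RZ h1) (P.mem_RZ h1') (h1.2.1.z2 P.w) (h1'.2.1.z2 P.w) (h1.2.1.z1 P.w)
    (h1'.2.1.z1 P.w) h1.2.2.1.symm h1'.2.2.1.symm hcon.1 hcon.2 h2 h2')

/-- (F2) -/
theorem no_pr (hF : ∀ z s s', TI Om z s → TI Om z s' → s ≠ s' → s' ≠ z * s → FT Om s s') (hp : PR Om z t) : False := by
  obtain ⟨s, hti, hst⟩ := P.line z t hp.hz hp.ht hp.comm
  have htz : t * z = z * t := hp.comm.symm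
  have hts : t * s = s * t := hst.symm
  have hti2 := hti.mul P.w
  have hzs := hti.2.2.2.1
  have htzs : t * (z * s) = z * s * t := by rw [← mul_assoc, htz, mul_assoc, hts, ← mul_assoc]
  have s1 : Sw Om s t := (P.sw_iff hti htz hts).1 hp.sw
  have s2 : Sw Om (z * s) t := (P.sw_iff hti2 htz htzs).1 hp.sw
  have ne1 : t ≠ z := hp.ne.symm
  have ne2 : t ≠ s := by
    rintro rfl
    exact fx_sw_false hti.1 (hti.fx P.w) hp.sw
  have ne3 : t ≠ z * s := by
    rintro rfl
    exact fx_sw_false hti.1 (hti2.fx P.w) hp.sw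
  have n1 : ¬ TI Om t z := fun h3 => fx_sw_false hti.1 ((h3.symm P.w).fx P.w) hp.sw
  have n2 : ¬ TI Om t s := fun h3 => fx_sw_false hti.2.1 ((h3.symm P.w).fx P.w) s1
  have n3 : ¬ TI Om t (z * s) := fun h3 => fx_sw_false hti2.2.1 ((h3.symm P.w).fx P.w) s2
  -- `FT t v` with `v` swapped by `t` is impossible
  have key : ∀ v, FT Om t v → Sw Om v t → False := by
    intro v hv hsw
    obtain ⟨w, hw1, hw2⟩ := P.exists_mid hv
    have hwt : TI Om w t := hw1.symm P.w
    have hvt : v ≠ t := hv.fr.ne.symm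
    have hne : t ≠ w * v := by
      intro e
      have h3 := (hw2.mul P.w).symm P.w
      have h4 : TI Om (w * v) v := by
        have h5 := (hw2.symm P.w).mul P.w
        rw [hw2.2.2.2.1.symm] at h5
        exact h5.symm P.w
      rw [← e] at h4
      exact h4.not_ft hv
    exact fx_sw_false hv.fr.ht (hF w v t hw2 hwt hvt hne).fr.fx hsw
  rcases four P.w hp.hz hti.2.1 hti2.2.1 hp.ht hzs htz hts ne1 ne2 ne3 n1 n2 n3 with
    ⟨-, -, h3⟩ | ⟨-, h3, -⟩ | ⟨h3, -, -⟩
  · exact key _ h3 s2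
  · exact key _ h3 s1
  · exact key _ h3 hp.sw

/-- **case (F): the condition of the transfer lemma** -/
theorem eqEps (hF : ∀ z s s', TI Om z s → TI Om z s' → s ≠ s' → s' ≠ z * s → FT Om s s') : EqEps Om := by
  intro z t g hz ht hc hgz hgt _
  by_cases hne : z = t
  · rw [hne]
  rcases tcases P.w hz ht hne hc with h1 | h1 | h1
  · exact (P.no_pr hF h1).elim
  · have h2 : FT Om t z := by
      rcases tcases P.w ht hz (Ne.symm hne) hc.symm with h2 | h2 | h2
      · exact (P.no_pr hF h2).elim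
      · exact h2
      · exact ((h2.symm P.w).not_ft h1).elim
    obtain ⟨w, hw1, hw2⟩ := P.exists_mid h1
    have hgzz : g * z * g⁻¹ = z := by rw [hgz, mul_inv_cancel_right]
    have hgtt : g * t * g⁻¹ = t := by rw [hgt, mul_inv_cancel_right]
    have k1 := hw1.conj P.w g
    have k2 := hw2.conj P.w g
    rw [hgzz] at k1
    rw [hgtt] at k2
    have e1 := P.mid_unique h1 hw1 hw2.2.2.2.1.symm k1 k2.2.2.2.1.symm
    have e2 := P.mid_unique h2 (hw2.symm P.w) hw1.2.2.2.1 (k2.symm P.w) k1.2.2.2.1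
    have e3 : g * w * g⁻¹ = w := by
      rcases e1 with e1 | e1
      · exact e1
      · rcases e2 with e2 | e2
        · exact e2
        · exact absurd (mul_right_cancel (e1.symm.trans e2)) hne
    have hgw : g * w = w * g := by rwa [mul_inv_eq_iff_eq_mul] at e3
    rw [P.sw_iff hw1 hgz hgw, P.sw_iff hw2 hgw hgt]
  · exact P.sw_iff h1 hgz hgt

end POne

end

end Cfsg.Agent.Cit.Nil.RTwo
end

-- part: Cit/Nil/RTwo/NineB
section
prune_inst 0x400000
set_option linter.all false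
open scoped Cfsg.Agent.FastGrp

/-!
# Section 9 of the blueprint, case `P1`: the dichotomy and the end

`pone_dich` : in the world `AW` with all lines of type `P1`: case (I) or case (F), uniformly.

uses: `AW`, `POne`.
-/

set_option autoImplicit false
set_option linter.style.haveILetI false
set_option linter.unusedSectionVars false
set_option maxHeartbeats 400000

namespace Cfsg.Agent.Cit.Nil.RTwo

open Subgroup Cfsg Cit

variable {G : Type*} [Group G]

section

variable [Finite G] {Om : Set (Subgroup G)} {z t s s' g w w' : G} {K L K1 K2 : Subgroup G} {a b : Fin 3 → G}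

/-- two pairs of points on `z` on different lines: the pairs of lines are conjugate -/
theorem rot_pairs : ∀ σ : Fin 3 → Fin 3, Function.Injective σ → (∀ i, σ i ≠ i) → ∀ i j i' j' : Fin 3, i ≠ j → i' ≠ j' →
    (i' = i ∧ j' = j) ∨ (i' = j ∧ j' = i) ∨ (i' = σ i ∧ j' = σ j) ∨ (i' = σ j ∧ j' = σ i) ∨
      (i' = σ (σ i) ∧ j' = σ (σ j)) ∨ (i' = σ (σ j) ∧ j' = σ (σ i)) := by decide

/-- the signs do not matter -/
theorem Dg.ti_sign (D : Dg Om z K1 K2 a b) (h : W2 Om) {i j : Fin 3} (hij : i ≠ j)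
    (h1 : TI Om (a i * b i) (a j * b j)) (hs : s = a i * b i ∨ s = z * (a i * b i))
    (hs' : s' = a j * b j ∨ s' = z * (a j * b j)) : TI Om s s' := by
  have hz2 := D.fr.qa.z2
  -- the action of `a i`
  have A : ∀ i j, i ≠ j → a i * (a j * b j) * (a i)⁻¹ = z * (a j * b j) := by
    intro i j hij
    calc a i * (a j * b j) * (a i)⁻¹ = a i * a j * (b j * (a i)⁻¹) := by group
      _ = a i * a j * ((a i)⁻¹ * b j) := by
        have := D.ab h i j
        have e : b j * (a i)⁻¹ = (a i)⁻¹ * b j := by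
          rw [eq_inv_mul_iff_mul_eq, ← mul_assoc, this, mul_inv_cancel_right]
        rw [e]
      _ = a i * a j * (a i)⁻¹ * b j := by group
      _ = _ := by rw [D.fr.qa.conj_ne hij, mul_assoc]
  have B : ∀ i, a i * (a i * b i) * (a i)⁻¹ = a i * b i := by
    intro i
    have := D.ab h i i
    have e : b i * (a i)⁻¹ = (a i)⁻¹ * b i := by
      rw [eq_inv_mul_iff_mul_eq, ← mul_assoc, this, mul_inv_cancel_right]
    calc a i * (a i * b i) * (a i)⁻¹ = a i * a i * (b i * (a i)⁻¹) := by group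
      _ = a i * b i := by rw [e]; group
  have Z1 : ∀ i j : Fin 3, a i * (z * (a j * b j)) * (a i)⁻¹ = z * (a i * (a j * b j) * (a i)⁻¹) := by
    intro i j
    calc a i * (z * (a j * b j)) * (a i)⁻¹ = (a i * z) * (a j * b j) * (a i)⁻¹ := by group
      _ = (z * a i) * (a j * b j) * (a i)⁻¹ := by rw [D.fr.qa.zc]
      _ = _ := by group
  have c1 := h1.conj h (a i)
  rw [A i j hij, B i] at c1
  have c2 := h1.conj h (a j)
  rw [A j i (Ne.symm hij), B j] at c2
  have c3 := c2.conj h (a i)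
  rw [Z1, B i, A i j hij] at c3
  rcases hs with rfl | rfl <;> rcases hs' with rfl | rfl
  · exact h1
  · exact c1
  · exact c2
  · exact c3

theorem AW.ti_all (W : AW Om) (hti : TI Om z s) (hti' : TI Om z s') (hne : s ≠ s') (hne' : s' ≠ z * s)
    (h0 : TI Om s s') : ∀ t w w', TI Om t w → TI Om t w' → w ≠ w' → TI Om w w' := by
  have h := W.w
  have hz := hti.1
  obtain ⟨K1, K2, a, b, D⟩ := W.dg z hz
  obtain ⟨i, hi⟩ := (D.ti s).1 hti
  obtain ⟨j, hj⟩ := (D.ti s').1 hti'
  have hz2 := D.fr.qa.z2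
  have zz : ∀ y, z * (z * y) = y := D.zz
  have hij : i ≠ j := by
    rintro rfl
    rcases hi with hi | hi <;> rcases hj with hj | hj
    · exact hne (hi.trans hj.symm)
    · exact hne' (by rw [hj, hi])
    · exact hne' (by rw [hj, hi, zz])
    · exact hne (hi.trans hj.symm)
  have wi : ∀ i, TI Om z (a i * b i) := fun i => (D.ti _).2 ⟨i, Or.inl rfl⟩
  have wz : ∀ i, TI Om z (z * (a i * b i)) := fun i => (D.ti _).2 ⟨i, Or.inr rfl⟩
  -- the base pair
  have hbase : TI Om (a i * b i) (a j * b j) := by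
    have e1 : TI Om (a i * b i) s' := by
      rcases hi with rfl | rfl
      · exact h0
      · have c2 := h0.conj h (a j)
        have A : a j * (z * (a i * b i)) * (a j)⁻¹ = a i * b i := by
          have e : b i * (a j)⁻¹ = (a j)⁻¹ * b i := by
            rw [eq_inv_mul_iff_mul_eq, ← mul_assoc, D.ab h j i, mul_inv_cancel_right]
          calc a j * (z * (a i * b i)) * (a j)⁻¹ = (a j * z) * a i * (b i * (a j)⁻¹) := by group
            _ = (z * a j) * a i * ((a j)⁻¹ * b i) := by rw [D.fr.qa.zc, e]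
            _ = z * (a j * a i * (a j)⁻¹) * b i := by group
            _ = z * (z * a i) * b i := by rw [D.fr.qa.conj_ne (Ne.symm hij)]
            _ = _ := by rw [zz]
        have B : a j * s' * (a j)⁻¹ = s' := by
          have e : b j * (a j)⁻¹ = (a j)⁻¹ * b j := by
            rw [eq_inv_mul_iff_mul_eq, ← mul_assoc, D.ab h j j, mul_inv_cancel_right]
          have e1 : a j * (a j * b j) * (a j)⁻¹ = a j * b j := by
            calc a j * (a j * b j) * (a j)⁻¹ = a j * a j * (b j * (a j)⁻¹) := by group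
              _ = a j * b j := by rw [e]; group
          rcases hj with rfl | rfl
          · exact e1
          · calc a j * (z * (a j * b j)) * (a j)⁻¹ = (a j * z) * (a j * b j) * (a j)⁻¹ := by group
              _ = z * (a j * (a j * b j) * (a j)⁻¹) := by rw [← D.fr.qa.zc]; group
              _ = _ := by rw [e1]
        rwa [A, B] at c2
    rcases hj with rfl | rfl
    · exact e1
    · have c2 := e1.conj h (a i)
      have A : a i * (z * (a j * b j)) * (a i)⁻¹ = a j * b j := by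
        have e : b j * (a i)⁻¹ = (a i)⁻¹ * b j := by
          rw [eq_inv_mul_iff_mul_eq, ← mul_assoc, D.ab h i j, mul_inv_cancel_right]
        calc a i * (z * (a j * b j)) * (a i)⁻¹ = (a i * z) * a j * (b j * (a i)⁻¹) := by group
          _ = (z * a i) * a j * ((a i)⁻¹ * b j) := by rw [D.fr.qa.zc, e]
          _ = z * (a i * a j * (a i)⁻¹) * b j := by group
          _ = z * (z * a j) * b j := by rw [D.fr.qa.conj_ne hij]
          _ = _ := by rw [zz]
      have B : a i * (a i * b i) * (a i)⁻¹ = a i * b i := by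
        have e : b i * (a i)⁻¹ = (a i)⁻¹ * b i := by
          rw [eq_inv_mul_iff_mul_eq, ← mul_assoc, D.ab h i i, mul_inv_cancel_right]
        calc a i * (a i * b i) * (a i)⁻¹ = a i * a i * (b i * (a i)⁻¹) := by group
          _ = a i * b i := by rw [e]; group
      rwa [A, B] at c2
  -- the rotation
  obtain ⟨d, hdz, -, -, hd⟩ := W.d3 z hz
  have hex : ∀ i, ∃ j, d * (a i * b i) * d⁻¹ = a j * b j ∨ d * (a i * b i) * d⁻¹ = z * (a j * b j) := by
    intro i
    have h1 := TI.conj h (wi i) d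
    rw [hdz, mul_inv_cancel_right] at h1
    exact (D.ti _).1 h1
  choose σ hσ using hex
  have hninj : ∀ i j, (a i * b i = a j * b j ∨ a i * b i = z * (a j * b j)) → i = j := by
    intro i j hij
    have f1 : D.fr.qa.z2 = D.fr.qa.z2 := rfl
    by_contra hne
    have e1 := D.conj_ne h hne
    -- `a i b i` commutes with itself
    have e2 : a i * b i * a j * (a i * b i)⁻¹ = a j := by
      have e3 : (a j * b j) * a j * (a j * b j)⁻¹ = a j := by
        calc a j * b j * a j * (a j * b j)⁻¹ = a j * (b j * a j) * (b j)⁻¹ * (a j)⁻¹ := by group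
          _ = a j * (a j * b j) * (b j)⁻¹ * (a j)⁻¹ := by rw [← D.ab h]
          _ = a j := by group
      rcases hij with e | e <;> rw [e]
      · exact e3
      · calc z * (a j * b j) * a j * (z * (a j * b j))⁻¹ = z * ((a j * b j) * a j * (a j * b j)⁻¹) * z⁻¹ := by group
          _ = z * a j * z⁻¹ := by rw [e3]
          _ = a j := by rw [D.fr.qa.zc, mul_inv_cancel_right]
    exact D.fr.qa.z1 (mul_eq_right.1 (e1.symm.trans e2))
  have hσne : ∀ i, σ i ≠ i := by
    intro i hi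
    rcases hσ i with e | e <;> rw [hi] at e
    · exact (hd _ (wi i)).1 e
    · exact (hd _ (wi i)).2 e
  have hσinj : Function.Injective σ := by
    intro i j hij
    apply hninj
    have e1 : d * (a i * b i) * d⁻¹ = d * (a j * b j) * d⁻¹ ∨ d * (a i * b i) * d⁻¹ = d * (z * (a j * b j)) * d⁻¹ := by
      have hzd : d * (z * (a j * b j)) * d⁻¹ = z * (d * (a j * b j) * d⁻¹) := by
        calc d * (z * (a j * b j)) * d⁻¹ = (d * z) * (a j * b j) * d⁻¹ := by group
          _ = (z * d) * (a j * b j) * d⁻¹ := by rw [hdz]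
          _ = _ := by group
      rw [hzd]
      rcases hσ i with e1 | e1 <;> rcases hσ j with e2 | e2 <;> rw [hij] at e1 <;> rw [e1, e2]
      · exact Or.inl rfl
      · right; rw [zz]
      · right; rfl
      · left; rfl
    rcases e1 with e1 | e1
    · left; exact mul_left_cancel (mul_right_cancel e1)
    · right; exact mul_left_cancel (mul_right_cancel e1)
  -- the pairs
  have hstep : ∀ i j, i ≠ j → TI Om (a i * b i) (a j * b j) → TI Om (a (σ i) * b (σ i)) (a (σ j) * b (σ j)) := by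
    intro i j hij hT
    have c := hT.conj h d
    have hne2 : σ i ≠ σ j := fun e => hij (hσinj e)
    have key : ∀ i j : Fin 3, i ≠ j → ∀ s s', TI Om s s' → (s = a i * b i ∨ s = z * (a i * b i)) →
        (s' = a j * b j ∨ s' = z * (a j * b j)) → TI Om (a i * b i) (a j * b j) := by
      intro i j hij s s' hT hs hs'
      have cc := hT
      have Ai : ∀ i j : Fin 3, i ≠ j → a i * (z * (a j * b j)) * (a i)⁻¹ = a j * b j := by
        intro i j hij
        have e : b j * (a i)⁻¹ = (a i)⁻¹ * b j := by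
          rw [eq_inv_mul_iff_mul_eq, ← mul_assoc, D.ab h i j, mul_inv_cancel_right]
        calc a i * (z * (a j * b j)) * (a i)⁻¹ = (a i * z) * a j * (b j * (a i)⁻¹) := by group
          _ = (z * a i) * a j * ((a i)⁻¹ * b j) := by rw [D.fr.qa.zc, e]
          _ = z * (a i * a j * (a i)⁻¹) * b j := by group
          _ = z * (z * a j) * b j := by rw [D.fr.qa.conj_ne hij]
          _ = _ := by rw [zz]
      have Bi : ∀ i : Fin 3, a i * (a i * b i) * (a i)⁻¹ = a i * b i := by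
        intro i
        have e : b i * (a i)⁻¹ = (a i)⁻¹ * b i := by
          rw [eq_inv_mul_iff_mul_eq, ← mul_assoc, D.ab h i i, mul_inv_cancel_right]
        calc a i * (a i * b i) * (a i)⁻¹ = a i * a i * (b i * (a i)⁻¹) := by group
          _ = a i * b i := by rw [e]; group
      have Ci : ∀ i : Fin 3, a i * (z * (a i * b i)) * (a i)⁻¹ = z * (a i * b i) := by
        intro i
        calc a i * (z * (a i * b i)) * (a i)⁻¹ = (a i * z) * (a i * b i) * (a i)⁻¹ := by group
          _ = z * (a i * (a i * b i) * (a i)⁻¹) := by rw [← D.fr.qa.zc]; group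
          _ = _ := by rw [Bi]
      have st1 : ∃ s', TI Om (a i * b i) s' ∧ (s' = a j * b j ∨ s' = z * (a j * b j)) := by
        rcases hs with rfl | rfl
        · exact ⟨s', hT, hs'⟩
        · have c := hT.conj h (a j)
          rw [Ai j i (Ne.symm hij)] at c
          refine ⟨_, c, ?_⟩
          rcases hs' with rfl | rfl
          · left; exact Bi j
          · right; exact Ci j
      obtain ⟨s'', hT2, hs2⟩ := st1
      rcases hs2 with rfl | rfl
      · exact hT2
      · have c := hT2.conj h (a i)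
        rwa [Ai i j hij, Bi i] at c
    exact key _ _ hne2 _ _ c (hσ i) (hσ j)
  have hall : ∀ i' j', i' ≠ j' → TI Om (a i' * b i') (a j' * b j') := by
    intro i' j' hij'
    have h1 := hstep i j hij hbase
    have n1 : σ i ≠ σ j := fun e => hij (hσinj e)
    have h2 := hstep _ _ n1 h1
    rcases rot_pairs σ hσinj hσne i j i' j' hij hij' with ⟨rfl, rfl⟩ | ⟨rfl, rfl⟩ | ⟨rfl, rfl⟩ | ⟨rfl, rfl⟩ | ⟨rfl, rfl⟩ |
      ⟨rfl, rfl⟩
    · exact hbase
    · exact hbase.symm h
    · exact h1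
    · exact h1.symm h
    · exact h2
    · exact h2.symm h
  have hallz : ∀ w w', TI Om z w → TI Om z w' → w ≠ w' → TI Om w w' := by
    intro w w' h1 h2 hw
    obtain ⟨i', hi'⟩ := (D.ti w).1 h1
    obtain ⟨j', hj'⟩ := (D.ti w').1 h2
    by_cases hij' : i' = j'
    · have e : w' = w * z := by
        have hwz : ∀ i, z * (a i * b i) = a i * b i * z := fun i => ((wi i).2.2.2.1)
        subst hij'
        rcases hi' with e1 | e1 <;> rcases hj' with e2 | e2
        · exact absurd (e1.trans e2.symm) hw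
        · rw [e2, e1, hwz]
        · rw [e1, e2, hwz, mul_assoc, hz2, mul_one]
        · exact absurd (e1.trans e2.symm) hw
      rw [e]
      exact (h1.symm h).mul h
    · exact D.ti_sign h hij' (hall i' j' hij') hi' hj'
  intro t w w' h1 h2 hw
  obtain ⟨g, hg⟩ := W.cls z t hz h1.1
  have hg' : g⁻¹ * t * g⁻¹⁻¹ = z := by rw [← hg]; group
  have c1 := h1.conj h g⁻¹
  have c2 := h2.conj h g⁻¹
  rw [hg'] at c1 c2
  have c3 := (hallz _ _ c1 c2 (fun e => hw (mul_left_cancel (mul_right_cancel e)))).conj h g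
  have e1 : g * (g⁻¹ * w * g⁻¹⁻¹) * g⁻¹ = w := by group
  have e2 : g * (g⁻¹ * w' * g⁻¹⁻¹) * g⁻¹ = w' := by group
  rwa [e1, e2] at c3

/-- the dichotomy (I) / (F) -/
theorem pone_dich (W : AW Om) (P : POne Om) :
    (∀ z s s', TI Om z s → TI Om z s' → s ≠ s' → TI Om s s') ∨
      (∀ z s s', TI Om z s → TI Om z s' → s ≠ s' → s' ≠ z * s → FT Om s s') := by
  by_cases hF : ∀ z s s', TI Om z s → TI Om z s' → s ≠ s' → s' ≠ z * s → FT Om s s'
  · exact Or.inr hF
  left
  push Not at hF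
  obtain ⟨z, s, s', h1, h2, hne, hne', h3⟩ := hF
  rcases P.ti_or_ft h1 h2 hne (W.ti_comm h1 h2) with h4 | h4
  · exact W.ti_all h1 h2 hne hne' h4
  · exact absurd h4 h3

/-- the world (A), all lines of type `P1`: `A_z` is constant on commuting pairs, or (9.0) applies -/
theorem AW.pone (W : AW Om) (hp : ∀ z s, TI Om z s → ¬ PTwo Om z s) :
    (∀ z t, InZ Om z → InZ Om t → z * t = t * z → AS Om z = AS Om t) ∨ EqEps Om := by
  have P : POne Om := ⟨W.w, W.line, hp⟩
  rcases pone_dich W P with h | h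
  · left
    intro z t hz ht hc
    have : {x | x = z ∨ TI Om z x} = {x | x = t ∨ TI Om t x} := by
      ext x; exact P.const h hz ht hc x
    rw [AS, AS, this]
  · exact Or.inr (P.eqEps h)

end

end Cfsg.Agent.Cit.Nil.RTwo
end

-- part: Cit/Nil/RTwo/UFive
section
prune_inst 0x400000
set_option linter.all false
open scoped Cfsg.Agent.FastGrp

/-!
# The case (U), `k = 1`: section U5 of `CIT-6b-r2m1-U-helper141.md` (no disjoint pairs)

* `UW.inn_case`, `UW.dj_lemma` : for a disjoint pair `(z, v)` the elements `s ∈ Z ∩ v X_z ∩ C(v)` are `v` and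
  `z f_j = l_j z l_j⁻¹`;
* `UW.dj_cent` : `[X_z, v] = 1`; `UW.dj_label` : the labels on `z` are the `z t'_j`;
* `UW.dj_comm` : the elements of `Z ∩ C(z)` commute; `UW.no_dj` : there are no disjoint pairs.
-/

set_option autoImplicit false
set_option linter.style.haveILetI false
set_option linter.unusedSectionVars false
set_option maxHeartbeats 400000

namespace Cfsg.Agent.Cit.Nil.RTwo

open Subgroup Cfsg Cit

variable {G : Type*} [Group G]

theorem perm_fix3 (σ : Equiv.Perm (Fin 3)) (h : σ * σ = 1) : ∃ k, σ k = k := by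
  revert σ; decide

theorem fun_fix3 : ∀ π : Fin 3 → Fin 3, (∀ j, π (π j) = j) → ∃ j, π j = j := by decide

section

variable [Finite G] {Om : Set (Subgroup G)} {K K1 K2 L M L1 L2 : Subgroup G} {z t u v g r s s' y w c c' : G}
  {a b p q x l : Fin 3 → G} {i j : Fin 3}

namespace UW

variable (W : UW Om)

include W

theorem inn_case (D : DP Om z v K x L l) (hs : InZ Om s) (hsv : v * s = s * v) (hne : s ≠ v)
    (hx : v * s ∈ CX Om z) :
    Fx Om v (z * (v * s)) ∧ ((∃ j, s = z * ee v z l j) ∨ ¬ Inn Om v (z * (v * s))) := by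
  have h := W.w
  have hn := W.no
  have hzZ := D.P.pr.hz
  have hvZ := D.P.pr.ht
  have hzv : z * v = v * z := D.P.pr.comm
  have v2 : v * v = 1 := D.P.t2 h
  have z2 : z * z = 1 := D.P.q.z2
  have s2 : s * s = 1 := hs.z2 h
  have hiz : v * s * z = z * (v * s) := CX_le hzZ h hx
  have hiv : v * s * v = v * (v * s) := by rw [mul_assoc, ← hsv]
  have hii : v * s * (v * s) = 1 := by
    calc v * s * (v * s) = v * (s * v) * s := by group
      _ = v * (v * s) * s := by rw [hsv]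
      _ = (v * v) * (s * s) := by group
      _ = 1 := by rw [v2, s2, one_mul]
  have hsw : Sw Om v (v * s) := by
    rcases fx_or_sw h hvZ hiv with h1 | h1
    · exfalso
      have h2 : Fx Om v s := by
        have h3 : Fx Om v (v * (v * s)) := ((Inn.of_CX (z_mem_CX h)).fx h).mul h1
        rwa [← mul_assoc, v2, one_mul] at h3
      rcases W.pr_or_ti hvZ hs (Ne.symm hne) hsv with h3 | h3
      · exact fx_sw_false hvZ h2 h3.sw
      · have h4 := eq_of_CX' h hzZ (h3.mul_inZ h) hx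
        apply D.P.pr.not_inZ h hn
        have h5 : s = v * z := by rw [← h4, ← mul_assoc, v2, one_mul]
        rw [hzv, ← h5]; exact hs
    · exact h1
  obtain ⟨n, hnd⟩ : ∃ n, n = z * (v * s) := ⟨_, rfl⟩
  have hnF : Fx Om v n := by rw [hnd]; exact (D.P.sw_z h hn).mul h hsw hzv hiv
  have hnz : n * z = z * n := by rw [hnd, mul_assoc, hiz]
  have hnX : n ∈ CX Om z := by rw [hnd]; exact mul_mem (z_mem_CX h) hx
  have hnv : n * v = v * n := by
    rw [hnd]
    calc z * (v * s) * v = z * (v * s * v) := by group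
      _ = (z * v) * (v * s) := by rw [hiv]; group
      _ = _ := by rw [hzv]; group
  have hsn : s = v * z * n := by
    rw [hnd]
    calc s = (v * v) * s := by rw [v2, one_mul]
      _ = v * (z * z) * (v * s) := by rw [z2]; group
      _ = _ := by group
  rw [← hnd]
  refine ⟨hnF, ?_⟩
  by_cases hin : Inn Om v n
  swap
  · exact Or.inr hin
  left
  have hkey : ∀ j, n * l j = l j * n → n = v * ee v z l j := by
    intro j hj
    have e1 : l j * s * (l j)⁻¹ = z * (v * ee v z l j * n) := by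
      have hlv : l j * v * (l j)⁻¹ = v := by rw [← D.Q.q.zc, mul_inv_cancel_right]
      have hln : l j * n * (l j)⁻¹ = n := by rw [← hj, mul_inv_cancel_right]
      calc l j * s * (l j)⁻¹ = (l j * v * (l j)⁻¹) * (l j * z * (l j)⁻¹) * (l j * n * (l j)⁻¹) := by
            rw [hsn]; group
        _ = v * (z * ee v z l j) * n := by rw [hlv, hln, D.Q.conj_t h]
        _ = (v * z) * ee v z l j * n := by group
        _ = _ := by rw [← hzv]; group
    have h1 : z * (v * ee v z l j * n) = z := by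
      refine eq_of_CX' h hzZ ?_ (mul_mem (z_mem_CX h) (mul_mem (D.cx' j) hnX))
      rw [← e1]; exact hs.conj h _
    have h2 : v * ee v z l j * n = 1 := mul_eq_left.1 h1
    have h3 := eq_inv_of_mul_eq_one_right h2
    rw [h3, inv_eq_of_mul_eq_one_right (D.Q.c_sq h j)]
  rcases D.Q.q.inner_cases (hin L D.Q.hK) with h1 | ⟨j, h1⟩
  · exfalso
    have h2 : ∀ j, n = v * ee v z l j := by
      intro j
      apply hkey
      have := h1 (l j) (D.Q.q.mem j)
      rwa [mul_inv_eq_iff_eq_mul] at this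
    have h3 : ee v z l 0 = ee v z l 1 := mul_left_cancel ((h2 0).symm.trans (h2 1))
    exact absurd (D.Q.e_inj h h3) (by decide)
  · refine ⟨j, ?_⟩
    have h2 := hkey j (by
      have := h1 (l j) (D.Q.q.mem j)
      rwa [mul_inv_cancel_right, mul_inv_eq_iff_eq_mul] at this)
    rw [hsn, h2, ← hzv]
    calc z * v * (v * ee v z l j) = z * (v * v) * ee v z l j := by group
      _ = _ := by rw [v2, mul_one]

/-- **LEMMA (U5)** -/
theorem dj_lemma (D : DP Om z v K x L l) (hs : InZ Om s) (hsv : v * s = s * v) (hne : s ≠ v)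
    (hx : v * s ∈ CX Om z) : ∃ j, s = z * ee v z l j := by
  have h := W.w
  have hn := W.no
  obtain ⟨hnF, hor⟩ := W.inn_case D hs hsv hne hx
  rcases hor with h0 | hni
  · exact h0
  exfalso
  have hzZ := D.P.pr.hz
  have hvZ := D.P.pr.ht
  have hzv : z * v = v * z := D.P.pr.comm
  have v2 : v * v = 1 := D.P.t2 h
  have z2 : z * z = 1 := D.P.q.z2
  have s2 : s * s = 1 := hs.z2 h
  have hiz : v * s * z = z * (v * s) := CX_le hzZ h hx
  have hiv : v * s * v = v * (v * s) := by rw [mul_assoc, ← hsv]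
  obtain ⟨i0, hi0⟩ : ∃ i0, i0 = v * s := ⟨_, rfl⟩
  obtain ⟨n, hnd⟩ : ∃ n, n = z * i0 := ⟨_, rfl⟩
  rw [← hi0] at hni hnF hx hiz hiv
  rw [← hnd] at hni hnF
  have hii : i0 * i0 = 1 := by
    rw [hi0]
    calc v * s * (v * s) = v * (s * v) * s := by group
      _ = v * (v * s) * s := by rw [hsv]
      _ = (v * v) * (s * s) := by group
      _ = 1 := by rw [v2, s2, one_mul]
  have hsi : s = v * i0 := by rw [hi0, ← mul_assoc, v2, one_mul]
  have hnz : n * z = z * n := by rw [hnd, mul_assoc, hiz]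
  have hnX : n ∈ CX Om z := by rw [hnd]; exact mul_mem (z_mem_CX h) hx
  have hnv : n * v = v * n := by
    rw [hnd]
    calc z * i0 * v = z * (i0 * v) := by group
      _ = (z * v) * i0 := by rw [hiv]; group
      _ = _ := by rw [hzv]; group
  have hnn : n * n = 1 := by
    rw [hnd]
    calc z * i0 * (z * i0) = z * (i0 * z) * i0 := by group
      _ = (z * z) * (i0 * i0) := by rw [hiz]; group
      _ = 1 := by rw [z2, hii, one_mul]
  have hsn : s = v * z * n := by
    rw [hnd, hsi]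
    calc v * i0 = v * (z * z) * i0 := by rw [z2, mul_one]
      _ = _ := by group
  have hsz : s * z = z * s := by
    rw [hsi]
    calc v * i0 * z = v * (i0 * z) := by group
      _ = (v * z) * i0 := by rw [hiz]; group
      _ = _ := by rw [← hzv]; group
  -- `(z, s)` is of type p
  have hpr : PR Om z s := by
    refine ⟨hzZ, hs, ?_, hsz.symm, ?_⟩
    · intro e
      apply D.P.pr.ne
      refine (eq_of_CX' h hzZ hvZ ?_).symm
      have h1 : v = i0 * z := by rw [hi0, e, mul_assoc, s2, mul_one]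
      rw [h1]
      exact mul_mem hx (z_mem_CX h)
    · have h1 : Sw Om z (v * i0) := D.P.pr.sw'.mul_fx ((Inn.of_CX hx).fx h)
      rw [hsi]; exact h1
  have hee : ∀ k, ee z s x k = ee z v x k := by
    intro k
    have h1 : i0 * x k * i0⁻¹ = x k := by
      rw [mem_CX.1 hx K D.P.hK _ (D.P.q.mem k), mul_inv_cancel_right]
    rw [ee, ee, hsi]
    have e : v * i0 * x k * (v * i0)⁻¹ = v * (i0 * x k * i0⁻¹) * v⁻¹ := by group
    rw [e, h1]
  have P' : HP Om z s K x := ⟨hpr, D.P.hK, D.P.q⟩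
  obtain ⟨M, m, Q'⟩ := (hpr.symm' h hn).exists_hp h
  rcases P'.joined_or Q' h hn with ⟨m', F⟩ | D'
  · -- joined
    have hsv' : s * v = i0 := by rw [← hsv, hi0]
    have hx' : s * v ∈ CX Om z := by rw [hsv']; exact hx
    obtain ⟨h1, -⟩ := F.three h hn hvZ hsv (Ne.symm hne) hx'
    rw [hsv', ← hnd] at h1
    -- `m_0 v m_0⁻¹ = e_0 n`
    have hmn : m' 0 * n * (m' 0)⁻¹ = n := by
      rw [← mem_CX.1 h1 M F.Q.hK _ (F.Q.q.mem 0), mul_inv_cancel_right]
    have hvs : v = s * z * n := by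
      rw [hnd]
      calc v = s * (s * v) := by rw [← mul_assoc, s2, one_mul]
        _ = s * i0 := by rw [hsv']
        _ = s * (z * z) * i0 := by rw [z2, mul_one]
        _ = _ := by group
    have hms : m' 0 * s * (m' 0)⁻¹ = s := by rw [← F.Q.q.zc, mul_inv_cancel_right]
    obtain ⟨zk, hzk⟩ : ∃ zk, zk = m' 0 * v * (m' 0)⁻¹ := ⟨_, rfl⟩
    have hzk1 : zk = ee z s x 0 * n := by
      calc zk = (m' 0 * s * (m' 0)⁻¹) * (m' 0 * z * (m' 0)⁻¹) * (m' 0 * n * (m' 0)⁻¹) := by
            rw [hzk]; conv_lhs => rw [hvs]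
            group
        _ = s * (s * ee z s x 0) * n := by rw [hms, hmn, F.conj_z h]
        _ = _ := by rw [← mul_assoc s s, s2, one_mul]
    have hzkZ : InZ Om zk := by rw [hzk]; exact hvZ.conj h _
    have ht0 : z * ee z s x 0 ∈ CX Om zk := by
      have h2 : z * ee z s x 0 ∈ CX Om v := by rw [hee]; exact D.cx 0
      have h3 := (CX_conj h (m' 0)).2 h2
      rwa [F.conj_c h, ← hzk] at h3
    have he0 : ee z s x 0 ∈ RZ Om z := F.P.e_mem h 0
    have hzkz : z * zk = zk * z := by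
      rw [hzk1]
      calc z * (ee z s x 0 * n) = (z * ee z s x 0) * n := by group
        _ = ee z s x 0 * (z * n) := by rw [← F.P.e_z h]; group
        _ = _ := by rw [← hnz]; group
    have hti : TI Om z zk := by
      refine ⟨hzZ, hzkZ, ?_, hzkz, ?_⟩
      · intro e
        apply F.P.e_not_CX h 0
        have h2 : ee z s x 0 = z * n⁻¹ := by rw [eq_mul_inv_iff_mul_eq, ← hzk1, ← e]
        rw [h2]
        exact mul_mem (z_mem_CX h) (inv_mem hnX)
      · rw [hzk1]
        exact (Inn.of_RZ hzZ h he0).mul (Inn.of_CX hnX) hzZ h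
    obtain ⟨c', l'⟩ := hti.exists_lab h
    -- `zk i0 = z e_0`
    have hzki : zk * i0 = z * ee z s x 0 := by
      rw [hzk1, hnd]
      calc ee z s x 0 * (z * i0) * i0 = ee z s x 0 * z * (i0 * i0) := by group
        _ = _ := by rw [hii, mul_one, F.P.e_z h]
    have hi0zk : i0 ∈ CX Om zk := by
      have h2 := mul_mem (inv_mem (z_mem_CX (Om := Om) (z := zk) h)) ht0
      rwa [← hzki, inv_mul_cancel_left] at h2
    have h3 : i0⁻¹ * c' ∈ RZ Om z := by
      have h4 := mul_mem (inv_mem (mul_mem (z_mem_RZ hzZ h) he0)) l'.wz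
      rw [← hzki] at h4
      have e : (zk * i0)⁻¹ * (zk * c') = i0⁻¹ * c' := by group
      rwa [e] at h4
    have hc' : c' = i0 := by
      rcases RZ_inf_CX h hzZ h3 (mul_mem (inv_mem hx) l'.cz) with h4 | h4
      · exact (inv_mul_eq_one.1 h4).symm
      · exfalso
        apply z_not_CX h hzZ hzkZ hti.2.2.1
        rw [← h4]
        exact mul_mem (inv_mem hi0zk) l'.ct
    have h4 : n ∈ RZ Om zk := by
      have := l'.wt
      rwa [hc', ← hnd] at this
    have h5 : n ∈ RZ Om v := by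
      have h6 := RZ_conj h (m' 0)⁻¹ h4
      have e1 : (m' 0)⁻¹ * n * (m' 0)⁻¹⁻¹ = n := by
        rw [inv_inv, mul_assoc]
        rw [mul_inv_eq_iff_eq_mul] at hmn
        rw [← hmn, inv_mul_cancel_left]
      have e2 : (m' 0)⁻¹ * zk * (m' 0)⁻¹⁻¹ = v := by rw [hzk]; group
      rwa [e1, e2] at h6
    exact hni (Inn.of_RZ hvZ h h5)
  · -- disjoint
    obtain ⟨σ, hσ⟩ := D.Q.q.exists_act D.Q.q (hnF L D.Q.hK) hnv
    have hσσ : σ * σ = 1 := by
      have h2 := hσ.comp D.Q.q.z2 hσ hnv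
      rw [hnn] at h2
      exact h2.unique D.Q.q (Act.one l v)
    have hσ1 : σ ≠ 1 := by
      rintro rfl
      exact hni (D.Q.inn_of h hnz (hσ.inner D.Q.q hnv))
    obtain ⟨k, hk⟩ := perm_fix3 σ hσσ
    have h1 : n * l k * n⁻¹ = v * l k := D.Q.q.outer_inv hnv hnn hσ hσ1 hk
    have hlv : l k * v * (l k)⁻¹ = v := by rw [← D.Q.q.zc, mul_inv_cancel_right]
    have hln : l k * n * (l k)⁻¹ = v * n := by
      rw [mul_inv_eq_iff_eq_mul] at h1 ⊢
      calc l k * n = (v * v) * (l k * n) := by rw [v2, one_mul]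
        _ = v * (v * l k * n) := by group
        _ = _ := by rw [← h1]; group
    have hfv : ee v z l k * v = v * ee v z l k := D.Q.e_z h k
    have hfz : ee v z l k * z = z * ee v z l k := D.Q.e_t h k
    -- `n` commutes with `t'_k`
    have hnt : n * (v * ee v z l k) = v * ee v z l k * n := by
      have hnz' : z * n * z⁻¹ = n := by rw [← hnz, mul_inv_cancel_right]
      have e : n * (v * ee v z l k) * n⁻¹ = v * ee v z l k := by
        rw [← D.Q.xx_eq]
        have e1 : n * (l k * (z * l k * z⁻¹)) * n⁻¹ = (n * l k * n⁻¹) * (n * (z * l k * z⁻¹) * n⁻¹) := by group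
        have e2 : n * (z * l k * z⁻¹) * n⁻¹ = z * (n * l k * n⁻¹) * z⁻¹ := by
          have e3 : z⁻¹ * n⁻¹ = n⁻¹ * z⁻¹ := by rw [← mul_inv_rev, ← mul_inv_rev, hnz]
          calc n * (z * l k * z⁻¹) * n⁻¹ = (n * z) * l k * (z⁻¹ * n⁻¹) := by group
            _ = (z * n) * l k * (n⁻¹ * z⁻¹) := by rw [hnz, e3]
            _ = _ := by group
        rw [e1, e2, h1]
        calc v * l k * (z * (v * l k) * z⁻¹) = v * l k * ((z * v) * l k * z⁻¹) := by group
          _ = v * (l k * v) * (z * l k * z⁻¹) := by rw [hzv]; group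
          _ = v * (v * l k) * (z * l k * z⁻¹) := by rw [D.Q.q.zc]
          _ = (v * v) * (l k * (z * l k * z⁻¹)) := by group
          _ = _ := by rw [v2, one_mul]
      rwa [mul_inv_eq_iff_eq_mul] at e
    have hnf : n * ee v z l k = ee v z l k * n := by
      have h2 : v * (n * ee v z l k) = v * (ee v z l k * n) := by
        calc v * (n * ee v z l k) = (v * n) * ee v z l k := by group
          _ = n * (v * ee v z l k) := by rw [← hnv]; group
          _ = _ := by rw [hnt]; group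
      exact mul_left_cancel h2
    obtain ⟨f, hf⟩ : ∃ f, f = v * ee v z l k := ⟨_, rfl⟩
    have hfX : f ∈ CX Om z := by rw [hf]; exact D.cx' k
    -- `s'' = l_k s l_k⁻¹ = s t'_k`
    have e1 : l k * s * (l k)⁻¹ = s * f := by
      have e2 : l k * s * (l k)⁻¹ = (l k * v * (l k)⁻¹) * (l k * z * (l k)⁻¹) * (l k * n * (l k)⁻¹) := by
        rw [hsn]; group
      rw [e2, hlv, hln, D.Q.conj_t h, hf]
      conv_rhs => rw [hsn]
      calc v * (z * ee v z l k) * (v * n) = v * z * (ee v z l k * v) * n := by group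
        _ = v * z * v * (ee v z l k * n) := by rw [hfv]; group
        _ = v * z * (v * n) * ee v z l k := by rw [← hnf]; group
        _ = _ := by rw [← hnv]; group
    have hsf : s * f = f * s := by
      have c1 : Commute f v := by rw [hf]; exact D.Q.c_z h k
      have c2 : Commute f z := by rw [hf]; exact D.Q.c_t h k
      have c3 : Commute f n := by rw [hf]; exact hnt.symm
      have c4 : Commute f s := by rw [hsn]; exact (c1.mul_right c2).mul_right c3
      exact c4.eq.symm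
    have hf1 : f ≠ 1 := by rw [hf]; exact D.Q.c_ne_one h k
    have hsfZ : InZ Om (s * f) := by rw [← e1]; exact hs.conj h _
    have hss : s * (s * f) = f := by rw [← mul_assoc, s2, one_mul]
    obtain ⟨hF', hor'⟩ := W.inn_case D' (s := s * f) hsfZ (by rw [mul_assoc s f s, ← hsf])
      (fun e => hf1 (mul_eq_left.1 e)) (by rw [hss]; exact hfX)
    rw [hss] at hF' hor'
    have hlab : z * f ∈ CC Om z := by rw [hf]; exact (D.lab h 0 k).mem_CC
    rcases hor' with ⟨j, hj⟩ | hni'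
    · -- `t'_k = z (s f*_j)`
      have h2 : f = z * (s * ee s z m j) := by
        calc f = s * (s * f) := hss.symm
          _ = (s * z) * ee s z m j := by rw [hj]; group
          _ = _ := by rw [hsz]; group
      have h3 : f ∈ CC Om z := by rw [h2]; exact (D'.lab h 0 j).mem_CC
      exact CC.not_mul h h3 hlab
    · have lu := (W.lab_e D.P hlab 0).1
      have hu : InZ Om (z * ee z v x 0 * (z * f)) := lu.ti.2.1
      have ht0s : z * ee z v x 0 ∈ CX Om s := by rw [← hee]; exact D'.cx 0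
      have hcs : s * (z * f) = z * f * s := by
        calc s * (z * f) = (s * z) * f := by group
          _ = z * (s * f) := by rw [hsz]; group
          _ = _ := by rw [hsf]; group
      have ht0s' : s * (z * ee z v x 0) = z * ee z v x 0 * s := (CX_le hs h ht0s).symm
      refine W.no_ft (z := s) (t := z * ee z v x 0 * (z * f)) ⟨⟨hs, hu, ?_, ?_, ?_⟩, ?_⟩
      · intro e
        refine fx_sw_false hzZ ((lu.ti.2.2.2.2).fx h) ?_
        rw [← e]; exact hpr.sw'
      · calc s * (z * ee z v x 0 * (z * f)) = (s * (z * ee z v x 0)) * (z * f) := by group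
          _ = z * ee z v x 0 * (s * (z * f)) := by rw [ht0s']; group
          _ = _ := by rw [hcs]; group
      · have h2 : Fx Om s (z * ee z v x 0 * (z * f)) := ((Inn.of_CX ht0s).fx h).mul hF'
        exact h2
      · intro h2
        exact hni' ((Inn.of_CX ht0s).mul_left h2 hs h)

end UW

end

end Cfsg.Agent.Cit.Nil.RTwo
end

-- part: Cit/Nil/RTwo/UFiveB
section
prune_inst 0x400000
set_option linter.all false
open scoped Cfsg.Agent.FastGrp

/-!
# The case (U), `k = 1`: section U5 of `CIT-6b-r2m1-U-helper141.md`, the end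

* `UW.dj_cent` : `[X_z, v] = 1` for a disjoint pair `(z, v)`;
* `UW.dj_all` : the elements of `Z ∩ v X_z`; `UW.dj_label` : the labels on `z` are the `z t'_j`;
* `UW.dj_comm` : the elements of `Z ∩ C(z)` commute; `UW.no_dj` : there are no disjoint pairs.
-/

set_option autoImplicit false
set_option linter.style.haveILetI false
set_option linter.unusedSectionVars false
set_option maxHeartbeats 400000

namespace Cfsg.Agent.Cit.Nil.RTwo

open Subgroup Cfsg Cit

variable {G : Type*} [Group G]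

section

variable [Finite G] {Om : Set (Subgroup G)} {K K1 K2 L M L1 L2 : Subgroup G} {z t u v g r s s' y w c c' : G}
  {a b p q x l : Fin 3 → G} {i j : Fin 3}

namespace UW

variable (W : UW Om)

include W

/-- `[X_z, v] = 1` -/
theorem dj_cent (D : DP Om z v K x L l) (hy : y ∈ CX Om z) : y * v = v * y := by
  have h := W.w
  have hn := W.no
  have hvz : v * z = z * v := D.P.pr.comm.symm
  have hzZ := D.P.pr.hz
  have htn : ∀ y ∈ CX Om z, v * y * v⁻¹ ∈ CX Om z := fun y hy => CX_conj_comm h hvz hy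
  have htn' : zpowers v ≤ normalizer (CX Om z : Set G) := by
    rw [zpowers_le, mem_normalizer_iff_cj]
    exact cj_CX h hvz
  have ht1 : v ≠ 1 := D.P.pr.ht.z1 h
  rcases zstar_sub (X := CX Om z ⊔ zpowers v) (u := v) (mem_sup_right (mem_zpowers v)) (D.P.t2 h) ht1 with
    ⟨g, hg, hne, hc⟩ | ⟨N, hNX, hodd, hNn, hN⟩
  · exfalso
    obtain ⟨y, hy, u, hu, rfl⟩ := LB.exists_mul_of_mem_sup htn' hg
    have hut : u * v * u⁻¹ = v := by
      obtain ⟨k, rfl⟩ := mem_zpowers_iff.1 hu
      rw [← ((Commute.refl v).zpow_right k).eq, mul_inv_cancel_right]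
    have h1 : y * u * v * (y * u)⁻¹ = y * v * y⁻¹ := by
      calc y * u * v * (y * u)⁻¹ = y * (u * v * u⁻¹) * y⁻¹ := by group
        _ = _ := by rw [hut]
    rw [h1] at hne hc
    have hx : v * (y * v * y⁻¹) ∈ CX Om z := by
      have h2 : v * (y * v * y⁻¹) = (v * y * v⁻¹) * (v * v) * y⁻¹ := by group
      rw [h2, D.P.t2 h, mul_one]
      exact mul_mem (htn y hy) (inv_mem hy)
    obtain ⟨j, hj⟩ := W.dj_lemma D (D.P.pr.ht.conj h y) hc hne hx
    have e1 : l j * z * (l j)⁻¹ = y * v * y⁻¹ := by rw [hj, D.Q.conj_t h]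
    have h3 : z * ee z v x 0 ∈ RZ Om (y * v * y⁻¹) := by
      have h4 := RZ_conj h (l j) (D.P.c_mem h 0)
      rwa [D.conj_c h, e1] at h4
    have h4 : z * ee z v x 0 ∈ RZ Om v := by
      have h5 := RZ_conj h y⁻¹ h3
      have e2 : y⁻¹ * (z * ee z v x 0) * y⁻¹⁻¹ = z * ee z v x 0 := by
        rw [inv_inv, mul_assoc, ← CX_comm (D.P.c_mem h 0) hy, inv_mul_cancel_left]
      have e3 : y⁻¹ * (y * v * y⁻¹) * y⁻¹⁻¹ = v := by group
      rwa [e2, e3] at h5
    exact D.not_joined h hn h4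
  · have h1 : N ⊓ CX Om z = ⊥ := by
      refine CX_odd h W.cf hzZ inf_le_right ?_ ?_
      · intro g hg
        rw [mem_normalizer_iff_cj, cj_inf, mem_normalizer_iff_cj.1 (le_normalizer hg)]
        congr 1
        refine le_antisymm ?_ ?_
        · rintro _ ⟨n, hn, rfl⟩
          exact hNn g (mem_sup_left hg) n hn
        · intro n hn
          rw [mem_cj]
          have := hNn g⁻¹ (mem_sup_left ((CX Om z).inv_mem hg)) n hn
          rwa [inv_inv] at this
      · intro h2
        have h3 := h2.trans (card_dvd_of_le (inf_le_left : N ⊓ CX Om z ≤ N))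
        rw [← Nat.not_even_iff_odd, even_iff_two_dvd] at hodd
        exact hodd h3
    have h2 : v * y * v⁻¹ * y⁻¹ ∈ N ⊓ CX Om z :=
      ⟨hN y (mem_sup_left hy), (CX Om z).mul_mem (htn y hy) ((CX Om z).inv_mem hy)⟩
    rw [h1, Subgroup.mem_bot, mul_inv_eq_one, mul_inv_eq_iff_eq_mul] at h2
    exact h2.symm

/-- `Z ∩ v X_z = {v, z f_j}` -/
theorem dj_all (D : DP Om z v K x L l) (hs : InZ Om s) (hx : v * s ∈ CX Om z) :
    s = v ∨ ∃ j, s = z * ee v z l j := by
  by_cases hne : s = v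
  · exact Or.inl hne
  right
  have h1 := W.dj_cent D hx
  refine W.dj_lemma D hs ?_ hne hx
  have h2 : v * (s * v) = v * (v * s) := by rw [← mul_assoc]; exact h1
  exact (mul_left_cancel h2).symm

theorem dj_v_ne (D : DP Om z v K x L l) (j : Fin 3) : z * ee v z l j ≠ v := by
  intro e
  apply D.P.pr.ne
  have h1 : l j * z * (l j)⁻¹ = v := by rw [D.Q.conj_t W.w, e]
  have h2 : l j * v * (l j)⁻¹ = v := by rw [← D.Q.q.zc, mul_inv_cancel_right]
  have h3 := h1.trans h2.symm
  exact mul_left_cancel (mul_right_cancel h3)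

/-- the labels on `z` are the elements `z t'_j` -/
theorem dj_label (D : DP Om z v K x L l) (hc : c ∈ CC Om z) : ∃ j, c = z * (v * ee v z l j) := by
  have h := W.w
  have hn := W.no
  have hzZ := D.P.pr.hz
  have hvZ := D.P.pr.ht
  have hzv : z * v = v * z := D.P.pr.comm
  have v2 : v * v = 1 := D.P.t2 h
  have z2 : z * z = 1 := D.P.q.z2
  have c2 : c * c = 1 := CC.sq hc
  have ci : c⁻¹ = c := CC.inv hc
  have hcX : c ∈ CX Om z := CC.mem_CX hc
  have hcz : c * z = z * c := CC.comm_z h hc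
  have hcv : c * v = v * c := W.dj_cent D hcX
  have hfz : ∀ j, ee v z l j * z = z * ee v z l j := fun j => D.Q.e_t h j
  have hfv : ∀ j, ee v z l j * v = v * ee v z l j := fun j => D.Q.e_z h j
  have hvf : ∀ j, v * (z * ee v z l j) = z * (v * ee v z l j) := by
    intro j; rw [← mul_assoc, ← hzv, mul_assoc]
  -- `c` permutes the `z f_j`
  have key : ∀ j, ∃ m, c * (z * ee v z l j) * c⁻¹ = z * ee v z l m := by
    intro j
    have h1 : InZ Om (c * (z * ee v z l j) * c⁻¹) := by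
      rw [← D.Q.conj_t h]; exact (hzZ.conj h _).conj h _
    have h2 : v * (c * (z * ee v z l j) * c⁻¹) ∈ CX Om z := by
      have e : v * (c * (z * ee v z l j) * c⁻¹) = c * (v * (z * ee v z l j)) * c⁻¹ := by
        calc v * (c * (z * ee v z l j) * c⁻¹) = (v * c) * (z * ee v z l j) * c⁻¹ := by group
          _ = _ := by rw [← hcv]; group
      rw [e, hvf]
      exact mul_mem (mul_mem hcX (mul_mem (z_mem_CX h) (D.cx' j))) (inv_mem hcX)
    rcases W.dj_all D h1 h2 with h3 | h3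
    · exfalso
      apply W.dj_v_ne D j
      rw [mul_inv_eq_iff_eq_mul, ← hcv] at h3
      exact mul_left_cancel h3
    · exact h3
  choose π hπ using key
  have hππ : ∀ j, π (π j) = j := by
    intro j
    have h1 := hπ (π j)
    rw [← hπ j] at h1
    have e : c * (c * (z * ee v z l j) * c⁻¹) * c⁻¹ = z * ee v z l j := by
      rw [ci]
      calc c * (c * (z * ee v z l j) * c) * c = (c * c) * (z * ee v z l j) * (c * c) := by group
        _ = _ := by rw [c2, one_mul, mul_one]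
    rw [e] at h1
    exact (D.Q.e_inj h (mul_left_cancel h1)).symm
  obtain ⟨j, hj⟩ := fun_fix3 π hππ
  have hcs : c * (z * ee v z l j) = z * ee v z l j * c := by
    have h1 := hπ j
    rw [hj] at h1
    rwa [mul_inv_eq_iff_eq_mul] at h1
  have hcf : c * ee v z l j = ee v z l j * c := by
    have h1 : z * (c * ee v z l j) = z * (ee v z l j * c) := by
      calc z * (c * ee v z l j) = (z * c) * ee v z l j := by group
        _ = c * (z * ee v z l j) := by rw [← hcz]; group
        _ = _ := by rw [hcs]; group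
    exact mul_left_cancel h1
  have es : z * v * (v * ee v z l j) = z * ee v z l j := by
    calc z * v * (v * ee v z l j) = z * (v * v) * ee v z l j := by group
      _ = _ := by rw [v2, mul_one]
  have F := D.fp h hn j
  rw [es] at F
  have hjn : JN Om z (z * ee v z l j) := ⟨_, _, _, _, F⟩
  have hrs : z * ee z v x 0 * (z * ee v z l j) = z * ee v z l j * (z * ee z v x 0) := by
    have h1 : (v * ee v z l j) * (z * ee z v x 0) = z * ee z v x 0 * (v * ee v z l j) :=
      CX_comm (D.P.c_mem h 0) (D.cx' j)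
    have h2 : (z * ee z v x 0) * v = v * (z * ee z v x 0) := CX_le hvZ h (D.cx 0)
    have h3 : (z * ee z v x 0) * z = z * (z * ee z v x 0) := D.P.c_z h 0
    have h4 : z * ee v z l j = z * v * (v * ee v z l j) := es.symm
    have c1 : Commute (z * ee z v x 0) (z * v * (v * ee v z l j)) :=
      (Commute.mul_right h3 h2).mul_right h1.symm
    rw [h4]; exact c1.eq
  have hrF : Fx Om (z * ee v z l j) (z * ee z v x 0) := by
    have h1 : z * ee z v x 0 ∈ RZ Om (z * ee v z l j) := by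
      have h4 := RZ_conj h (l j) (D.P.c_mem h 0)
      rwa [D.conj_c h, D.Q.conj_t h] at h4
    exact (Inn.of_RZ F.P.pr.ht h h1).fx h
  have lab := (W.lab_e D.P hc 0).1
  have hlabj : ∀ m, z * (v * ee v z l m) ∈ CC Om z := fun m => (D.lab h 0 m).mem_CC
  have hr : z * ee z v x 0 * c * c = z * ee z v x 0 := by rw [mul_assoc, c2, mul_one]
  have ff : ∀ m, j ≠ m → ee v z l j * ee v z l m = v * ee v z l (th3 j m) := fun m hm => D.Q.ee_ne h hm
  rcases hjn.six_seven h hn lab hcs (Or.inl hr) hrs hrF with ⟨-, h1⟩ | ⟨-, h1⟩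
  · -- `z s c = f_j c ∈ Z`
    have e1 : z * (z * ee v z l j) * c = ee v z l j * c := by rw [D.P.q.zzx]
    rw [e1] at h1
    have h2 : v * (ee v z l j * c) ∈ CX Om z := by
      rw [← mul_assoc]; exact mul_mem (D.cx' j) hcX
    rcases W.dj_all D h1.pr.ht h2 with h3 | ⟨m, h3⟩
    · exfalso
      have h4 : c = v * ee v z l j := by
        calc c = (ee v z l j * ee v z l j) * c := by rw [D.Q.e_sq h, one_mul]
          _ = ee v z l j * (ee v z l j * c) := by group
          _ = _ := by rw [h3, hfv]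
      apply CC.not_mul h hc
      rw [h4]; exact hlabj j
    · have h4 : c = z * (ee v z l j * ee v z l m) := by
        calc c = (ee v z l j * ee v z l j) * c := by rw [D.Q.e_sq h, one_mul]
          _ = ee v z l j * (ee v z l j * c) := by group
          _ = (ee v z l j * z) * ee v z l m := by rw [h3]; group
          _ = _ := by rw [hfz]; group
      by_cases hm : j = m
      · exfalso
        subst hm
        rw [D.Q.e_sq h, mul_one] at h4
        exact CC.ne_z h hc h4
      · rw [ff m hm] at h4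
        exact ⟨_, h4⟩
  · -- `s c ∈ Z`
    have h2 : v * (z * ee v z l j * c) ∈ CX Om z := by
      have e2 : v * (z * ee v z l j * c) = z * (v * ee v z l j) * c := by
        calc v * (z * ee v z l j * c) = v * (z * ee v z l j) * c := by group
          _ = _ := by rw [hvf]
      rw [e2]; exact mul_mem (mul_mem (z_mem_CX h) (D.cx' j)) hcX
    rcases W.dj_all D h1.pr.ht h2 with h3 | ⟨m, h3⟩
    · refine ⟨j, ?_⟩
      calc c = (ee v z l j * ee v z l j) * (z * z) * c := by rw [D.Q.e_sq h, z2, one_mul, one_mul]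
        _ = ee v z l j * (ee v z l j * z) * (z * c) := by group
        _ = ee v z l j * (z * ee v z l j) * (z * c) := by rw [hfz]
        _ = (ee v z l j * z) * (ee v z l j * z) * c := by group
        _ = (z * ee v z l j) * (z * ee v z l j * c) := by rw [hfz]; group
        _ = z * (ee v z l j * v) := by rw [h3]; group
        _ = _ := by rw [hfv]
    · exfalso
      have h4 : c = ee v z l j * ee v z l m := by
        have h5 : ee v z l j * c = ee v z l m := by
          have : z * (ee v z l j * c) = z * ee v z l m := by rw [← h3]; group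
          exact mul_left_cancel this
        calc c = (ee v z l j * ee v z l j) * c := by rw [D.Q.e_sq h, one_mul]
          _ = ee v z l j * (ee v z l j * c) := by group
          _ = _ := by rw [h5]
      by_cases hm : j = m
      · subst hm
        rw [D.Q.e_sq h] at h4
        exact hn z c hc h4
      · rw [ff m hm] at h4
        apply CC.not_mul h hc
        rw [h4]; exact hlabj _

end UW

theorem comm_of_closure {S : Set G} (hS : ∀ a ∈ S, ∀ b ∈ S, a * b = b * a) {a b : G} (ha : a ∈ closure S)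
    (hb : b ∈ closure S) : a * b = b * a := by
  have h1 : closure S ≤ centralizer S := by
    rw [closure_le]
    intro c hc
    show c ∈ centralizer S
    rw [mem_centralizer_iff]
    intro d hd
    exact hS d hd c hc
  have h2 : closure S ≤ centralizer (closure S : Set G) := by
    rw [closure_le]
    intro c hc
    show c ∈ centralizer (closure S : Set G)
    rw [mem_centralizer_iff]
    intro d hd
    have h3 := h1 hd
    rw [mem_centralizer_iff] at h3
    exact (h3 c hc).symm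
  have h3 := h2 hb
  rw [mem_centralizer_iff] at h3
  exact h3 a ha

theorem cj_closureU (g : G) (S : Set G) : cj g (closure S) = closure ((fun x => g * x * g⁻¹) '' S) := by
  rw [cj_def, MonoidHom.map_closure]; rfl

namespace UW

variable (W : UW Om)

include W

/-- the commuting set of a disjoint pair -/
theorem dj_S (D : DP Om z v K x L l) :
    ∀ a ∈ ({z, v} ∪ Set.range (ee z v x) ∪ Set.range (ee v z l) : Set G),
      ∀ b ∈ ({z, v} ∪ Set.range (ee z v x) ∪ Set.range (ee v z l) : Set G), a * b = b * a := by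
  have h := W.w
  have hzv : z * v = v * z := D.P.pr.comm
  have h1 : ∀ i, ee z v x i * z = z * ee z v x i := fun i => D.P.e_z h i
  have h2 : ∀ i, ee z v x i * v = v * ee z v x i := fun i => D.P.e_t h i
  have h3 : ∀ i, ee v z l i * z = z * ee v z l i := fun i => D.Q.e_t h i
  have h4 : ∀ i, ee v z l i * v = v * ee v z l i := fun i => D.Q.e_z h i
  have h5 : ∀ i j, ee z v x i * ee v z l j = ee v z l j * ee z v x i := by
    intro i j
    have h6 : z * ee z v x i * ee v z l j = ee v z l j * (z * ee z v x i) := CX_comm (D.Q.e_mem h j) (D.cx i)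
    have h7 : z * (ee z v x i * ee v z l j) = z * (ee v z l j * ee z v x i) := by
      calc z * (ee z v x i * ee v z l j) = z * ee z v x i * ee v z l j := by group
        _ = (ee v z l j * z) * ee z v x i := by rw [h6]; group
        _ = _ := by rw [h3]; group
    exact mul_left_cancel h7
  have h6 : ∀ i j, ee z v x i * ee z v x j = ee z v x j * ee z v x i := fun i j => D.P.e_comm h i j
  have h7 : ∀ i j, ee v z l i * ee v z l j = ee v z l j * ee v z l i := fun i j => D.Q.e_comm h i j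
  rintro a (((rfl | rfl) | ⟨i, rfl⟩) | ⟨i, rfl⟩) b (((rfl | rfl) | ⟨j, rfl⟩) | ⟨j, rfl⟩)
  · rfl
  · exact hzv
  · exact (h1 _).symm
  · exact (h3 _).symm
  · exact hzv.symm
  · rfl
  · exact (h2 _).symm
  · exact (h4 _).symm
  · exact h1 _
  · exact h2 _
  · exact h6 _ _
  · exact h5 _ _
  · exact h3 _
  · exact h4 _
  · exact (h5 _ _).symm
  · exact h7 _ _

theorem dj_mem (D : DP Om z v K x L l) (hs : InZ Om s) (hsz : s * z = z * s) :
    s ∈ closure ({z, v} ∪ Set.range (ee z v x) ∪ Set.range (ee v z l) : Set G) := by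
  have h := W.w
  obtain ⟨S, hS⟩ : ∃ S : Set G, S = {z, v} ∪ Set.range (ee z v x) ∪ Set.range (ee v z l) := ⟨_, rfl⟩
  rw [← hS]
  have m1 : z ∈ closure S := subset_closure (by rw [hS]; exact Or.inl (Or.inl (Or.inl rfl)))
  have m2 : v ∈ closure S := subset_closure (by rw [hS]; exact Or.inl (Or.inl (Or.inr rfl)))
  have m3 : ∀ i, ee z v x i ∈ closure S := fun i => subset_closure (by rw [hS]; exact Or.inl (Or.inr ⟨i, rfl⟩))
  have m4 : ∀ i, ee v z l i ∈ closure S := fun i => subset_closure (by rw [hS]; exact Or.inr ⟨i, rfl⟩)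
  by_cases hne : z = s
  · rw [← hne]; exact m1
  rcases W.pr_or_ti D.P.pr.hz hs hne hsz.symm with h1 | h1
  · have key : ∀ u, u ∈ closure S → (u = v ∨ ∃ j, u = z * ee v z l j) → ∀ m, x m * s * (x m)⁻¹ = u →
        s ∈ closure S := by
      intro u hu hu' m hm
      have e3 : ee z v x m * ee z v x m = 1 := D.P.e_sq h m
      rcases hu' with rfl | ⟨j, rfl⟩
      · have e : x m * (u * ee z u x m) * (x m)⁻¹ = u := by
          calc x m * (u * ee z u x m) * (x m)⁻¹ = (x m * u * (x m)⁻¹) * (x m * ee z u x m * (x m)⁻¹) := by group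
            _ = u * (ee z u x m * ee z u x m) := by rw [D.P.conj_t h, D.P.x_e_self h]; group
            _ = u := by rw [e3, mul_one]
        have e2 : s = u * ee z u x m := mul_left_cancel (mul_right_cancel (hm.trans e.symm))
        rw [e2]; exact mul_mem m2 (m3 m)
      · have v2 : v * v = 1 := D.P.t2 h
        have hfc : x m * ee v z l j * (x m)⁻¹ = ee z v x m * ee v z l j := by
          have e4 : ee v z l j = v * (v * ee v z l j) := by rw [← mul_assoc, v2, one_mul]
          calc x m * ee v z l j * (x m)⁻¹ = x m * (v * (v * ee v z l j)) * (x m)⁻¹ := by rw [← e4]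
            _ = (x m * v * (x m)⁻¹) * (x m * (v * ee v z l j) * (x m)⁻¹) := by group
            _ = v * ee z v x m * (v * ee v z l j) := by rw [D.P.conj_t h, D.conj_c' h]
            _ = v * (ee z v x m * v) * ee v z l j := by group
            _ = (v * v) * (ee z v x m * ee v z l j) := by rw [D.P.e_t h]; group
            _ = _ := by rw [v2, one_mul]
        have e : x m * (z * (ee z v x m * ee v z l j)) * (x m)⁻¹ = z * ee v z l j := by
          calc x m * (z * (ee z v x m * ee v z l j)) * (x m)⁻¹ =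
              (x m * z * (x m)⁻¹) * (x m * ee z v x m * (x m)⁻¹) * (x m * ee v z l j * (x m)⁻¹) := by group
            _ = z * ee z v x m * (ee z v x m * ee v z l j) := by
              rw [D.P.x_e_self h, hfc, ← D.P.q.zc, mul_inv_cancel_right]
            _ = z * (ee z v x m * ee z v x m) * ee v z l j := by group
            _ = _ := by rw [e3, mul_one]
        have e2 : s = z * (ee z v x m * ee v z l j) := mul_left_cancel (mul_right_cancel (hm.trans e.symm))
        rw [e2]; exact mul_mem m1 (mul_mem (m3 m) (m4 j))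
    have mem : ∀ u, (u = v ∨ ∃ j, u = z * ee v z l j) → u ∈ closure S := by
      rintro u (rfl | ⟨j, rfl⟩)
      · exact m2
      · exact mul_mem m1 (m4 j)
    rcases W.exists_conj D.P h1 with h2 | ⟨m, h2⟩
    · exact mem _ (W.dj_all D hs h2)
    · have h3 := W.dj_all D (hs.conj h (x m)) h2
      exact key _ (mem _ h3) h3 m rfl
  · obtain ⟨c, lc⟩ := h1.exists_lab h
    obtain ⟨j, hj⟩ := W.dj_label D lc.mem_CC
    have hcm : c ∈ closure S := by rw [hj]; exact mul_mem m1 (mul_mem m2 (m4 j))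
    obtain ⟨i, hi | hi⟩ := W.lab_cases D.P lc
    · rw [hi]; exact mul_mem (mul_mem m1 (m3 i)) hcm
    · rw [hi]; exact mul_mem (m3 i) hcm

theorem dj_comm (hd : DJ Om z v) (hs : InZ Om s) (hsz : s * z = z * s) (hs' : InZ Om s') (hsz' : s' * z = z * s') :
    s * s' = s' * s := by
  obtain ⟨K, x, L, l, D⟩ := hd
  exact comm_of_closure (W.dj_S D) (W.dj_mem D hs hsz) (W.dj_mem D hs' hsz')

/-- there are no disjoint pairs -/
theorem no_dj (hSC : SCe Om) (hd : DJ Om z v) : False := by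
  have h := W.w
  have hall : ∀ u, InZ Om u → ∃ w, DJ Om u w := by
    intro u hu
    obtain ⟨g, hg⟩ := W.cls z u hd.pr.hz hu
    refine ⟨g * v * g⁻¹, ?_⟩
    have := hd.conj h g
    rwa [hg] at this
  have hcomm : ∀ u, InZ Om u → ∀ s s', InZ Om s → s * u = u * s → InZ Om s' → s' * u = u * s' → s * s' = s' * s := by
    intro u hu s s' hs hsu hs' hsu'
    obtain ⟨w, hw⟩ := hall u hu
    exact W.dj_comm hw hs hsu hs' hsu'
  obtain ⟨N, hN⟩ : ∃ N : G → Subgroup G, N = fun u => closure {s | InZ Om s ∧ s * u = u * s} := ⟨_, rfl⟩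
  have hbot : N z = ⊥ := by
    refine hSC N ?_ ?_ ?_ z hd.pr.hz
    · intro g u hu
      rw [hN]
      show closure {s | InZ Om s ∧ s * (g * u * g⁻¹) = g * u * g⁻¹ * s} = cj g (closure {s | InZ Om s ∧ s * u = u * s})
      rw [cj_closureU]
      congr 1
      ext s
      constructor
      · rintro ⟨h1, h2⟩
        refine ⟨g⁻¹ * s * g, ⟨?_, ?_⟩, ?_⟩
        · have := h1.conj h g⁻¹
          rwa [inv_inv] at this
        · calc g⁻¹ * s * g * u = g⁻¹ * (s * (g * u * g⁻¹)) * g := by group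
            _ = g⁻¹ * (g * u * g⁻¹ * s) * g := by rw [h2]
            _ = _ := by group
        · show g * (g⁻¹ * s * g) * g⁻¹ = s
          group
      · rintro ⟨r, ⟨h1, h2⟩, rfl⟩
        refine ⟨h1.conj h g, ?_⟩
        show g * r * g⁻¹ * (g * u * g⁻¹) = g * u * g⁻¹ * (g * r * g⁻¹)
        calc g * r * g⁻¹ * (g * u * g⁻¹) = g * (r * u) * g⁻¹ := by group
          _ = g * (u * r) * g⁻¹ := by rw [h2]
          _ = _ := by group
    · intro u hu
      rw [hN]
      show closure {s | InZ Om s ∧ s * u = u * s} ≤ centralizer {u}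
      rw [closure_le]
      rintro s ⟨h1, h2⟩
      show s ∈ centralizer {u}
      rw [mem_centralizer_singleton_iff]
      first
        | exact h2
        | exact h2.symm
    · intro u w hu hw huw
      rw [hN]
      show closure {s | InZ Om s ∧ s * u = u * s} = closure {s | InZ Om s ∧ s * w = w * s}
      congr 1
      ext s
      constructor
      · rintro ⟨h1, h2⟩
        exact ⟨h1, hcomm u hu s w h1 h2 hw huw.symm⟩
      · rintro ⟨h1, h2⟩
        exact ⟨h1, hcomm w hw s u h1 h2 hu huw⟩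
  have hz : z ∈ N z := by
    rw [hN]
    exact subset_closure ⟨hd.pr.hz, rfl⟩
  rw [hbot, mem_bot] at hz
  exact hd.pr.hz.z1 h hz

end UW

end

end Cfsg.Agent.Cit.Nil.RTwo
end

-- part: Cit/Nil/RTwo/USix
section
set_option linter.all false
open scoped Cfsg.Agent.FastGrp

/-!
# The case (U), `k = 1`: section U6 of `CIT-6b-r2m1-U-helper141.md`, the end

* `UW.no_comm` : the labels on `z` do not commute pairwise; `UW.unique` : there is exactly one label on `z`;
* `UW.cc_ti`, `UW.cc_pr` : commuting elements of `Z` have the same label;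
* `UW.false_of` : **the case (U), `k = 1` is impossible**.
-/

set_option autoImplicit false
set_option linter.style.haveILetI false
set_option linter.unusedSectionVars false
set_option maxHeartbeats 400000

namespace Cfsg.Agent.Cit.Nil.RTwo

open Subgroup Cfsg Cit

variable {G : Type*} [Group G]

section

variable [Finite G] {Om : Set (Subgroup G)} {K K1 K2 L M L1 L2 : Subgroup G} {z t u v g r s s' y w c c' : G}
  {a b p q x l : Fin 3 → G} {i j : Fin 3}

namespace UW

variable (W : UW Om) (hSC : SCe Om)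

include W hSC

theorem pr_jn (hp : PR Om z t) : JN Om z t := by
  rcases hp.jn_or_dj W.w W.no with h1 | h1
  · exact h1
  · exact (W.no_dj hSC h1).elim

theorem six (hp : PR Om z t) (hc : c ∈ CC Om z) (hct : c * t = t * c) :
    c ∈ CX Om t ∧ ∃ K x, HP Om z t K x := by
  have h := W.w
  have hn := W.no
  obtain ⟨K, x, P⟩ := hp.exists_hp h
  have lab := (W.lab_e P hc 0).1
  have hr : z * ee z t x 0 * c * c = z * ee z t x 0 := by rw [mul_assoc, CC.sq hc, mul_one]
  have hrt : z * ee z t x 0 * t = t * (z * ee z t x 0) := by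
    calc z * ee z t x 0 * t = z * (ee z t x 0 * t) := by group
      _ = (z * t) * ee z t x 0 := by rw [P.e_t h]; group
      _ = _ := by rw [hp.comm]; group
  rcases (W.pr_jn hSC hp).six_seven h hn lab hct (Or.inl hr) hrt (P.fx_ze h hn 0) with ⟨h1, -⟩ | ⟨-, h1⟩
  · exact ⟨h1, K, x, P⟩
  · exact (W.no_dj hSC h1).elim

/-- two different labels on `z` do not commute -/
theorem no_comm (hc : c ∈ CC Om z) (hc' : c' ∈ CC Om z) (hcc : c * c' = c' * c) : c = c' := by
  by_contra hne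
  have h := W.w
  have hn := W.no
  have hzZ : InZ Om z := CC.inZ hc
  obtain ⟨K1, K2, a, b, F⟩ := hzZ.exists_frame h
  obtain ⟨p, hp⟩ := CC.exists_dir h F hc
  obtain ⟨t, lt, hd⟩ := hp
  have hp' := W.dc_eq F ⟨t, lt, hd⟩ hc'
  obtain ⟨t', lt', hd'⟩ := hp'
  -- normalise: `t' c' = t c`
  obtain ⟨s, ls, hs⟩ : ∃ s, Lab Om z s c' ∧ s * c' = t * c := by
    have zz : z * z = 1 := lt.z2 h
    rcases hd with h1 | h1 <;> rcases hd' with h2 | h2
    · exact ⟨t', lt', by rw [h1, h2]⟩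
    · refine ⟨z * t', lt'.mul h, ?_⟩
      rw [mul_assoc, h2, ← mul_assoc z z, zz, one_mul, h1]
    · refine ⟨z * t', lt'.mul h, ?_⟩
      rw [mul_assoc, h2, h1]
    · exact ⟨t', lt', by rw [h1, h2]⟩
  obtain ⟨w, hw⟩ : ∃ w, w = t * c := ⟨_, rfl⟩
  have hwR : w ∈ RZ Om z := by rw [hw]; exact lt.wz
  have hcw : c * w = w * c := CX_comm hwR lt.cz
  have hcw' : c' * w = w * c' := CX_comm hwR ls.cz
  have hct : c * t = t * c := lt.comm_t h
  have t2 : t * t = 1 := lt.t2 h
  have hww : w * w = 1 := by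
    rw [hw]
    calc t * c * (t * c) = t * (c * t) * c := by group
      _ = (t * t) * (c * c) := by rw [hct]; group
      _ = 1 := by rw [t2, lt.sq, one_mul]
  have ht : t = w * c := by rw [hw, mul_assoc, lt.sq, mul_one]
  have hs' : s = w * c' := by rw [hw, ← hs, mul_assoc, ls.sq, mul_one]
  have hts : t * s = c * c' := by
    rw [ht, hs']
    calc w * c * (w * c') = w * (c * w) * c' := by group
      _ = (w * w) * (c * c') := by rw [hcw]; group
      _ = _ := by rw [hww, one_mul]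
  have hst : t * s = s * t := by
    rw [ht, hs']
    calc w * c * (w * c') = w * (c * w) * c' := by group
      _ = w * w * (c * c') := by rw [hcw]; group
      _ = w * (w * c') * c := by rw [hcc]; group
      _ = w * (c' * w) * c := by rw [hcw']
      _ = _ := by group
  have htne : t ≠ s := by
    intro e
    rw [ht, hs'] at e
    exact hne (mul_left_cancel e)
  have hnot : ¬ InZ Om (t * s) := by
    intro h1
    have h2 := eq_of_CX' h hzZ h1 (by rw [hts]; exact mul_mem lt.cz ls.cz)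
    apply CC.not_mul h hc
    have h3 : z * c = c' := by
      rw [← h2, hts, hcc, mul_assoc, lt.sq, mul_one]
    rw [h3]; exact hc'
  have hp : PR Om t s := pr_of_not h lt.ti.2.1 ls.ti.2.1 htne hst hnot
  have hcs : c * s = s * c := by
    rw [hs', ← mul_assoc, hcw, mul_assoc, hcc, mul_assoc]
  obtain ⟨h1, -⟩ := W.six hSC hp (lt.symm h).mem_CC hcs
  -- `w = s c' ∈ X_s`
  have hwX : w ∈ CX Om s := by
    rw [hw, ← hs]; exact mul_mem (z_mem_CX h) ls.ct
  have h2 : t ∈ CX Om s := by rw [ht]; exact mul_mem hwX h1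
  exact z_not_CX h lt.ti.2.1 ls.ti.2.1 htne h2

/-- every label on `z` is central in `X_z` -/
theorem central (hc : c ∈ CC Om z) (hy : y ∈ CX Om z) : c * y = y * c := by
  have h := W.w
  have hzZ : InZ Om z := CC.inZ hc
  rcases zstar_sub (CC.mem_CX hc) (CC.sq hc) (W.no z c hc) with ⟨g, hg, hne, hcg⟩ | ⟨N, hNX, hodd, hNn, hN⟩
  · exact (hne (W.no_comm hSC (CC.conj_comm h hc (CX_le hzZ h hg)) hc hcg.symm)).elim
  · have h1 : N = ⊥ := by
      refine CX_odd h W.cf hzZ hNX ?_ ?_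
      · intro g hg
        rw [mem_normalizer_iff_cj]
        refine le_antisymm ?_ ?_
        · rintro _ ⟨n, hn, rfl⟩
          exact hNn g hg n hn
        · intro n hn
          rw [mem_cj]
          have := hNn g⁻¹ ((CX Om z).inv_mem hg) n hn
          rwa [inv_inv] at this
      · intro h2
        rw [← Nat.not_even_iff_odd, even_iff_two_dvd] at hodd
        exact hodd h2
    have h2 := hN y hy
    rwa [h1, Subgroup.mem_bot, mul_inv_eq_one, mul_inv_eq_iff_eq_mul] at h2

/-- there is exactly one label on `z` -/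
theorem unique (hc : c ∈ CC Om z) (hc' : c' ∈ CC Om z) : c = c' :=
  W.no_comm hSC hc hc' (W.central hSC hc (CC.mem_CX hc'))

theorem cc_ti (hti : TI Om z t) (hc : c ∈ CC Om z) : c ∈ CC Om t := by
  obtain ⟨c', l⟩ := hti.exists_lab W.w
  rw [W.unique hSC hc l.mem_CC]
  exact (l.symm W.w).mem_CC

theorem cc_pr (hp : PR Om z s) (hc : c ∈ CC Om z) : c ∈ CC Om s := by
  have h := W.w
  have hn := W.no
  have hcs : c * s = s * c := by
    have h1 := W.unique hSC (CC.conj_comm h hc hp.comm.symm) hc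
    rw [mul_inv_eq_iff_eq_mul] at h1
    exact h1.symm
  obtain ⟨h1, K, x, P⟩ := W.six hSC hp hc hcs
  have lab := (W.lab_e P hc 0).1
  have hrs : z * ee z s x 0 * s = s * (z * ee z s x 0) := by
    calc z * ee z s x 0 * s = z * (ee z s x 0 * s) := by group
      _ = (z * s) * ee z s x 0 := by rw [P.e_t h]; group
      _ = _ := by rw [hp.comm]; group
  have h2 : z * ee z s x 0 ∈ RZ Om s :=
    (W.pr_jn hSC hp).mem_RZ h hn (P.c_mem h 0) hrs (P.fx_ze h hn 0)
  have hti : TI Om s (z * ee z s x 0 * c) := by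
    refine ⟨hp.ht, lab.ti.2.1, ?_, ?_, (Inn.of_RZ hp.ht h h2).mul (Inn.of_CX h1) hp.ht h⟩
    · intro e
      have h3 : Fx Om z s := by rw [e]; exact lab.ti.2.2.2.2.fx h
      obtain ⟨K', hK'⟩ := hp.hz
      exact hp.sw K' hK' (h3 K' hK')
    · calc s * (z * ee z s x 0 * c) = s * (z * ee z s x 0) * c := by group
        _ = z * ee z s x 0 * (s * c) := by rw [← hrs]; group
        _ = _ := by rw [← hcs]; group
  obtain ⟨c', l'⟩ := hti.exists_lab h
  have h3 : c' = c := W.unique hSC (l'.symm h).mem_CC (lab.symm h).mem_CC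
  rw [← h3]; exact l'.mem_CC

theorem cc_sub (hz : InZ Om z) (ht : InZ Om t) (hzt : z * t = t * z) (hc : c ∈ CC Om z) : c ∈ CC Om t := by
  by_cases hne : z = t
  · rw [← hne]; exact hc
  rcases W.pr_or_ti hz ht hne hzt with h1 | h1
  · exact W.cc_pr hSC h1 hc
  · exact W.cc_ti hSC h1 hc

/-- **the case (U), `k = 1` is impossible** -/
theorem false_of : False := by
  have h := W.w
  obtain ⟨z, t, hti⟩ := W.ti
  obtain ⟨c, l⟩ := hti.exists_lab h
  have hbot : closure (CC Om z) = ⊥ := by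
    refine hSC (fun u => closure (CC Om u)) ?_ ?_ ?_ z hti.1
    · intro g u hu
      show closure (CC Om (g * u * g⁻¹)) = cj g (closure (CC Om u))
      rw [cj_closureU]
      congr 1
      ext s
      constructor
      · intro h1
        refine ⟨g⁻¹ * s * g, ?_, ?_⟩
        · have h2 := CC.conj h h1 g⁻¹
          have e1 : g⁻¹ * s * g⁻¹⁻¹ = g⁻¹ * s * g := by rw [inv_inv]
          have e2 : g⁻¹ * (g * u * g⁻¹) * g⁻¹⁻¹ = u := by group
          rwa [e1, e2] at h2
        · show g * (g⁻¹ * s * g) * g⁻¹ = s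
          group
      · rintro ⟨r, h1, rfl⟩
        exact CC.conj h h1 g
    · intro u hu
      show closure (CC Om u) ≤ centralizer {u}
      rw [closure_le]
      intro s hs
      show s ∈ centralizer {u}
      rw [mem_centralizer_singleton_iff]
      first
        | exact CC.comm_z h hs
        | exact (CC.comm_z h hs).symm
    · intro u w hu hw huw
      show closure (CC Om u) = closure (CC Om w)
      congr 1
      ext s
      exact ⟨fun hs => W.cc_sub hSC hu hw huw hs, fun hs => W.cc_sub hSC hw hu huw.symm hs⟩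
  have h1 : c ∈ closure (CC Om z) := subset_closure l.mem_CC
  rw [hbot, mem_bot] at h1
  exact W.no z c l.mem_CC h1

end UW

end

end Cfsg.Agent.Cit.Nil.RTwo
end

-- part: Cit/Nil/RTwo/TenZ
section
set_option linter.all false
open scoped Cfsg.Agent.FastGrp

/-!
# (10.0) of the blueprint: pairs of type p and f in the world `c ≠ 1`

`NE Om` : no label is trivial.

* `InZ.eq_of_RZ` : `Z ∩ R_z = {z}`;
* `FT.mul` : `z t ∈ Z` for a pair of type f;
* `HP.pr_tte'` : `(t, t e_i)` is a pair of type p; `HP.e_sw'` : `e_i` swaps the members over `t`;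
* `PR.symmN`, `FT.symm'` : types are symmetric;
* `PR.not_mul` : `z t ∉ Z` for a pair of type p.
-/

set_option autoImplicit false
set_option linter.style.haveILetI false
set_option linter.unusedSectionVars false
set_option maxHeartbeats 400000

namespace Cfsg.Agent.Cit.Nil.RTwo

open Subgroup Cfsg Cit

variable {G : Type*} [Group G]

/-- no label is trivial -/
def NE (Om : Set (Subgroup G)) : Prop := ∀ z, (1 : G) ∉ CC Om z

section

variable [Finite G] {Om : Set (Subgroup G)} {K K1 K2 L M L1 L2 : Subgroup G} {z t u v g r s y w c c' : G}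
  {x l : Fin 3 → G}

/-- `Z ∩ R_z = {z}` -/
theorem InZ.eq_of_RZ (h : W2 Om) (h1 : NE Om) (hz : InZ Om z) (hv : InZ Om v) (hr : v ∈ RZ Om z) : v = z := by
  by_contra hne
  have hti : TI Om z v := ⟨hz, hv, Ne.symm hne, (RZ_le_centralizer h hr).symm, Inn.of_RZ hz h hr⟩
  obtain ⟨c, l⟩ := hti.exists_lab h
  have h2 : c ∈ RZ Om z := by
    have h3 := mul_mem (inv_mem hr) l.wz
    rwa [inv_mul_cancel_left] at h3
  rcases Nil.RTwo.RZ_inf_CX h hz h2 l.cz with h3 | h3
  · exact h1 z (h3 ▸ l.mem_CC)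
  · exact l.ne_z h h3

/-- `z t ∈ Z` for a pair of type f -/
theorem FT.conj_z (hp : FT Om z t) (h : W2 Om) : ∃ r ∈ RZ Om z, r * t * r⁻¹ = z * t := by
  obtain ⟨K, hK⟩ := hp.fr.hz
  obtain ⟨x, hx, -, -, h2⟩ := hp.coord h hK
  refine ⟨x 2, hK.le_RZ (hx.mem 2), ?_⟩
  have : t * (x 2)⁻¹ * t⁻¹ = x 2 := by
    have h3 : t * (x 2)⁻¹ * t⁻¹ = (t * x 2 * t⁻¹)⁻¹ := by group
    rw [h3, h2, mul_inv_rev, hx.zinv, hx.inv, hx.zc 2, mul_assoc, hx.z2, mul_one]
  calc x 2 * t * (x 2)⁻¹ = x 2 * (t * (x 2)⁻¹ * t⁻¹) * t := by group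
    _ = z * t := by rw [this, hx.sq]

theorem FT.mul (hp : FT Om z t) (h : W2 Om) : InZ Om (z * t) := by
  obtain ⟨r, -, hr⟩ := hp.conj_z h
  rw [← hr]; exact hp.fr.ht.conj h r

theorem InZ.mul_of (h : W2 Om) (hz : InZ Om z) (ht : InZ Om t) (hne : z ≠ t) (hc : z * t = t * z)
    (hn : ¬ PR Om z t) : InZ Om (z * t) := by
  rcases tcases h hz ht hne hc with h1 | h1 | h1
  · exact absurd h1 hn
  · exact h1.mul h
  · exact (h1.mul h).2.1

theorem pr_of' (h : W2 Om) (hz : InZ Om z) (ht : InZ Om t) (hne : z ≠ t) (hc : z * t = t * z)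
    (hn : ¬ InZ Om (z * t)) : PR Om z t := by
  by_contra h1
  exact hn (hz.mul_of h ht hne hc h1)

namespace HP

variable {i j : Fin 3}

theorem te_inZ (P : HP Om z t K x) (h : W2 Om) (i : Fin 3) : InZ Om (t * ee z t x i) := by
  rw [← P.conj_t h]; exact P.pr.ht.conj h _

theorem te_ne (P : HP Om z t K x) (h : W2 Om) (i : Fin 3) : t ≠ t * ee z t x i := fun h1 =>
  P.e_ne_one h i (mul_eq_left.1 h1.symm)

theorem te_comm (P : HP Om z t K x) (h : W2 Om) (i : Fin 3) : t * (t * ee z t x i) = t * ee z t x i * t := by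
  rw [mul_assoc, P.e_t h]

theorem e_notN (P : HP Om z t K x) (h : W2 Om) (h1 : NE Om) (i : Fin 3) : ¬ InZ Om (ee z t x i) := fun h2 =>
  P.e_ne_z h i (P.pr.hz.eq_of_RZ h h1 h2 (P.e_mem h i))

/-- `(t, t e_i)` -/
theorem pr_tte' (P : HP Om z t K x) (h : W2 Om) (h1 : NE Om) (i : Fin 3) : PR Om t (t * ee z t x i) := by
  refine pr_of' h P.pr.ht (P.te_inZ h i) (P.te_ne h i) (P.te_comm h i) ?_
  rw [← mul_assoc, P.t2 h, one_mul]
  exact P.e_notN h h1 i

/-- `(t e_i, t)` -/
theorem pr_tet' (P : HP Om z t K x) (h : W2 Om) (h1 : NE Om) (i : Fin 3) : PR Om (t * ee z t x i) t := by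
  refine pr_of' h (P.te_inZ h i) P.pr.ht (P.te_ne h i).symm (P.te_comm h i).symm ?_
  rw [mul_assoc, P.e_t h, ← mul_assoc, P.t2 h, one_mul]
  exact P.e_notN h h1 i

/-- `e_i` interchanges the members over `t` -/
theorem e_sw' (P : HP Om z t K x) (h : W2 Om) (h1 : NE Om) (i : Fin 3) : Sw Om t (ee z t x i) := by
  intro M hM h2
  apply (P.pr_tte' h h1 i).sw M hM
  rw [cj_mul, h2]
  exact (Inn.of_CX (z_mem_CX h)).cj_eq hM h

/-- `z` interchanges the members over `t` -/
theorem z_sw' (P : HP Om z t K x) (h : W2 Om) (h1 : NE Om) : Sw Om t z := by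
  have h2 : z = ee z t x 0 * ee z t x 1 * ee z t x 2 := by
    have h3 := P.e_mul h 0
    rw [show (0 : Fin 3) + 1 = 1 from rfl, show (0 : Fin 3) + 2 = 2 from rfl] at h3
    rw [h3, mul_assoc, P.e_sq h, mul_one]
  rw [h2]
  exact ((P.e_sw' h h1 0).mul h (P.e_sw' h h1 1) (P.e_t h 0) (P.e_t h 1)).mul_sw (P.e_sw' h h1 2)

end HP

theorem PR.symmN (hp : PR Om z t) (h : W2 Om) (h1 : NE Om) : PR Om t z := by
  obtain ⟨K, x, P⟩ := hp.exists_hp h
  exact ⟨hp.ht, hp.hz, hp.ne.symm, hp.comm.symm, P.z_sw' h h1⟩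

theorem FT.symm' (hp : FT Om z t) (h : W2 Om) (h1 : NE Om) : FT Om t z := by
  rcases tcases h hp.fr.ht hp.fr.hz hp.fr.ne.symm hp.fr.comm.symm with h2 | h2 | h2
  · exact ((h2.symmN h h1).not_fr hp.fr).elim
  · exact h2
  · exact (hp.ninn (h2.symm h).2.2.2.2).elim

/-- `z t ∉ Z` for a pair of type p -/
theorem PR.not_mul (hp : PR Om z t) (h : W2 Om) (h1 : NE Om) : ¬ InZ Om (z * t) := by
  intro hzt
  obtain ⟨K, x, P⟩ := hp.exists_hp h
  set s := t * ee z t x 0 with hs
  have hsZ : InZ Om s := P.te_inZ h 0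
  have hst : PR Om s t := P.pr_tet' h h1 0
  have hsz : PR Om s z := by
    have h2 := (hp.symmN h h1).conj h (x 0)
    rwa [P.conj_t h, ← (P.q.zc 0), mul_inv_cancel_right] at h2
  have hcz : s * z = z * s := hsz.comm
  have hct : s * t = t * s := hst.comm
  have hprod : s * (z * t) = z * ee z t x 0 := by
    calc s * (z * t) = (s * z) * t := by group
      _ = z * (s * t) := by rw [hcz, mul_assoc]
      _ = z * (t * s) := by rw [hct]
      _ = z * ((t * t) * ee z t x 0) := by rw [hs]; group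
      _ = _ := by rw [P.t2 h, one_mul]
  have hne : s ≠ z * t := by
    intro e
    have h2 : s * (z * t) = 1 := by rw [← e]; exact hsZ.z2 h
    rw [hprod] at h2
    apply P.e_ne_z h 0
    rw [← inv_eq_of_mul_eq_one_right h2]
    exact P.q.zinv
  have hp3 : PR Om s (z * t) := by
    refine pr_of' h hsZ hzt hne ?_ ?_
    · rw [← mul_assoc, hcz, mul_assoc, hct, mul_assoc]
    · rw [hprod]
      intro h2
      have h3 := P.pr.hz.eq_of_RZ h h1 h2 (mul_mem (z_mem_RZ P.pr.hz h) (P.e_mem h 0))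
      exact P.e_ne_one h 0 (mul_eq_left.1 h3)
  exact fx_sw_false hsZ (hsz.sw'.mul h hst.sw' hcz.symm hct.symm) hp3.sw

end

end Cfsg.Agent.Cit.Nil.RTwo
end

-- part: Cit/Nil/RTwo/TenOne
section
set_option linter.all false
open scoped Cfsg.Agent.FastGrp

/-!
# (10.1) of the blueprint

`V = ⟨z, s⟩` a type I line with label `c`, `t ∈ Z ∩ C(V)`.

* `Lab.comm_of` : `C(V)` centralises the label;
* `Lab.conj_f` : `t` of type f with respect to `s`: `t z c ∈ t^{R_s}`;
* `Lab.e_eq` : moreover `t` of type p with respect to `z`: `s c = z e_i` for some `i`;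
* `f_twice'` : `t` of type f with respect to `z` and `s`: some `t^r`, `r ∈ R_s`, is of type I with respect to `z`;
* `Lab.status` : if `t` is not of type I with respect to the elements of `V`: the four cases.
-/

set_option autoImplicit false
set_option linter.style.haveILetI false
set_option linter.unusedSectionVars false
set_option maxHeartbeats 400000

namespace Cfsg.Agent.Cit.Nil.RTwo

open Subgroup Cfsg Cit

variable {G : Type*} [Group G] [Finite G] {Om : Set (Subgroup G)} {K K1 K2 L M L1 L2 : Subgroup G}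
  {z t u v g r s y w c c' : G} {x l : Fin 3 → G}

theorem Lab.comm_of (h : W2 Om) (l : Lab Om z s c) (hgz : g * z = z * g) (hgs : g * s = s * g) : g * c = c * g := by
  have h1 := l.conj h g
  rw [hgz, mul_inv_cancel_right, hgs, mul_inv_cancel_right] at h1
  have h2 := l.unique h h1
  rw [eq_mul_inv_iff_mul_eq] at h2
  exact h2.symm

/-- `t` inverts `k ∈ L1` and `m ∈ L2` -/
theorem FT.conj_dir (hp : FT Om s t) (h : W2 Om) (hL1 : Mem Om s L1) (hL2 : Mem Om s L2) (hne : L1 ≠ L2) {k m : G}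
    (hk : k ∈ L1) (hkk : k * k = s) (hm : m ∈ L2) (hmm : m * m = s) (htk : t * k * t⁻¹ = k ∨ t * k * t⁻¹ = s * k)
    (htm : t * m * t⁻¹ = m ∨ t * m * t⁻¹ = s * m) : ∃ r ∈ RZ Om s, r * t * r⁻¹ = t * (k * m) := by
  obtain ⟨-, r1, hr1, e1⟩ := hp.inv_axis h hL1 hk hkk htk
  obtain ⟨-, r2, hr2, e2⟩ := hp.inv_axis h hL2 hm hmm htm
  refine ⟨r1 * r2, mul_mem (hL1.le_RZ hr1) (hL2.le_RZ hr2), ?_⟩
  have e3 := hL1.comm hL2 h hne hr1 hm
  calc r1 * r2 * t * (r1 * r2)⁻¹ = r1 * (r2 * t * r2⁻¹) * r1⁻¹ := by group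
    _ = r1 * t * r1⁻¹ * (r1 * m) * r1⁻¹ := by rw [e2]; group
    _ = t * k * (m * r1) * r1⁻¹ := by rw [e1, e3]
    _ = _ := by group

/-- (10.1): `t z c ∈ t^{R_s}` -/
theorem Lab.conj_f (h : W2 Om) (l : Lab Om z s c) (hf : FT Om s t) (htz : t * z = z * t) :
    ∃ r ∈ RZ Om s, r * t * r⁻¹ = t * (z * c) := by
  obtain ⟨K1, K2, L1, L2, a, b, p, q, C⟩ := l.ti.exists_cf h
  have h1 := C.fix_or htz (hf.fr.fx L1 C.l1)
  have h2 := C.swl.fix_or htz (hf.fr.fx L2 C.l2)
  rcases C.symm.tc_eq h (l.symm h) with h3 | h3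
  · rw [h3]
    exact hf.conj_dir h C.l1 C.l2 C.lne (C.qc.mem 0) (C.qc.sq 0) (C.qd.mem 0) (C.qd.sq 0) h1 h2
  · have hzs : t * (s * p 0) * t⁻¹ = s * (t * p 0 * t⁻¹) := by
      calc t * (s * p 0) * t⁻¹ = (t * s) * p 0 * t⁻¹ := by group
        _ = (s * t) * p 0 * t⁻¹ := by rw [hf.fr.comm]
        _ = _ := by group
    have hss : s * p 0 * (s * p 0) = s := by
      calc s * p 0 * (s * p 0) = s * (p 0 * s) * p 0 := by group
        _ = s * (s * p 0) * p 0 := by rw [C.qc.zc]
        _ = (s * s) * (p 0 * p 0) := by group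
        _ = s := by rw [C.t2, C.qc.sq, one_mul]
    rw [h3, ← mul_assoc s]
    refine hf.conj_dir h C.l1 C.l2 C.lne (mul_mem C.qc.zmem (C.qc.mem 0)) hss (C.qd.mem 0) (C.qd.sq 0) ?_ h2
    rw [hzs]
    rcases h1 with h1 | h1
    · left; rw [h1]
    · right; rw [h1]

/-- (10.1): `t` of type p with respect to `z`, of type f with respect to `s`: `s c = z e_i` -/
theorem Lab.e_eq (h : W2 Om) (h1 : NE Om) (l : Lab Om z s c) (P : HP Om z t K x) (hf : FT Om s t) :
    ∃ i, s * c = z * ee z t x i := by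
  have htz : t * z = z * t := P.pr.comm.symm
  have hts : t * s = s * t := hf.fr.comm.symm
  have htc : t * c = c * t := l.comm_of h htz hts
  have h2 : s * c * t = t * (s * c) := by rw [mul_assoc, ← htc, ← mul_assoc, ← hts, mul_assoc]
  rcases P.RZ_comm h l.wz h2 with h3 | h3 | ⟨i, h3 | h3⟩
  · exfalso
    apply l.ne_t h
    rw [← l.cinv, eq_comm]
    exact eq_inv_of_mul_eq_one_left h3
  · exfalso
    apply l.ne_zmt h
    rw [l.zt, ← h3, ← mul_assoc, l.t2 h, one_mul]
  · exfalso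
    obtain ⟨r, -, hr⟩ := l.conj_f h hf htz
    have h4 : InZ Om (t * (z * c)) := by rw [← hr]; exact hf.fr.ht.conj h r
    have h5 := h4.conj h (x i)
    have hxc : x i * c = c * x i := (mem_CX.1 l.cz K P.hK _ (P.q.mem i)).symm
    have hxz : x i * z = z * x i := (P.q.zc i).symm
    have e1 : x i * (t * (z * c)) * (x i)⁻¹ = z * (t * s) := by
      calc x i * (t * (z * c)) * (x i)⁻¹ = (x i * t * (x i)⁻¹) * ((x i * z) * c * (x i)⁻¹) := by group
        _ = (t * (s * c)) * ((z * x i) * c * (x i)⁻¹) := by rw [P.conj_t h, h3, hxz]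
        _ = (t * (s * c)) * (z * (x i * c) * (x i)⁻¹) := by group
        _ = (t * (s * c)) * (z * c) := by rw [hxc]; group
        _ = t * s * (c * z) * c := by group
        _ = t * s * (z * c) * c := by rw [l.comm_z h]
        _ = t * (s * z) * (c * c) := by group
        _ = t * (z * s) := by rw [l.sq, mul_one, l.zt]
        _ = (t * z) * s := by group
        _ = z * (t * s) := by rw [htz, mul_assoc]
    rw [e1] at h5
    have hsw : Sw Om z (t * s) := P.pr.sw'.mul_fx (l.ti.fr h).fx'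
    have h6 : PR Om z (t * s) := by
      refine ⟨P.pr.hz, ?_, ?_, ?_, hsw⟩
      · rw [hts]; exact hf.mul h
      · intro e
        rw [← e] at hsw
        exact fx_sw_false P.pr.hz ((Inn.of_CX (z_mem_CX h)).fx h) hsw
      · rw [← mul_assoc, ← htz, mul_assoc, l.zt, mul_assoc]
    exact h6.not_mul h h1 h5
  · exact ⟨i, h3⟩

/-- (6.6): `t` of type f with respect to `z` and `s` -/
theorem f_twice' (h : W2 Om) (hti : TI Om z s) (h1 : FT Om z t) (h2 : FT Om s t) :
    ∃ r ∈ RZ Om s, TI Om z (r * t * r⁻¹) := by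
  obtain ⟨K1, K2, L1, L2, a, b, p, q, C⟩ := hti.exists_cf h
  have htz : t * z = z * t := h1.fr.comm.symm
  have hts : t * s = s * t := h2.fr.comm.symm
  obtain ⟨-, r, hr, hrt⟩ := C.star h h2 htz
  refine ⟨r, C.l1.le_RZ hr, ?_⟩
  rw [hrt]
  obtain ⟨σ, hσ, e1, e2⟩ := h1.act h C.k1 C.qa
  have hK1 : cj t K1 = K1 := h1.fr.fx K1 C.k1
  have e3 : σ 0 = 0 := by
    rcases C.symm.fix_or hts hK1 with e4 | e4 <;> rcases hσ 0 with e5 | e5
    · exact (C.qa.inj (Or.inl (e4.symm.trans e5))).symm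
    · exact (C.qa.inj (Or.inr (e4.symm.trans e5))).symm
    · exact C.qa.inj (Or.inr (e5.symm.trans e4))
    · exact (C.qa.inj (Or.inl (mul_left_cancel (e4.symm.trans e5)))).symm
  have e4 := rf_of e3 e2
  rw [e4] at hσ
  have e5 := (C.act_p0 h).comp C.z2 hσ htz
  have e6 : rf 0 * rf 0 = 1 := by decide
  rw [e6] at e5
  have hz' := C.star_z h htz
  have e7 := h.inn_both C.k1 (C.star_inZ h h2 htz) (C.star_ne h h2).symm (e5.inner C.qa hz')
  exact ⟨C.k1.inZ, C.star_inZ h h2 htz, C.star_ne h h2, hz'.symm, e7.1⟩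

/-- the types of `t ∈ Z ∩ C(V)` if it is not of type I with respect to the elements of `V` -/
theorem Lab.status (h : W2 Om) (h1 : NE Om) (l : Lab Om z s c) (ht : InZ Om t) (hzt : z * t = t * z)
    (hst : s * t = t * s) (n1 : ¬ TI Om z t) (n2 : ¬ TI Om s t) (n3 : ¬ TI Om (z * s) t) (m1 : z ≠ t) (m2 : s ≠ t)
    (m3 : z * s ≠ t) :
    (FT Om z t ∧ FT Om s t ∧ FT Om (z * s) t) ∨ (PR Om z t ∧ PR Om s t ∧ FT Om (z * s) t) ∨
      (PR Om z t ∧ FT Om s t ∧ PR Om (z * s) t) ∨ (FT Om z t ∧ PR Om s t ∧ PR Om (z * s) t) := by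
  have h2 : PTwo Om z s := by
    by_contra h2
    exact h1 z ((l.eq_one h h2) ▸ l.mem_CC)
  have hz := l.ti.1
  have hs := l.ti.2.1
  have hzs : InZ Om (z * s) := (l.ti.mul h).2.1
  have hzst : z * s * t = t * (z * s) := by rw [mul_assoc, hst, ← mul_assoc, hzt, mul_assoc]
  have key : ∀ {v : G}, InZ Om v → v ≠ t → v * t = t * v → ¬ TI Om v t →
      (Fx Om v t → FT Om v t) ∧ (Sw Om v t → PR Om v t) := by
    intro v hv hne hc hn
    rcases tcases h hv ht hne hc with h3 | h3 | h3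
    · exact ⟨fun h4 => (fx_sw_false hv h4 h3.sw).elim, fun _ => h3⟩
    · exact ⟨fun _ => h3, fun h4 => (fx_sw_false hv h3.fr.fx h4).elim⟩
    · exact absurd h3 hn
  obtain ⟨a1, b1⟩ := key hz m1 hzt n1
  obtain ⟨a2, b2⟩ := key hs m2 hst n2
  obtain ⟨a3, b3⟩ := key hzs m3 hzst n3
  rcases eps_two h l.ti h2 hzt.symm hst.symm with ⟨e1, e2, e3⟩ | ⟨e1, e2, e3⟩ | ⟨e1, e2, e3⟩ | ⟨e1, e2, e3⟩
  · exact Or.inl ⟨a1 e1, a2 e2, a3 e3⟩
  · exact Or.inr (Or.inl ⟨b1 e1, b2 e2, a3 e3⟩)
  · exact Or.inr (Or.inr (Or.inl ⟨b1 e1, a2 e2, b3 e3⟩))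
  · exact Or.inr (Or.inr (Or.inr ⟨a1 e1, b2 e2, b3 e3⟩))

end Cfsg.Agent.Cit.Nil.RTwo
end

-- part: Cit/Nil/RTwo/TenTwo
section
prune_inst 0x400000
set_option linter.all false
open scoped Cfsg.Agent.FastGrp

/-!
# (10.2) of the blueprint

* `U10 Om` : the world of section 10: no label is trivial, the directions of a label contain a diagonal through
  each of their points;
* `DelC Om c z t` : `z`, `t` are connected by type I lines with the label `c`;
* `U10.conn` : commuting members of `Z_c = {b | c ∈ CC Om b}` are connected.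
-/

set_option autoImplicit false
set_option linter.style.haveILetI false
set_option linter.unusedSectionVars false
set_option maxHeartbeats 400000

namespace Cfsg.Agent.Cit.Nil.RTwo

open Subgroup Cfsg Cit

variable {G : Type*} [Group G]

/-- the world of section 10 -/
structure U10 (Om : Set (Subgroup G)) : Prop where
  w : W2 Om
  ne : NE Om
  diag : ∀ ⦃z : G⦄ ⦃K1 K2 : Subgroup G⦄ ⦃a b : Fin 3 → G⦄, Frame Om z K1 K2 a b → ∀ (c : G) (p : Fin 3 × Fin 3),
    p ∈ DC Om z a b c → (∀ i, (p.1 + i, p.2 + i) ∈ DC Om z a b c) ∨ (∀ i, (p.1 + i, p.2 - i) ∈ DC Om z a b c)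

/-- connected by type I lines with the label `c` -/
def DelC (Om : Set (Subgroup G)) (c z t : G) : Prop := Relation.ReflTransGen (fun u v => Lab Om u v c) z t

variable [Finite G] {Om : Set (Subgroup G)} {K K1 K2 L M L1 L2 : Subgroup G} {z t u v g r s y w c c' : G}
  {x l a b : Fin 3 → G}

theorem Lab.del (l : Lab Om z t c) : DelC Om c z t := Relation.ReflTransGen.single l

theorem DelC.refl (c z : G) : DelC Om c z z := Relation.ReflTransGen.refl

theorem DelC.trans (h1 : DelC Om c z t) (h2 : DelC Om c t s) : DelC Om c z s := Relation.ReflTransGen.trans h1 h2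

theorem DelC.symm (h : W2 Om) (hd : DelC Om c z t) : DelC Om c t z := by
  induction hd with
  | refl => exact Relation.ReflTransGen.refl
  | tail _ h2 ih => exact Relation.ReflTransGen.head (h2.symm h) ih

theorem DelC.conj (h : W2 Om) (hd : DelC Om c z t) (hg : g * c = c * g) :
    DelC Om c (g * z * g⁻¹) (g * t * g⁻¹) := by
  have hc : g * c * g⁻¹ = c := by rw [hg, mul_inv_cancel_right]
  induction hd with
  | refl => exact Relation.ReflTransGen.refl
  | tail _ h2 ih =>
    refine Relation.ReflTransGen.tail ih ?_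
    have h3 := h2.conj h g
    rwa [hc] at h3

theorem DelC.mem_CC (h : W2 Om) (hd : DelC Om c z t) (hc : c ∈ CC Om z) : c ∈ CC Om t := by
  induction hd with
  | refl => exact hc
  | tail _ h2 _ => exact (h2.symm h).mem_CC

/-- `r` commutes with `s` and the label -/
theorem DelC.conj_iff (h : W2 Om) (hs : DelC Om c z s) (hr : r * s = s * r) (hrc : r * c = c * r) :
    DelC Om c z t ↔ DelC Om c z (r * t * r⁻¹) := by
  have hrs : r * s * r⁻¹ = s := by rw [hr, mul_inv_cancel_right]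
  have hrc' : r⁻¹ * c = c * r⁻¹ := by
    rw [inv_mul_eq_iff_eq_mul, ← mul_assoc, hrc, mul_inv_cancel_right]
  constructor
  · intro h1
    have h2 := ((hs.symm h).trans h1).conj h hrc
    rw [hrs] at h2
    exact hs.trans h2
  · intro h1
    have h2 := ((hs.symm h).trans h1).conj h hrc'
    have e1 : r⁻¹ * s * r⁻¹⁻¹ = s := by rw [inv_inv, mul_assoc, ← hr]; group
    have e2 : r⁻¹ * (r * t * r⁻¹) * r⁻¹⁻¹ = t := by group
    rw [e1, e2] at h2
    exact hs.trans h2

/-- type I pairs in `Z_c` have the label `c` -/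
theorem TI.lab (h : W2 Om) (hti : TI Om z t) (hc : c ∈ CC Om z) (hc' : c ∈ CC Om t) : Lab Om z t c := by
  obtain ⟨d, l⟩ := hti.exists_lab h
  have h1 : c * (t * d) = t * d * c := CX_comm l.wz (CC.mem_CX hc)
  have h2 : c * t = t * c := CX_le hti.2.1 h (CC.mem_CX hc')
  have h3 : d * c = c * d := by
    have h4 : t * (d * c) = t * (c * d) := by
      rw [← mul_assoc, ← h1, ← mul_assoc, h2, mul_assoc]
    exact mul_left_cancel h4
  by_cases h4 : d = c
  · rw [← h4]; exact l
  · exact (fx_sw_false hti.2.1 ((Inn.of_CX (CC.mem_CX hc')).fx h) (l.sw h hc h3 h4)).elim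

theorem HP.frame (P : HP Om z t K x) (h : W2 Om) : Frame Om z K (cj t K) x (fun i => t * x i * t⁻¹) :=
  ⟨P.hK, P.hK' h, P.ne', P.q, P.q'⟩

theorem HP.dir_iff (P : HP Om z t K x) {i : Fin 3} :
    Dir z x (fun i => t * x i * t⁻¹) w i i ↔ (w = ee z t x i ∨ w = z * ee z t x i) := by
  unfold Dir
  simp only
  rw [P.xx_eq, P.q.zzx]
  exact or_comm

theorem HP.e_dir (P : HP Om z t K x) (h : W2 Om) {i j : Fin 3} (h1 : w = ee z t x i ∨ w = z * ee z t x i)
    (h2 : w = z * ee z t x j) : i = j :=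
  ((P.frame h).dir_unique h (P.dir_iff.2 h1) (P.dir_iff.2 (Or.inr h2))).1

/-- a line with the label `c` -/
theorem Lab.status' (h : W2 Om) (h1 : NE Om) (l : Lab Om z s c) (ht : c ∈ CC Om t)
    (hzt : z * t = t * z) (hst : s * t = t * s) (hnd : ¬ DelC Om c z t) :
    (FT Om z t ∧ FT Om s t ∧ FT Om (z * s) t) ∨ (PR Om z t ∧ PR Om s t ∧ FT Om (z * s) t) ∨
      (PR Om z t ∧ FT Om s t ∧ PR Om (z * s) t) ∨ (FT Om z t ∧ PR Om s t ∧ PR Om (z * s) t) := by
  have lm := l.mul h
  refine l.status h h1 (CC.inZ ht) hzt hst ?_ ?_ ?_ ?_ ?_ ?_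
  · intro h2; exact hnd (h2.lab h l.mem_CC ht).del
  · intro h2; exact hnd (l.del.trans (h2.lab h (l.symm h).mem_CC ht).del)
  · intro h2; exact hnd (lm.del.trans (h2.lab h (lm.symm h).mem_CC ht).del)
  · rintro rfl; exact hnd (DelC.refl _ _)
  · rintro rfl; exact hnd l.del
  · rintro rfl; exact hnd lm.del

theorem add_sub_key (i i0 : Fin 3) : i0 + (i - i0) = i := by revert i i0; decide

theorem sub_sub_key (i i0 : Fin 3) : i0 - (i - i0) = -i0 - i := by revert i i0; decide

theorem perm3_key (σ τ ρ : Equiv.Perm (Fin 3)) (h1 : σ * σ = 1) (h2 : σ ≠ 1) (h3 : τ * τ = 1) (h4 : τ ≠ 1)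
    (h5 : ρ * ρ = 1) (h6 : ρ ≠ 1) : ρ * (τ * σ) ≠ 1 := by
  revert σ τ ρ; decide

/-- all directions of the graph of `t` occur over `c` -/
theorem HP.del_of_all (h : W2 Om) (h1 : NE Om) (P : HP Om z t K x) (ht : c ∈ CC Om t)
    (hdir : ∀ i, ∃ s, Lab Om z s c ∧ (s * c = ee z t x i ∨ s * c = z * ee z t x i)) : DelC Om c z t := by
  by_contra hnd
  have htc : t * c = c * t := (CC.comm_z h ht).symm
  have htz : t * z = z * t := P.pr.comm.symm
  have key : ∀ i, ∃ s, FT Om s t ∧ s = z * ee z t x i * c := by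
    intro i
    obtain ⟨s0, l0, hs0⟩ := hdir i
    have hs0t : s0 * t = t * s0 := by
      have h2 : s0 * c * t = t * (s0 * c) := by
        rcases hs0 with h3 | h3
        · rw [h3, P.e_t h]
        · rw [h3, mul_assoc, P.e_t h, ← mul_assoc, ← mul_assoc, htz]
      have h3 : s0 * t * c = t * s0 * c := by
        rw [mul_assoc, htc, ← mul_assoc, h2, mul_assoc]
      exact mul_right_cancel h3
    have lm := l0.mul h
    have h4 : ∃ s, Lab Om z s c ∧ FT Om s t ∧ (s * c = ee z t x i ∨ s * c = z * ee z t x i) := by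
      rcases l0.status' h h1 ht P.pr.comm hs0t hnd with h3 | h3 | h3 | h3
      · exact (P.pr.not_fr h3.1.fr).elim
      · refine ⟨z * s0, lm, h3.2.2, ?_⟩
        rw [mul_assoc]
        rcases hs0 with h5 | h5
        · right; rw [h5]
        · left; rw [h5, P.q.zzx]
      · exact ⟨s0, l0, h3.2.1, hs0⟩
      · exact (P.pr.not_fr h3.1.fr).elim
    obtain ⟨s, l, hf, hs⟩ := h4
    obtain ⟨j, hj⟩ := l.e_eq h h1 P hf
    have hij := P.e_dir h hs hj
    subst hij
    refine ⟨s, hf, ?_⟩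
    rw [← hj, mul_assoc, l.sq, mul_one]
  choose s hf hs using key
  have hcE : ∀ i, c * (z * ee z t x i) = z * ee z t x i * c := by
    intro i
    obtain ⟨s0, l0, -⟩ := hdir i
    exact CX_comm (mul_mem (z_mem_RZ P.pr.hz h) (P.e_mem h i)) l0.cz
  have hcc : c * c = 1 := CC.sq ht
  have hprod : s 0 * (s 1 * s 2) = c := by
    have e3 : ee z t x 0 * ee z t x 1 = z * ee z t x 2 := P.e_mul h 0
    have e4 : z * ee z t x 0 * (z * ee z t x 1) = z * ee z t x 2 := by
      calc z * ee z t x 0 * (z * ee z t x 1) = z * (ee z t x 0 * z) * ee z t x 1 := by group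
        _ = (z * z) * (ee z t x 0 * ee z t x 1) := by rw [P.e_z h]; group
        _ = _ := by rw [P.q.z2, one_mul, e3]
    have e5 : z * ee z t x 2 * (z * ee z t x 2) = 1 := by
      calc z * ee z t x 2 * (z * ee z t x 2) = z * (ee z t x 2 * z) * ee z t x 2 := by group
        _ = (z * z) * (ee z t x 2 * ee z t x 2) := by rw [P.e_z h]; group
        _ = 1 := by rw [P.q.z2, one_mul, P.e_sq h]
    rw [hs 0, hs 1, hs 2]
    calc z * ee z t x 0 * c * (z * ee z t x 1 * c * (z * ee z t x 2 * c))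
        = z * ee z t x 0 * (c * (z * ee z t x 1)) * (c * (z * ee z t x 2)) * c := by group
      _ = z * ee z t x 0 * (z * ee z t x 1) * (c * (z * ee z t x 2)) * c * c := by
          rw [hcE 1, hcE 2]
          calc z * ee z t x 0 * (z * ee z t x 1 * c) * (z * ee z t x 2 * c) * c
              = z * ee z t x 0 * (z * ee z t x 1) * (c * (z * ee z t x 2)) * c * c := by group
            _ = _ := by rw [hcE 2]
      _ = z * ee z t x 0 * (z * ee z t x 1) * (z * ee z t x 2) * (c * c) * c := by rw [hcE 2]; group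
      _ = c := by rw [e4, e5, hcc, one_mul, one_mul]
  obtain ⟨L, hL⟩ := CC.inZ ht
  obtain ⟨l, q⟩ := h.exists_q3 hL
  have hft : ∀ i, FT Om t (s i) := fun i => (hf i).symm' h h1
  obtain ⟨σ0, a0, b0, c0⟩ := (hft 0).act h hL q
  obtain ⟨σ1, a1, b1, c1⟩ := (hft 1).act h hL q
  obtain ⟨σ2, a2, b2, c2⟩ := (hft 2).act h hL q
  have e1 := a2.comp q.z2 a1 (hft 1).fr.comm.symm
  have e2 := e1.comp q.z2 a0 (hft 0).fr.comm.symm
  rw [hprod] at e2
  have e3 : Act t l l c 1 := Act.of_inner q (Inn.of_CX (CC.mem_CX ht) L hL)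
  exact perm3_key _ _ _ b2 c2 b1 c1 b0 c0 (e2.unique q e3)

namespace Cf

variable {a b p q : Fin 3 → G} (C : Cf Om z s K1 K2 L1 L2 a b p q)

include C

/-- an element of order 4 of `L1` commuting with `z` -/
theorem of_comm_z {k : G} (hk : k ∈ L1) (hkk : k * k = s) (hkz : k * z = z * k) : k = p 0 ∨ k = s * p 0 := by
  obtain ⟨i, hi⟩ := C.qc.of_sq hk hkk
  by_cases h0 : i = 0
  · subst h0; exact hi
  · exfalso
    have h1 := C.zc k hk
    rw [← hkz, mul_inv_cancel_right] at h1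
    have h2 : p 0 * k * (p 0)⁻¹ = s * k := by
      rcases hi with rfl | rfl
      · exact C.qc.conj_ne (Ne.symm h0)
      · calc p 0 * (s * p i) * (p 0)⁻¹ = (p 0 * s) * p i * (p 0)⁻¹ := by group
          _ = s * (p 0 * p i * (p 0)⁻¹) := by rw [← C.qc.zc]; group
          _ = _ := by rw [C.qc.conj_ne (Ne.symm h0)]
    rw [h2] at h1
    exact C.qc.zne _ h1.symm

theorem fix_or' {k : G} (hk : k ∈ L1) (hkk : k * k = s) (hkz : k * z = z * k) (hts : t * s = s * t)
    (htz : t * z = z * t) (htL : cj t L1 = L1) : t * k * t⁻¹ = k ∨ t * k * t⁻¹ = s * k := by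
  have h1 := C.fix_or htz htL
  rcases C.of_comm_z hk hkk hkz with rfl | rfl
  · exact h1
  · have e : t * (s * p 0) * t⁻¹ = s * (t * p 0 * t⁻¹) := by
      calc t * (s * p 0) * t⁻¹ = (t * s) * p 0 * t⁻¹ := by group
        _ = (s * t) * p 0 * t⁻¹ := by rw [hts]
        _ = _ := by group
    rw [e]
    rcases h1 with h1 | h1
    · left; rw [h1]
    · right; rw [h1]

end Cf

/-- the f-point of a line: the conjugation of `t` by an element over `s` -/
theorem Lab.exists_star (h : W2 Om) (F : Frame Om z K1 K2 a b) (l : Lab Om z s c) {p : Fin 3 × Fin 3}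
    (hp : Dir z a b (s * c) p.1 p.2) (hf : FT Om s t) (htz : t * z = z * t) :
    ∃ th, th * z = z * th ∧ Act z a a th (rf p.1) ∧ Act z b b th (rf p.2) ∧
      ∃ r ∈ RZ Om s, r * t * r⁻¹ = t * th := by
  obtain ⟨th, h1, h2, h3, ⟨L, hL, hth⟩, ha, hb, -⟩ := l.exists_theta h F hp
  obtain ⟨K1', K2', L1, L2, a', b', p', q', C⟩ := l.ti.exists_cf h
  have hts : t * s = s * t := hf.fr.comm.symm
  have h4 : t * th * t⁻¹ = th ∨ t * th * t⁻¹ = s * th := by
    rcases C.l1.cases C.l2 h C.lne hL with rfl | rfl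
    · exact C.fix_or' hth h1 h2 hts htz (hf.fr.fx L hL)
    · exact C.swl.fix_or' hth h1 h2 hts htz (hf.fr.fx L hL)
  obtain ⟨-, r, hr, hrt⟩ := hf.inv_axis h hL hth h1 h4
  exact ⟨th, h2, ha, hb, r, hL.le_RZ hr, hrt⟩

theorem isPGroup_zp (ht : InZ Om t) (h : W2 Om) : IsPGroup 2 (zpowers t) := isPGroup_zpowers_of_sq (ht.z2 h)

/-- pairs of type p in `Z_c` -/
theorem U10.conn_p (U : U10 Om) (hp : PR Om z t) (hc : c ∈ CC Om z) (ht : c ∈ CC Om t) : DelC Om c z t := by
  have h := U.w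
  obtain ⟨K, x, P⟩ := hp.exists_hp h
  have F := P.frame h
  by_contra hnd
  have htc : t * c = c * t := (CC.comm_z h ht).symm
  have htz : t * z = z * t := hp.comm.symm
  obtain ⟨p, hpD, hfix⟩ := DC.exists_fixed h F hc (isPGroup_zp hp.ht h)
    (by
      intro g hg
      obtain ⟨n, rfl⟩ := mem_zpowers_iff.1 hg
      exact (Commute.zpow_left htz n))
    (by
      intro g hg
      obtain ⟨n, rfl⟩ := mem_zpowers_iff.1 hg
      exact (Commute.zpow_left htc n))
  -- the direction is on the graph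
  have hpp : p.1 = p.2 := by
    have h2 := hfix t (mem_zpowers t) _ (Or.inl rfl)
    have e : t * (x p.1 * (t * x p.2 * t⁻¹)) * t⁻¹ = x p.2 * (t * x p.1 * t⁻¹) := by
      calc t * (x p.1 * (t * x p.2 * t⁻¹)) * t⁻¹ = (t * x p.1 * t⁻¹) * (t * (t * x p.2 * t⁻¹) * t⁻¹) := by group
        _ = (t * x p.1 * t⁻¹) * x p.2 := by rw [P.tt h]
        _ = _ := (P.xx' h p.2 p.1).symm
    rw [e] at h2
    exact (F.dir_unique h h2 (Or.inl rfl : Dir z x (fun i => t * x i * t⁻¹) (x p.2 * (t * x p.1 * t⁻¹)) p.2 p.1)).1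
  obtain ⟨i0, j0⟩ := p
  simp only at hpp
  subst hpp
  rcases U.diag F c _ hpD with hd | hd
  · apply hnd
    refine P.del_of_all h U.ne ht fun i => ?_
    have h2 := hd (i - i0)
    have e : i0 + (i - i0) = i := add_sub_key i i0
    simp only at h2
    rw [e] at h2
    obtain ⟨s, l, hs⟩ := h2
    exact ⟨s, l, P.dir_iff.1 hs⟩
  · obtain ⟨s0, l0, hs0⟩ := hpD
    have hs0t : s0 * t = t * s0 := by
      have h2 : s0 * c * t = t * (s0 * c) := by
        rcases P.dir_iff.1 hs0 with h3 | h3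
        · rw [h3, P.e_t h]
        · rw [h3, mul_assoc, P.e_t h, ← mul_assoc, ← mul_assoc, htz]
      have h3 : s0 * t * c = t * s0 * c := by
        rw [mul_assoc, htc, ← mul_assoc, h2, mul_assoc]
      exact mul_right_cancel h3
    have lm := l0.mul h
    have h4 : ∃ s, Lab Om z s c ∧ FT Om s t ∧ Dir z x (fun i => t * x i * t⁻¹) (s * c) i0 i0 := by
      rcases l0.status' h U.ne ht hp.comm hs0t hnd with h3 | h3 | h3 | h3
      · exact (hp.not_fr h3.1.fr).elim
      · refine ⟨z * s0, lm, h3.2.2, ?_⟩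
        rw [mul_assoc, P.dir_iff]
        rcases P.dir_iff.1 hs0 with h5 | h5
        · right; rw [h5]
        · left; rw [h5, P.q.zzx]
      · exact ⟨s0, l0, h3.2.1, hs0⟩
      · exact (hp.not_fr h3.1.fr).elim
    obtain ⟨s, l, hf, hs⟩ := h4
    obtain ⟨th, hthz, ha, -, r, hr, hrt⟩ := l.exists_star h F (p := (i0, i0)) hs hf htz
    have hrc : r * c = c * r := (CX_comm hr l.ct).symm
    have hrs : r * s = s * r := RZ_le_centralizer h hr
    have htZ : InZ Om (t * th) := by rw [← hrt]; exact hp.ht.conj h r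
    have htC : c ∈ CC Om (t * th) := by
      have h5 := CC.conj h ht r
      rwa [hrc, mul_inv_cancel_right, hrt] at h5
    have hsw : Sw Om z (t * th) := by
      refine hp.sw'.mul_fx ?_
      rcases fx_or_sw h hp.hz hthz with h6 | h6
      · exact h6
      · exfalso
        -- `th` acts on `K`
        have h7 : cj th K ≠ K := h6 K P.hK
        have h8 : th * x 0 * th⁻¹ ∈ K := by
          rcases ha 0 with h9 | h9
          · rw [h9]; exact P.q.mem _
          · rw [h9]; exact mul_mem P.q.zmem (P.q.mem _)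
        have h9 := P.hK.inf (P.hK.cj_comm h hthz) h h7.symm h8 (conj_mem_cj (P.q.mem 0))
        rcases ha 0 with h10 | h10
        · rw [h10] at h9
          rcases h9 with h9 | h9
          · exact P.q.ne_one _ h9
          · exact P.q.ne_z _ h9
        · rw [h10] at h9
          rcases h9 with h9 | h9
          · exact P.q.zx_ne_one _ h9
          · exact P.q.zx_ne_z _ h9
    have hzth : z * (t * th) = t * th * z := by
      rw [← mul_assoc, ← htz, mul_assoc, ← hthz, mul_assoc]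
    have hne : z ≠ t * th := by
      intro e
      rw [← e] at hsw
      exact fx_sw_false P.pr.hz ((Inn.of_CX (z_mem_CX h)).fx h) hsw
    have P' : HP Om z (t * th) K x := ⟨⟨hp.hz, htZ, hne, hzth, hsw⟩, P.hK, P.q⟩
    apply hnd
    rw [l.del.conj_iff h hrs hrc, hrt]
    refine P'.del_of_all h U.ne htC fun i => ?_
    have h5 := hd (i - i0)
    have e : i0 + (i - i0) = i := add_sub_key i i0
    have e' : i0 - (i - i0) = rf i0 i := by
      rw [rf_apply]; exact sub_sub_key i i0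
    simp only at h5
    rw [e, e'] at h5
    obtain ⟨s', l', hs'⟩ := h5
    refine ⟨s', l', ?_⟩
    have e6 : ee z (t * th) x i = z * x i * (t * x (rf i0 i) * t⁻¹) ∨ ee z (t * th) x i = x i * (t * x (rf i0 i) * t⁻¹) := by
      have e7 : ee z (t * th) x i = z * x i * (t * (th * x i * th⁻¹) * t⁻¹) := by rw [ee]; group
      rw [e7]
      rcases ha i with h8 | h8
      · left; rw [h8]
      · right
        rw [h8]
        calc z * x i * (t * (z * x (rf i0 i)) * t⁻¹) = z * x i * ((t * z) * x (rf i0 i) * t⁻¹) := by group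
          _ = z * (x i * z) * (t * x (rf i0 i) * t⁻¹) := by rw [htz]; group
          _ = (z * z) * x i * (t * x (rf i0 i) * t⁻¹) := by rw [← P.q.zc]; group
          _ = _ := by rw [P.q.z2, one_mul]
    rcases hs' with h8 | h8 <;> rcases e6 with h9 | h9
    · right; rw [h8, h9, mul_assoc, P.q.zzx]
    · left; rw [h8, h9]
    · left; rw [h8, h9, mul_assoc]
    · right; rw [h8, h9]

/-- a line over `c` centralised by `t` of type f -/
theorem FT.exists_line (h : W2 Om) (hp : FT Om z t) (hc : c ∈ CC Om z) (htc : t * c = c * t) :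
    ∃ s, Lab Om z s c ∧ s * t = t * s := by
  obtain ⟨K1, K2, a, b, F⟩ := hp.fr.hz.exists_frame h
  have htz : t * z = z * t := hp.fr.comm.symm
  obtain ⟨p, ⟨s, l, hs⟩, hfix⟩ := DC.exists_fixed h F hc (isPGroup_zp hp.fr.ht h)
    (by
      intro g hg
      obtain ⟨n, rfl⟩ := mem_zpowers_iff.1 hg
      exact (Commute.zpow_left htz n))
    (by
      intro g hg
      obtain ⟨n, rfl⟩ := mem_zpowers_iff.1 hg
      exact (Commute.zpow_left htc n))
  refine ⟨s, l, ?_⟩
  obtain ⟨σ, hσ, -, -⟩ := hp.act h F.k1 F.qa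
  obtain ⟨τ, hτ, -, -⟩ := hp.act h F.k2 F.qb
  have hw : Dir z a b (a p.1 * b p.2) p.1 p.2 := Or.inl rfl
  have h1 := hfix t (mem_zpowers t) _ hw
  have h2 := F.dir_conj (w := a p.1 * b p.2) htz hσ hτ hw
  obtain ⟨e1, e2⟩ := F.dir_unique h h2 h1
  have f1 := hσ p.1
  have f2 := hτ p.2
  rw [e1] at f1
  rw [e2] at f2
  obtain ⟨g1, -⟩ := hp.inv_axis h F.k1 (F.qa.mem p.1) (F.qa.sq p.1) f1
  obtain ⟨g2, -⟩ := hp.inv_axis h F.k2 (F.qb.mem p.2) (F.qb.sq p.2) f2
  have h3 : t * (a p.1 * b p.2) * t⁻¹ = a p.1 * b p.2 := by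
    calc t * (a p.1 * b p.2) * t⁻¹ = (t * a p.1 * t⁻¹) * (t * b p.2 * t⁻¹) := by group
      _ = (z * a p.1) * (z * b p.2) := by rw [g1, g2]
      _ = z * (a p.1 * z) * b p.2 := by group
      _ = z * (z * a p.1) * b p.2 := by rw [F.qa.zc]
      _ = _ := by rw [F.qa.zzx]
  rw [mul_inv_eq_iff_eq_mul] at h3
  have h4 : s * c * t = t * (s * c) := by
    rcases hs with h5 | h5
    · rw [h5, ← h3]
    · rw [h5, mul_assoc, ← h3, ← mul_assoc, ← htz, mul_assoc]
  have h5 : s * t * c = t * s * c := by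
    rw [mul_assoc, htc, ← mul_assoc, h4, mul_assoc]
  exact mul_right_cancel h5

/-- **(10.2)**: commuting members of `Z_c` are connected by lines with the label `c` -/
theorem U10.conn (U : U10 Om) (hc : c ∈ CC Om z) (ht : c ∈ CC Om t) (hzt : z * t = t * z) : DelC Om c z t := by
  have h := U.w
  by_cases hne : z = t
  · rw [hne]; exact DelC.refl _ _
  rcases tcases h (CC.inZ hc) (CC.inZ ht) hne hzt with hp | hp | hp
  · exact U.conn_p hp hc ht
  · by_contra hnd
    have htc : t * c = c * t := (CC.comm_z h ht).symm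
    obtain ⟨s, l, hst⟩ := hp.exists_line h hc htc
    rcases l.status' h U.ne ht hzt hst hnd with h3 | h3 | h3 | h3
    · obtain ⟨r, hr, hti⟩ := f_twice' h l.ti hp h3.2.1
      have hrc : r * c = c * r := (CX_comm hr l.ct).symm
      have hrs : r * s = s * r := RZ_le_centralizer h hr
      have htC : c ∈ CC Om (r * t * r⁻¹) := by
        have h5 := CC.conj h ht r
        rwa [hrc, mul_inv_cancel_right] at h5
      apply hnd
      rw [l.del.conj_iff h hrs hrc]
      exact (hti.lab h hc htC).del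
    · exact (h3.1.not_fr hp.fr).elim
    · exact (h3.1.not_fr hp.fr).elim
    · exact hnd (l.del.trans (U.conn_p h3.2.1 (l.symm h).mem_CC ht))
  · exact (hp.lab h hc ht).del

end Cfsg.Agent.Cit.Nil.RTwo
end

-- part: Cit/Nil/RTwo/TenP
section
prune_inst 0x400000
set_option linter.all false
open scoped Cfsg.Agent.FastGrp

/-!
# (10.3) of the blueprint: `M_c` and FACT P

* `MC h c z` : the stabiliser in `C(c)` of `Δ_c(z)`;
* `exists_sylC` : a Sylow 2-subgroup of `C(c, z)` is a Sylow 2-subgroup of `C(c)` (`c` a label on `z`);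
* `U10.mem_MC_of_conj` : `g ∈ C(c)`, `b ∈ Δ_c(z)`, `b^g ∈ M_c` implies `g ∈ M_c`;
* `U10.factP` : `z ≠ b` commuting in `Z_c`: `C(c) ∩ C(z b) ≤ M_c`.
-/

set_option autoImplicit false
set_option linter.style.haveILetI false
set_option linter.unusedSectionVars false
set_option maxHeartbeats 400000

namespace Cfsg.Agent.Cit.Nil.RTwo

open Subgroup Cfsg Cit

variable {G : Type*} [Group G]

/-! ### Products of directions -/

theorem Q3.mul_ne {K : Subgroup G} {z : G} {x : Fin 3 → G} (q : Q3 K z x) {i j : Fin 3} (hij : i ≠ j) :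
    x i * x j = x (-i - j) ∨ x i * x j = z * x (-i - j) := by
  have e1 : ∀ i : Fin 3, -i - (i + 1) = i + 2 := by decide
  have e2 : ∀ i : Fin 3, -i - (i + 2) = i + 1 := by decide
  rcases i_cases hij with rfl | rfl
  · left; rw [e1]; exact q.mul i
  · right; rw [e2]; exact q.mul2' i

section

variable [Finite G] {Om : Set (Subgroup G)} {K K1 K2 L M L1 L2 : Subgroup G} {z t u v g r s y w w' c c' : G}
  {a b : Fin 3 → G}

/-- the product of two commuting elements with different directions -/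
theorem Frame.dir_mul (F : Frame Om z K1 K2 a b) (h : W2 Om) {p q : Fin 3 × Fin 3}
    (hw : Dir z a b w p.1 p.2) (hw' : Dir z a b w' q.1 q.2) (hc : w * w' = w' * w) (hne : p ≠ q) :
    Dir z a b (w * w') (-p - q).1 (-p - q).2 := by
  have hza : ∀ i, z * a i = a i * z := F.qa.zc
  have hzb : ∀ i, z * b i = b i * z := F.qb.zc
  have hz2 : z * z = 1 := F.qa.z2
  have hab : ∀ i j, a i * b j = b j * a i := F.ab h
  have hzz : ∀ u : G, z * (z * u) = u := F.qa.zzx
  -- write `w = e (a b)`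
  have key : ∀ {w : G} {i j : Fin 3}, Dir z a b w i j → ∃ e, (e = 1 ∨ e = z) ∧ w = e * (a i * b j) := by
    rintro w i j (h1 | h1)
    · exact ⟨1, Or.inl rfl, by rw [one_mul, h1]⟩
    · exact ⟨z, Or.inr rfl, h1⟩
  obtain ⟨e, he, rfl⟩ := key hw
  obtain ⟨f, hf, rfl⟩ := key hw'
  have hze : z * e = e * z := by rcases he with rfl | rfl <;> simp
  have hef : e * f = f * e := by rcases he with rfl | rfl <;> rcases hf with rfl | rfl <;> simp
  have hea : ∀ i, e * a i = a i * e := by intro i; rcases he with rfl | rfl <;> simp [hza]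
  have heb : ∀ i, e * b i = b i * e := by intro i; rcases he with rfl | rfl <;> simp [hzb]
  have hfa : ∀ i, f * a i = a i * f := by intro i; rcases hf with rfl | rfl <;> simp [hza]
  have hfb : ∀ i, f * b i = b i * f := by intro i; rcases hf with rfl | rfl <;> simp [hzb]
  obtain ⟨i, j⟩ := p
  obtain ⟨i', j'⟩ := q
  have m1 : e * (a i * b j) * (f * (a i' * b j')) = e * f * ((a i * a i') * (b j * b j')) := by
    calc e * (a i * b j) * (f * (a i' * b j')) = e * a i * (b j * f) * a i' * b j' := by group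
      _ = e * (a i * f) * (b j * a i') * b j' := by rw [← hfb]; group
      _ = e * (f * a i) * (a i' * b j) * b j' := by rw [← hfa, ← hab]
      _ = _ := by group
  have m2 : f * (a i' * b j') * (e * (a i * b j)) = e * f * ((a i' * a i) * (b j' * b j)) := by
    calc f * (a i' * b j') * (e * (a i * b j)) = f * a i' * (b j' * e) * a i * b j := by group
      _ = f * (a i' * e) * (b j' * a i) * b j := by rw [← heb]; group
      _ = f * (e * a i') * (a i * b j') * b j := by rw [← hea, ← hab]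
      _ = (f * e) * ((a i' * a i) * (b j' * b j)) := by group
      _ = _ := by rw [← hef]
  simp only at hc ⊢
  rw [m1, m2] at hc
  have hc' := mul_left_cancel hc
  have hz1 := F.qa.z1
  by_cases hi : i = i'
  · subst hi
    have hj : j ≠ j' := fun e => hne (by rw [e])
    exfalso
    have h2 := mul_left_cancel hc'
    have h3 := F.qb.anti hj
    rw [h2] at h3
    apply hz1
    have h4 : 1 * (b j' * b j) = z * (b j' * b j) := by rw [one_mul, ← mul_assoc]; exact h3
    exact (mul_right_cancel h4).symm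
  · by_cases hj : j = j'
    · subst hj
      exfalso
      have h2 := mul_right_cancel hc'
      have h3 := F.qa.anti hi
      rw [h2] at h3
      apply hz1
      have h4 : 1 * (a i' * a i) = z * (a i' * a i) := by rw [one_mul, ← mul_assoc]; exact h3
      exact (mul_right_cancel h4).symm
    · rw [m1]
      have hd : Dir z a b ((a i * a i') * (b j * b j')) (-i - i') (-j - j') := by
        rcases F.qa.mul_ne hi with h2 | h2 <;> rcases F.qb.mul_ne hj with h3 | h3
        · left; rw [h2, h3]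
        · right; rw [h2, h3, ← mul_assoc, ← hza, mul_assoc]
        · right; rw [h2, h3, mul_assoc]
        · left; rw [h2, h3, mul_assoc, ← mul_assoc (a _), ← hza, mul_assoc, hzz]
      show Dir z a b (e * f * ((a i * a i') * (b j * b j'))) (-i - i') (-j - j')
      have hef' : e * f = 1 ∨ e * f = z := by
        rcases he with rfl | rfl <;> rcases hf with rfl | rfl <;> simp [hz2]
      rcases hef' with h4 | h4
      · rw [h4, one_mul]; exact hd
      · rw [h4]
        rcases hd with h5 | h5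
        · right; rw [h5]
        · left; rw [h5, hzz]

/-! ### `M_c` -/

/-- the stabiliser of `Δ_c(z)` in `C(c)` -/
def MC (h : W2 Om) (c z : G) : Subgroup G where
  carrier := {g | g * c = c * g ∧ DelC Om c z (g * z * g⁻¹)}
  one_mem' := ⟨by group, by simpa using DelC.refl c z⟩
  mul_mem' := by
    rintro g k ⟨h1, h2⟩ ⟨h3, h4⟩
    refine ⟨by rw [mul_assoc, h3, ← mul_assoc, h1, mul_assoc], ?_⟩
    have h5 := h4.conj h h1
    have e : g * k * z * (g * k)⁻¹ = g * (k * z * k⁻¹) * g⁻¹ := by group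
    rw [e]
    exact h2.trans h5
  inv_mem' := by
    rintro g ⟨h1, h2⟩
    have h3 : g⁻¹ * c = c * g⁻¹ := by
      rw [inv_mul_eq_iff_eq_mul, ← mul_assoc, h1, mul_inv_cancel_right]
    refine ⟨h3, ?_⟩
    have h4 := h2.conj h h3
    have e : g⁻¹ * (g * z * g⁻¹) * g⁻¹⁻¹ = z := by group
    rw [e] at h4
    exact h4.symm h

theorem mem_MC {h : W2 Om} : g ∈ MC h c z ↔ g * c = c * g ∧ DelC Om c z (g * z * g⁻¹) := Iff.rfl

theorem MC_le (h : W2 Om) : MC h c z ≤ centralizer {c} := by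
  intro g hg
  rw [mem_centralizer_singleton_iff]
  exact (mem_MC.1 hg).1

theorem mem_MC_of_comm (h : W2 Om) (hgc : g * c = c * g) (hgz : g * z = z * g) : g ∈ MC h c z :=
  mem_MC.2 ⟨hgc, by rw [hgz, mul_inv_cancel_right]; exact DelC.refl _ _⟩

theorem mem_MC_iff_of_del (h : W2 Om) (hd : DelC Om c z t) : g ∈ MC h c z ↔ g ∈ MC h c t := by
  rw [mem_MC, mem_MC]
  constructor
  · rintro ⟨h1, h2⟩
    exact ⟨h1, (hd.symm h).trans (h2.trans (hd.conj h h1))⟩
  · rintro ⟨h1, h2⟩
    exact ⟨h1, hd.trans (h2.trans ((hd.symm h).conj h h1))⟩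

theorem MC_eq_of_del (h : W2 Om) (hd : DelC Om c z t) : MC h c z = MC h c t := by
  ext g; exact mem_MC_iff_of_del h hd

/-- elements of `Δ_c` are in `M_c` -/
theorem del_mem_MC (h : W2 Om) (hc : c ∈ CC Om z) (hd : DelC Om c z t) : t ∈ MC h c z := by
  rw [mem_MC_iff_of_del h hd]
  exact mem_MC_of_comm h (CC.comm_z h (hd.mem_CC h hc)).symm rfl

theorem RZ_le_MC (h : W2 Om) (hc : c ∈ CC Om z) (hd : DelC Om c z t) : RZ Om t ≤ MC h c z := by
  intro r hr
  rw [mem_MC_iff_of_del h hd]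
  exact mem_MC_of_comm h (CX_comm hr (CC.mem_CX (hd.mem_CC h hc))).symm (RZ_le_centralizer h hr)

/-- `R_z` is a 2-group -/
theorem isPGroup_RZ (h : W2 Om) (hz : InZ Om z) : IsPGroup 2 (RZ Om z) := by
  obtain ⟨K1, K2, a, b, F⟩ := hz.exists_frame h
  have h1 : RZ Om z ≤ K1 ⊔ K2 := RZ_le fun K hK => by
    rcases F.k1.cases F.k2 h F.ne hK with rfl | rfl
    · exact le_sup_left
    · exact le_sup_right
  refine (IsPGroup.to_sup_of_normal_right' (h.isPGroup F.k1.1) (h.isPGroup F.k2.1) ?_).to_le h1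
  intro g hg
  rw [mem_normalizer_iff]
  have h2 : ∀ x ∈ K2, g * x * g⁻¹ = x := by
    intro x hx
    rw [F.k1.comm F.k2 h F.ne hg hx, mul_inv_cancel_right]
  intro x
  constructor
  · intro hx; rw [h2 x hx]; exact hx
  · intro hx
    have h3 := F.k1.comm F.k2 h F.ne (inv_mem hg) hx
    have h4 : g⁻¹ * (g * x * g⁻¹) * g = g * x * g⁻¹ := by rw [h3]; group
    have h5 : g⁻¹ * (g * x * g⁻¹) * g = x := by group
    rw [h5] at h4
    rwa [h4]

/-- a Sylow 2-subgroup of `C(c)` in `C(z)` -/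
theorem exists_sylC (h : W2 Om) (hz : InZ Om z) (hc : c ∈ CX Om z) :
    ∃ P, Syl P (centralizer {c}) ∧ (∀ g ∈ P, g * z = z * g) ∧ RZ Om z ≤ P := by
  have hzc : z * c = c * z := (CX_le hz h hc).symm
  set C := centralizer ({c} : Set G) ⊓ centralizer {z} with hC
  have hmem : ∀ g, g ∈ C ↔ g * c = c * g ∧ g * z = z * g := by
    intro g
    rw [hC, mem_inf, mem_centralizer_singleton_iff, mem_centralizer_singleton_iff]
  have hRC : RZ Om z ≤ C := by
    intro r hr
    rw [hmem]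
    exact ⟨(CX_comm hr hc).symm, RZ_le_centralizer h hr⟩
  have hR2 := isPGroup_RZ h hz
  obtain ⟨P, hP, hRP⟩ := LB.exists_syl_ge hR2 hRC
  refine ⟨P, ?_, fun g hg => ((hmem g).1 (hP.1 hg)).2, hRP⟩
  obtain ⟨T, hT, hPT⟩ := LB.exists_syl_ge hP.2.1 (hP.1.trans inf_le_left)
  by_cases hne : P = T
  · rw [hne]; exact hT
  exfalso
  obtain ⟨g, hgT, hgP, hcj⟩ := LB.exists_normalizing hT.2.1 hPT hne
  have hgc : g * c = c * g := mem_centralizer_singleton_iff.1 (hT.1 hgT)
  -- `g z g⁻¹` centralises `P`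
  have h1 : g * z * g⁻¹ = z := by
    obtain ⟨K, hK⟩ := hz
    have hz' : InZ Om z := ⟨K, hK⟩
    refine (hz'.conj h g).eq_of_cent hK h fun k hk => ?_
    have hkP : k ∈ P := hRP (hK.le_RZ hk)
    have h2 : g⁻¹ * k * g ∈ P := by rw [← hcj, mem_cj] at hkP; exact hkP
    have h3 := ((hmem _).1 (hP.1 h2)).2
    calc g * z * g⁻¹ * k = g * (z * (g⁻¹ * k * g)) * g⁻¹ := by group
      _ = g * ((g⁻¹ * k * g) * z) * g⁻¹ := by rw [h3]
      _ = _ := by group
  have hgz : g * z = z * g := by rw [mul_inv_eq_iff_eq_mul] at h1; exact h1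
  have hgC : g ∈ C := (hmem g).2 ⟨hgc, hgz⟩
  have h2 : P ⊔ zpowers g ≤ T := sup_le hPT (zpowers_le.2 hgT)
  have h3 : P = P ⊔ zpowers g :=
    LB.syl_eq_of_le hP (hT.2.1.to_le h2) (sup_le hP.1 (zpowers_le.2 hgC)) le_sup_left
  apply hgP
  rw [h3]
  exact mem_sup_right (mem_zpowers g)

/-- (10.2), last line -/
theorem U10.mem_MC_of_conj (U : U10 Om) (hc : c ∈ CC Om z) (hd : DelC Om c z v) (hgc : g * c = c * g)
    (hg : g * v * g⁻¹ ∈ MC U.w c z) : g ∈ MC U.w c z := by
  have h := U.w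
  have hv := hd.mem_CC h hc
  obtain ⟨P, hP, hPz, -⟩ := exists_sylC h (CC.inZ hc) (CC.mem_CX hc)
  have hPM : P ≤ MC h c z := fun x hx => mem_MC_of_comm h (mem_centralizer_singleton_iff.1 (hP.1 hx)) (hPz x hx)
  have hPM' : Syl P (MC h c z) := LB.syl_of_le hP hPM (MC_le h)
  have h2 : IsPGroup 2 (zpowers (g * v * g⁻¹)) := isPGroup_zp ((CC.inZ hv).conj h g) h
  obtain ⟨m, hm, hm2⟩ := LB.exists_conj_mem hPM' hg h2
  have hmc := (mem_MC.1 hm).1
  have hmg : m * g * c = c * (m * g) := by rw [mul_assoc, hgc, ← mul_assoc, hmc, mul_assoc]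
  have h3 : c ∈ CC Om (m * (g * v * g⁻¹) * m⁻¹) := by
    have h4 := CC.conj h hv (m * g)
    rw [hmg, mul_inv_cancel_right] at h4
    have e : m * g * v * (m * g)⁻¹ = m * (g * v * g⁻¹) * m⁻¹ := by group
    rwa [e] at h4
  have h4 := U.conn hc h3 (hPz _ hm2).symm
  have h5 : m * g ∈ MC h c z := by
    rw [mem_MC]
    refine ⟨hmg, ?_⟩
    have h6 := hd.conj h hmg
    have e : m * g * v * (m * g)⁻¹ = m * (g * v * g⁻¹) * m⁻¹ := by group
    rw [e] at h6
    exact h4.trans (h6.symm h)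
  have h6 := mul_mem (inv_mem hm) h5
  rwa [inv_mul_cancel_left] at h6

theorem U10.mem_MC_of_comm_del (U : U10 Om) (hd : DelC Om c z t) (hgc : g * c = c * g)
    (hgt : g * t = t * g) : g ∈ MC U.w c z := by
  rw [mem_MC_iff_of_del U.w hd]; exact mem_MC_of_comm U.w hgc hgt

/-- a line over `c` centralised by `t` of type p -/
theorem PR.exists_line (h : W2 Om) (hp : PR Om z t) (hc : c ∈ CC Om z) (htc : t * c = c * t) :
    ∃ s, Lab Om z s c ∧ s * t = t * s := by
  obtain ⟨K, x, P⟩ := hp.exists_hp h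
  have F := P.frame h
  have htz : t * z = z * t := hp.comm.symm
  obtain ⟨p, ⟨s0, l0, hs0⟩, hfix⟩ := DC.exists_fixed h F hc (isPGroup_zp hp.ht h)
    (by
      intro g hg
      obtain ⟨n, rfl⟩ := mem_zpowers_iff.1 hg
      exact (Commute.zpow_left htz n))
    (by
      intro g hg
      obtain ⟨n, rfl⟩ := mem_zpowers_iff.1 hg
      exact (Commute.zpow_left htc n))
  have hpp : p.1 = p.2 := by
    have h2 := hfix t (mem_zpowers t) _ (Or.inl rfl)
    have e : t * (x p.1 * (t * x p.2 * t⁻¹)) * t⁻¹ = x p.2 * (t * x p.1 * t⁻¹) := by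
      calc t * (x p.1 * (t * x p.2 * t⁻¹)) * t⁻¹ = (t * x p.1 * t⁻¹) * (t * (t * x p.2 * t⁻¹) * t⁻¹) := by group
        _ = (t * x p.1 * t⁻¹) * x p.2 := by rw [P.tt h]
        _ = _ := (P.xx' h p.2 p.1).symm
    rw [e] at h2
    exact (F.dir_unique h h2 (Or.inl rfl : Dir z x (fun i => t * x i * t⁻¹) (x p.2 * (t * x p.1 * t⁻¹)) p.2 p.1)).1
  obtain ⟨i0, j0⟩ := p
  simp only at hpp
  subst hpp
  refine ⟨s0, l0, ?_⟩
  have h2 : s0 * c * t = t * (s0 * c) := by
    rcases P.dir_iff.1 hs0 with h3 | h3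
    · rw [h3, P.e_t h]
    · rw [h3, mul_assoc, P.e_t h, ← mul_assoc, ← mul_assoc, htz]
  have h3 : s0 * t * c = t * s0 * c := by
    rw [mul_assoc, htc, ← mul_assoc, h2, mul_assoc]
  exact mul_right_cancel h3

/-- two members of `Z_c` of type I with respect to `v`: `z b` is in `{1, v}` or `z b c ∈ Z_c` -/
theorem U10.mul_label (U : U10 Om) (l1 : Lab Om v z c) (l2 : Lab Om v t c) (hzt : z * t = t * z) (hne : z ≠ t)
    (hn : ¬ TI Om z t) : c ∈ CC Om (z * t * c) := by
  have h := U.w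
  obtain ⟨K1, K2, a, b, F⟩ := l1.ti.1.exists_frame h
  obtain ⟨-, i, j, -, -, -, -, hd1, -⟩ := l1.theta h F
  obtain ⟨-, i', j', -, -, -, -, hd2, -⟩ := l2.theta h F
  have hcz : c * z = z * c := l1.comm_t h
  have hct : c * t = t * c := l2.comm_t h
  have hcc : c * c = 1 := l1.sq
  have hw : (z * c) * (t * c) = z * t := by
    calc (z * c) * (t * c) = z * (c * t) * c := by group
      _ = z * t * (c * c) := by rw [hct]; group
      _ = z * t := by rw [hcc, mul_one]
  have hw' : (t * c) * (z * c) = z * t := by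
    calc (t * c) * (z * c) = t * (c * z) * c := by group
      _ = t * z * (c * c) := by rw [hcz]; group
      _ = z * t := by rw [hcc, mul_one, hzt]
  by_cases hpq : ((i, j) : Fin 3 × Fin 3) = (i', j')
  · exfalso
    obtain ⟨rfl, rfl⟩ := Prod.mk.inj hpq
    rcases F.eq_of_dir (p := (i, j)) hd1 hd2 with h1 | h1
    · exact hne h1.symm
    · apply hn
      have h2 := (l1.symm h).mul h
      rw [← l1.zt, ← h1] at h2
      exact h2.ti
  · have hd3 := F.dir_mul h (p := (i, j)) (q := (i', j')) hd1 hd2 (hw.trans hw'.symm) hpq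
    rw [hw] at hd3
    have hD : (-(i, j) - (i', j') : Fin 3 × Fin 3) ∈ DC Om v a b c :=
      DC.line h F ⟨z, l1, hd1⟩ ⟨t, l2, hd2⟩
    obtain ⟨s, l, hs⟩ := hD
    have h4 : Dir v a b (z * t * c * c) (-(i, j) - (i', j') : Fin 3 × Fin 3).1 (-(i, j) - (i', j') : Fin 3 × Fin 3).2 := by
      rw [mul_assoc (z * t), hcc, mul_one]; exact hd3
    rcases F.eq_of_dir hs h4 with h5 | h5
    · rw [h5]; exact (l.symm h).mem_CC
    · rw [h5]; exact ((l.mul h).symm h).mem_CC

/-- FACT P: the product of two commuting elements of `Z_c`, or its product with `c`, is in `Δ_c` -/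
theorem U10.prod_del (U : U10 Om) (hc : c ∈ CC Om z) (ht : c ∈ CC Om t) (hne : z ≠ t) (hzt : z * t = t * z) :
    DelC Om c z (z * t) ∨ DelC Om c z (z * t * c) := by
  have h := U.w
  have hcz : c * z = z * c := CC.comm_z h hc
  have hct : c * t = t * c := CC.comm_z h ht
  have hz2 : z * z = 1 := (CC.inZ hc).z2 h
  have hzzt : z * (z * t) = z * t * z := by
    rw [← mul_assoc, hz2, one_mul, mul_assoc, ← hzt, ← mul_assoc, hz2, one_mul]
  rcases tcases h (CC.inZ hc) (CC.inZ ht) hne hzt with hp | hp | hp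
  · -- type p: `z t c ∈ Z_c`
    right
    have key : c ∈ CC Om (z * t * c) := by
      obtain ⟨s, l, hst⟩ := hp.exists_line h hc hct.symm
      have lm := l.mul h
      have hn : ¬ TI Om z t := fun h1 => by
        exact fx_sw_false hp.hz (h1.fr h).fx' hp.sw'
      by_cases n2 : TI Om s t
      · exact U.mul_label (l.symm h) (n2.lab h (l.symm h).mem_CC ht) hzt hne hn
      by_cases n3 : TI Om (z * s) t
      · exact U.mul_label (lm.symm h) (n3.lab h (lm.symm h).mem_CC ht) hzt hne hn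
      have m2 : s ≠ t := by rintro rfl; exact hn l.ti
      have m3 : z * s ≠ t := by rintro rfl; exact hn lm.ti
      have hfin : ∀ {s : G}, Lab Om z s c → FT Om s t → c ∈ CC Om (z * t * c) := by
        intro s l hf
        obtain ⟨r, hr, hrt⟩ := l.conj_f h hf hzt.symm
        have hrc : r * c = c * r := (CX_comm hr l.ct).symm
        have h5 := CC.conj h ht r
        rw [hrc, mul_inv_cancel_right, hrt] at h5
        have e : z * t * c = t * (z * c) := by rw [hzt, mul_assoc]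
        rw [e]; exact h5
      rcases l.status h U.ne (CC.inZ ht) hzt hst hn n2 n3 hne m2 m3 with h3 | h3 | h3 | h3
      · exact (hp.not_fr h3.1.fr).elim
      · exact hfin lm h3.2.2
      · exact hfin l h3.2.1
      · exact (hp.not_fr h3.1.fr).elim
    have h1 : z * (z * t * c) = z * t * c * z := by
      calc z * (z * t * c) = z * (z * t) * c := by group
        _ = z * t * z * c := by rw [hzzt]
        _ = z * t * (z * c) := by group
        _ = z * t * (c * z) := by rw [hcz]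
        _ = _ := by group
    exact U.conn hc key h1
  · left
    obtain ⟨r, hr, hrt⟩ := hp.conj_z h
    have hrc : r * c = c * r := (CX_comm hr (CC.mem_CX hc)).symm
    have h5 := CC.conj h ht r
    rw [hrc, mul_inv_cancel_right, hrt] at h5
    exact U.conn hc h5 hzzt
  · left
    exact ((hp.lab h hc ht).mul h).del

/-- **FACT P** -/
theorem U10.factP (U : U10 Om) (hc : c ∈ CC Om z) (ht : c ∈ CC Om t) (hne : z ≠ t) (hzt : z * t = t * z)
    (hgc : g * c = c * g) (hg : g * (z * t) = z * t * g) : g ∈ MC U.w c z := by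
  rcases U.prod_del hc ht hne hzt with h1 | h1
  · exact U.mem_MC_of_comm_del h1 hgc hg
  · refine U.mem_MC_of_comm_del h1 hgc ?_
    rw [← mul_assoc, hg, mul_assoc, hgc, mul_assoc]
    group

end

end Cfsg.Agent.Cit.Nil.RTwo
end

-- part: Cit/Nil/RG/Cnt
section
prune_inst 0x400000
set_option linter.all false
open scoped Cfsg.Agent.FastGrp

/-!
# (6b), general `r`: the count of the blueprint, (9.2) (after helper587's `ROne/Count`)

`Cn Om T b σ K ρ` : `σ` is a permutation of the nonempty finite type `α` of order two without fixed points, `K i`, `i : α`,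
members of `Om`; `K i` commutes with `b (K i) b⁻¹`, and with `K j` and `b (K j) b⁻¹` if `j ≠ i, σ i`;
`b` does not centralise `zz (K i)`; the elements `k * b k b⁻¹`, `k ∈ K i`, are in `T`; `T` acts on `β`, `|β| = |α|`;
the elements `z * b z b⁻¹`, `z = zz (K i)`, act nontrivially.

**`Cn.false`** : this is impossible. The kernel of `Π K i → Sym β`, `i` in a set of representatives, has at most `2 ^ k`
elements, `2 k = m = |α|`, the image is a 2-group with at least `4 ^ k` elements; but `2 ^ m` does not divide `m!`.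
-/

set_option autoImplicit false
set_option linter.style.haveILetI false
set_option linter.unusedSectionVars false

namespace Cfsg.Agent.Cit.Nil.RG

open Subgroup Cfsg Cit

variable {G : Type*} [Group G]

/-- see the head of the file -/
structure Cn {α β : Type*} (Om : Set (Subgroup G)) (T : Subgroup G) (b : G) (σ : α → α) (K : α → Subgroup G)
    (ρ : T →* Equiv.Perm β) : Prop where
  h : WR Om
  mem : ∀ i, K i ∈ Om
  inv : ∀ i, σ (σ i) = i
  ne : ∀ i, σ i ≠ i
  c0 : ∀ i, ∀ x ∈ K i, ∀ y ∈ K i, x * (b * y * b⁻¹) = b * y * b⁻¹ * x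
  c1 : ∀ i j, i ≠ j → σ i ≠ j → ∀ x ∈ K i, ∀ y ∈ K j, x * y = y * x
  c2 : ∀ i j, i ≠ j → σ i ≠ j → ∀ x ∈ K i, ∀ y ∈ K j, x * (b * y * b⁻¹) = b * y * b⁻¹ * x
  mv : ∀ i, b * zz (K i) * b⁻¹ ≠ zz (K i)
  le : ∀ i, ∀ k ∈ K i, k * (b * k * b⁻¹) ∈ T
  card : Nat.card β = Nat.card α
  fx : ∀ x : T, ∀ i, (x : G) = zz (K i) * (b * zz (K i) * b⁻¹) → ρ x ≠ 1

namespace Cn

variable [Finite G] {α β : Type*} [Finite α] {Om : Set (Subgroup G)} {T : Subgroup G} {b : G} {σ : α → α}
  {K : α → Subgroup G} {ρ : T →* Equiv.Perm β}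

/-- the homomorphism `k ↦ k * b k b⁻¹` -/
def ph (c : Cn Om T b σ K ρ) (i : α) : ↥(K i) →* G where
  toFun k := k * (b * k * b⁻¹)
  map_one' := by simp
  map_mul' x y := by
    have h1 := (c.c0 i y y.2 x x.2).symm
    change (x : G) * y * (b * (x * y) * b⁻¹) = x * (b * x * b⁻¹) * (y * (b * y * b⁻¹))
    calc (x : G) * y * (b * (x * y) * b⁻¹) = x * (y * (b * x * b⁻¹)) * (b * y * b⁻¹) := by group
      _ = x * ((b * x * b⁻¹) * y) * (b * y * b⁻¹) := by rw [h1]
      _ = _ := by group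

theorem ph_apply (c : Cn Om T b σ K ρ) (i : α) (k : K i) : c.ph i k = k * (b * k * b⁻¹) := rfl

theorem ph_comm (c : Cn Om T b σ K ρ) {i j : α} (h1 : i ≠ j) (h2 : σ i ≠ j) (x : K i) (y : K j) :
    Commute (c.ph i x) (c.ph j y) := by
  have h3 : σ j ≠ i := fun e => h2 (by rw [← e, c.inv])
  have c1 : Commute (x : G) y := c.c1 i j h1 h2 x x.2 y y.2
  have c2 : Commute (x : G) (b * y * b⁻¹) := c.c2 i j h1 h2 x x.2 y y.2
  have c3 : Commute (b * x * b⁻¹) (y : G) := (c.c2 j i h1.symm h3 y y.2 x x.2).symm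
  have c4 : Commute (b * x * b⁻¹) (b * y * b⁻¹) := by
    have e : (x : G) * y = y * x := c1
    change b * x * b⁻¹ * (b * y * b⁻¹) = b * y * b⁻¹ * (b * x * b⁻¹)
    calc b * x * b⁻¹ * (b * y * b⁻¹) = b * (x * y) * b⁻¹ := by group
      _ = b * (y * x) * b⁻¹ := by rw [e]
      _ = _ := by group
  exact (c1.mul_right c2).mul_left (c3.mul_right c4)

/-! ### The representatives -/

/-- representatives of the orbits of `σ` -/
def Rp (_ : Cn Om T b σ K ρ) : Type _ := {i : α // Finite.equivFin _ i < Finite.equivFin _ (σ i)}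

instance (c : Cn Om T b σ K ρ) : Finite c.Rp :=
  inferInstanceAs (Finite {i : α // Finite.equivFin _ i < Finite.equivFin _ (σ i)})

theorem card_le (c : Cn Om T b σ K ρ) : Nat.card α ≤ 2 * Nat.card c.Rp := by
  have h1 : Function.Surjective (fun x : c.Rp × Bool => if x.2 then x.1.1 else σ x.1.1) := by
    intro i
    rcases lt_trichotomy (Finite.equivFin _ i) (Finite.equivFin _ (σ i)) with h2 | h2 | h2
    · exact ⟨(⟨i, h2⟩, true), rfl⟩
    · exact absurd ((Finite.equivFin _).injective h2).symm (c.ne i)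
    · refine ⟨(⟨σ i, by rw [c.inv]; exact h2⟩, false), ?_⟩
      change σ (σ i) = i
      exact c.inv i
  have h2 := Nat.card_le_card_of_surjective _ h1
  rw [Nat.card_prod, Nat.card_eq_fintype_card (α := Bool), Fintype.card_bool] at h2
  omega

theorem Rp.ne (c : Cn Om T b σ K ρ) {i j : c.Rp} (hij : i ≠ j) : i.1 ≠ j.1 := fun e => hij (Subtype.ext e)

theorem Rp.ne' (c : Cn Om T b σ K ρ) (i j : c.Rp) : σ i.1 ≠ j.1 := by
  intro e
  have h2 := i.2
  have h3 := j.2
  rw [← e, c.inv] at h3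
  exact lt_asymm h2 h3

theorem pairwise (c : Cn Om T b σ K ρ) : Pairwise fun i j : c.Rp => ∀ (x : K i.1) (y : K j.1),
    Commute (c.ph i.1 x) (c.ph j.1 y) := fun i j hij x y => c.ph_comm (Rp.ne c hij) (Rp.ne' c i j) x y

noncomputable instance (c : Cn Om T b σ K ρ) : Fintype c.Rp := Fintype.ofFinite _

/-- the homomorphism `(k_i) ↦ ∏ k_i * b k_i b⁻¹` -/
noncomputable def Ph (c : Cn Om T b σ K ρ) : ((i : c.Rp) → K i.1) →* G :=
  MonoidHom.noncommPiCoprod (fun i => c.ph i.1) c.pairwise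

theorem Ph_mem (c : Cn Om T b σ K ρ) (H : Subgroup G) (f : (i : c.Rp) → K i.1)
    (hf : ∀ i, c.ph i.1 (f i) ∈ H) : c.Ph f ∈ H := by
  rw [Ph, MonoidHom.noncommPiCoprod_apply]
  exact Subgroup.noncommProd_mem H _ fun i _ => hf i

theorem Ph_mem_T (c : Cn Om T b σ K ρ) (f : (i : c.Rp) → K i.1) : c.Ph f ∈ T :=
  c.Ph_mem _ _ fun i => c.le _ _ (f i).2

/-- the action of `Π K i` on `β` -/
noncomputable def ta (c : Cn Om T b σ K ρ) : ((i : c.Rp) → K i.1) →* Equiv.Perm β :=
  ρ.comp (c.Ph.codRestrict T c.Ph_mem_T)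

open Classical in
/-- the kernel -/
theorem eq_of_ta (c : Cn Om T b σ K ρ) {f : (i : c.Rp) → K i.1} (hf : c.ta f = 1) (j : c.Rp) :
    (f j : G) = 1 ∨ (f j : G) = zz (K j.1) := by
  refine c.h.central (c.mem j.1) (f j).2 fun y hy => ?_
  -- the commutator
  obtain ⟨l, hl⟩ : ∃ l : K j.1, l = f j * ⟨y, hy⟩ * (f j)⁻¹ * ⟨y, hy⟩⁻¹ := ⟨_, rfl⟩
  have h1 : f * Pi.mulSingle j ⟨y, hy⟩ * f⁻¹ * (Pi.mulSingle j ⟨y, hy⟩)⁻¹ = Pi.mulSingle j l := by
    funext i
    by_cases hij : i = j
    · subst hij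
      simp [hl]
    · simp [hij]
  have h2 : c.ta (Pi.mulSingle j l) = 1 := by
    rw [← h1, map_mul, map_mul, map_mul, hf, one_mul, map_inv, map_inv, hf, inv_one, mul_one, mul_inv_cancel]
  have h3 : c.Ph (Pi.mulSingle j l) = c.ph j.1 l :=
    MonoidHom.noncommPiCoprod_mulSingle (ϕ := fun i : c.Rp => c.ph i.1) (hcomm := c.pairwise) j l
  have h4 : (l : G) = 1 ∨ (l : G) = zz (K j.1) := by
    have h5 := c.h.conj_cases (c.mem j.1) (f j).2 hy
    have h6 : (l : G) = (f j : G) * y * (f j : G)⁻¹ * y⁻¹ := by rw [hl]; rfl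
    rcases h5 with h5 | h5
    · left; rw [h6, h5, mul_inv_cancel]
    · right; rw [h6, h5, mul_inv_cancel_right]
  rcases h4 with h4 | h4
  · have h6 : (l : G) = (f j : G) * y * (f j : G)⁻¹ * y⁻¹ := by rw [hl]; rfl
    rw [h6] at h4
    exact mul_inv_eq_iff_eq_mul.1 (mul_inv_eq_one.1 h4)
  · exfalso
    refine c.fx ⟨c.Ph (Pi.mulSingle j l), c.Ph_mem_T _⟩ j.1 ?_ h2
    change c.Ph (Pi.mulSingle j l) = _
    rw [h3, c.ph_apply, h4]

/-- the order of the kernel -/
theorem card_ker_le (c : Cn Om T b σ K ρ) : Nat.card c.ta.ker ≤ 2 ^ Nat.card c.Rp := by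
  classical
  have h1 : Function.Injective (fun (f : c.ta.ker) (i : c.Rp) => decide (f.1 i = 1)) := by
    intro f g hfg
    refine Subtype.ext (funext fun i => ?_)
    have hf := c.eq_of_ta ((MonoidHom.mem_ker).1 f.2) i
    have hg := c.eq_of_ta ((MonoidHom.mem_ker).1 g.2) i
    have h2 := congrFun hfg i
    simp only [decide_eq_decide] at h2
    rcases hf with hf | hf
    · have h3 : f.1 i = 1 := Subtype.ext hf
      rw [h3, h2.1 h3]
    · rcases hg with hg | hg
      · have h3 : g.1 i = 1 := Subtype.ext hg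
        rw [h3, h2.2 h3]
      · exact Subtype.ext (hf.trans hg.symm)
  refine (Nat.card_le_card_of_injective _ h1).trans ?_
  rw [Nat.card_fun, Nat.card_eq_fintype_card (α := Bool), Fintype.card_bool]

theorem card_pi (c : Cn Om T b σ K ρ) : Nat.card ((i : c.Rp) → K i.1) = 8 ^ Nat.card c.Rp := by
  rw [Nat.card_pi, Finset.prod_congr rfl (fun (i : c.Rp) _ => c.h.card (c.mem i.1)), Finset.prod_const,
    Finset.card_univ, Nat.card_eq_fintype_card]

theorem isPGroup_range (c : Cn Om T b σ K ρ) : IsPGroup 2 c.ta.range := by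
  haveI : Fact (Nat.Prime 2) := ⟨Nat.prime_two⟩
  have h1 : IsPGroup 2 ((i : c.Rp) → K i.1) := by
    refine IsPGroup.of_card (n := 3 * Nat.card c.Rp) ?_
    rw [c.card_pi, pow_mul]
    norm_num
  exact h1.of_surjective c.ta.rangeRestrict c.ta.rangeRestrict_surjective

/-- `2 ^ m` divides the order of the image -/
theorem two_pow_dvd (c : Cn Om T b σ K ρ) : 2 ^ Nat.card α ∣ Nat.card c.ta.range := by
  classical
  have h1 : Nat.card ((i : c.Rp) → K i.1) = Nat.card c.ta.ker * Nat.card c.ta.range := by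
    rw [← Subgroup.card_mul_index c.ta.ker, Subgroup.index_ker]
  have h2 : 8 ^ Nat.card c.Rp ≤ Nat.card ((i : c.Rp) → K i.1) := c.card_pi.ge
  have h3 := c.card_ker_le
  haveI : Finite c.ta.range := Finite.of_surjective c.ta.rangeRestrict c.ta.rangeRestrict_surjective
  obtain ⟨e, he⟩ := IsPGroup.iff_card.1 c.isPGroup_range
  rw [he]
  refine pow_dvd_pow 2 ?_
  by_contra hlt
  rw [not_le] at hlt
  have h4 := c.card_le
  have h5 : 2 ^ e < 4 ^ Nat.card c.Rp := by
    have h6 : (4 : ℕ) ^ Nat.card c.Rp = 2 ^ (2 * Nat.card c.Rp) := by rw [pow_mul]; norm_num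
    rw [h6]
    exact Nat.pow_lt_pow_right (by norm_num) (by omega)
  rw [h1, he] at h2
  have h7 : (8 : ℕ) ^ Nat.card c.Rp = 2 ^ Nat.card c.Rp * 4 ^ Nat.card c.Rp := by rw [← mul_pow]; norm_num
  rw [h7] at h2
  have h8 : 0 < 2 ^ Nat.card c.Rp := by positivity
  have h9 : Nat.card c.ta.ker * 2 ^ e < 2 ^ Nat.card c.Rp * 4 ^ Nat.card c.Rp := by
    calc Nat.card c.ta.ker * 2 ^ e ≤ 2 ^ Nat.card c.Rp * 2 ^ e := Nat.mul_le_mul_right _ h3
      _ < 2 ^ Nat.card c.Rp * 4 ^ Nat.card c.Rp := Nat.mul_lt_mul_of_pos_left h5 h8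
  exact absurd h2 (not_le.2 h9)

/-- **the count** -/
protected theorem false [Nonempty α] (c : Cn Om T b σ K ρ) : False := by
  have hm : Nat.card α ≠ 0 := Nat.card_pos.ne'
  haveI : Finite β := by
    have h1 : Nat.card β ≠ 0 := by rw [c.card]; exact hm
    exact (Nat.card_pos_iff.1 (Nat.pos_of_ne_zero h1)).2
  have h1 : Nat.card c.ta.range ∣ Nat.card (Equiv.Perm β) := Subgroup.card_subgroup_dvd_card _
  rw [Nat.card_perm, c.card] at h1
  have h2 := c.two_pow_dvd.trans h1
  have h3 := Nat.emultiplicity_two_factorial_lt hm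
  exact absurd (le_emultiplicity_of_pow_dvd h2) (not_le.2 h3)

end Cn

end Cfsg.Agent.Cit.Nil.RG

private theorem dce_0ae5e969e83f : _root_.True := by
  try have : _root_.True := by simp only [_root_.Cfsg.Agent.Cit.Nil.RG.Cn.Rp.congr_simp]
  try have : _root_.True := by simp only [_root_.Cfsg.Agent.Cit.Nil.RG.Cn.Ph.eq_1]
  exact _root_.True.intro
end

-- part: Cit/Nil/RTwo/BThree
section
set_option linter.all false
open scoped Cfsg.Agent.FastGrp

/-!
# (b3) of helper386's (M2), `r = 2` (bb R18 #20410), in an abstract world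

`BTh Om z` : two commuting type I partners of `z` whose product is a third one.

* `SW.bth` : world (S): from a plane;
* `AW.bth` : world (A) without `PTwo`; `AW.bth_eps` : world (A) with `EqEps`.
-/

set_option autoImplicit false
set_option linter.style.haveILetI false
set_option linter.unusedSectionVars false

namespace Cfsg.Agent.Cit.Nil.RTwo

open Subgroup Cfsg Cit

variable {G : Type*} [Group G]

/-- two commuting type I partners of `z` whose product is a third one -/
structure BThX (Om : Set (Subgroup G)) (z s t : G) : Prop where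
  ts : TI Om z s
  tt : TI Om z t
  st : TI Om z (s * t)
  comm : s * t = t * s
  fx : Fx Om s t

/-- two commuting type I partners of `z` whose product is a third one -/
def BTh (Om : Set (Subgroup G)) (z : G) : Prop := ∃ s t, BThX Om z s t

section

variable [Finite G] {Om : Set (Subgroup G)} {K K1 K2 L M L1 L2 W : Subgroup G} {z t u v g r s x y w c c' d : G}
  {a b : Fin 3 → G}

/-- world (S) -/
theorem SW.bth (S : SW Om) (hz : InZ Om z) : BTh Om z := by
  have h := S.w
  obtain ⟨c0, c1, c2, hc, -⟩ := S.three z hz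
  have h0 : c0 ∈ CC Om z := by rw [hc]; exact Set.mem_insert _ _
  obtain ⟨t, l⟩ := h0
  obtain ⟨W, P, hzW, htW⟩ := S.exists_plane l
  obtain ⟨s, hs, s1, sz, st, szt⟩ := exists_not_mem P.card z t
  have hz1 : z ≠ 1 := hz.z1 h
  have t1 : t ≠ 1 := l.ti.2.1.z1 h
  have tz : t ≠ z := l.ne_zt.symm
  have I := P.ind h hzW htW hs hz1 t1 tz s1 sz st szt
  have ts1 : t * s ≠ 1 := fun e => st (by
    have := eq_inv_of_mul_eq_one_right e
    rw [inv_eq_of_mul_eq_one_right I.t2] at this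
    exact this)
  have zts : z ≠ t * s := by
    intro e
    apply szt
    rw [e]
    calc s = (t * t) * s := by rw [I.t2, one_mul]
      _ = t * (t * s) := mul_assoc _ _ _
      _ = t * (s * t) := by rw [P.comm htW hs]
      _ = t * s * t := (mul_assoc _ _ _).symm
  refine ⟨t, s, P.ti z hzW t htW hz1 t1 tz.symm, P.ti z hzW s hs hz1 s1 (Ne.symm sz),
    P.ti z hzW _ (mul_mem htW hs) hz1 ts1 zts, P.comm htW hs, ?_⟩
  exact (P.ti t htW s hs t1 s1 (Ne.symm st)).2.2.2.2.fx h

/-- world (A), all lines are of type f -/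
theorem AW.bth (W : AW Om) (hF : ∀ s, TI Om z s → ¬ PTwo Om z s) (hz : InZ Om z) : BTh Om z := by
  have h := W.w
  obtain ⟨K1, K2, a, b, D⟩ := W.dg z hz
  have h0 : TI Om z (a 0 * b 0) := (D.ti _).2 ⟨0, Or.inl rfl⟩
  have h1 : TI Om z (a 1 * b 1) := (D.ti _).2 ⟨1, Or.inl rfl⟩
  have h2 : TI Om z (a 2 * b 2) := (D.ti _).2 ⟨2, Or.inl rfl⟩
  have e : a 0 * b 0 * (a 1 * b 1) = a 2 * b 2 := D.w_mul h 0
  have hc := W.ti_comm h0 h1
  refine ⟨_, _, h0, h1, by rw [e]; exact h2, hc, ?_⟩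
  have n1 : a 1 * b 1 ≠ a 0 * b 0 := by
    intro e1
    rw [e1, D.w_sq h] at e
    exact h2.2.1.z1 h e.symm
  have n2 : a 1 * b 1 ≠ z * (a 0 * b 0) := by
    intro e1
    have e2 : a 0 * b 0 * (z * (a 0 * b 0)) = z := by
      have e3 := D.w_z h 0
      calc a 0 * b 0 * (z * (a 0 * b 0)) = (a 0 * b 0 * z) * (a 0 * b 0) := by group
        _ = z * (a 0 * b 0 * (a 0 * b 0)) := by rw [e3]; group
        _ = z := by rw [D.w_sq h, mul_one]
    rw [e1, e2] at e
    exact h2.2.2.1 e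
  rcases fx_or_sw h h0.2.1 hc.symm with h3 | h3
  · exact h3
  · exact absurd ((W.sw_iff h0 h1 n1 n2).1 h3) (hF _ h0)

/-- `EqEps` excludes `PTwo` on commuting points -/
theorem EqEps.not_pTwo (he : EqEps Om) (h : W2 Om) (hz : InZ Om z) (ht : InZ Om t) (hc : z * t = t * z) :
    ¬ PTwo Om z t := by
  rintro ⟨r, hr, hrt, hsw⟩
  have h1 : r * z = z * r := RZ_le_centralizer h hr
  exact fx_sw_false hz ((Inn.of_RZ hz h hr).fx h)
    ((he z t r hz ht hc h1 hrt (isPGroup_zpowers (isPGroup_RZ h hz) hr)).2 hsw)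

/-- world (A) with `EqEps` -/
theorem AW.bth_eps (W : AW Om) (he : EqEps Om) (hz : InZ Om z) : BTh Om z :=
  W.bth (fun _ hs => he.not_pTwo W.w hz hs.2.1 hs.2.2.2.1) hz

end

end Cfsg.Agent.Cit.Nil.RTwo
end

-- part: Cit/Nil/RTwo/ThmOne
section
set_option linter.all false
open scoped Cfsg.Agent.FastGrp

/-!
# THEOREM 1 (section 3 of the blueprint)

* `CaseS Om z a b c0 c1 c2` : the case (S);
* `thm_one` : all translations are in `D0` (cases (A), (U)) or `CaseS`.
-/

set_option autoImplicit false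
set_option linter.style.haveILetI false
set_option linter.unusedSectionVars false
set_option maxHeartbeats 400000

namespace Cfsg.Agent.Cit.Nil.RTwo

open Subgroup Cfsg Cit

variable {G : Type*} [Group G]

/-- the case (S) -/
structure CaseS (Om : Set (Subgroup G)) (z : G) (a b : Fin 3 → G) (c0 c1 c2 : G) : Prop where
  cc : CC Om z = {c0, c1, c2}
  n01 : c0 ≠ c1
  n02 : c0 ≠ c2
  n12 : c1 ≠ c2
  mul : c0 * c1 * c2 = z
  cen : ∀ c ∈ CC Om z, ∀ x ∈ CX Om z, x * c = c * x
  ex : ∃ g v, Tra z a b g v ∧ g * c0 * g⁻¹ = c1 ∧ g * c1 * g⁻¹ = c2 ∧ g * c2 * g⁻¹ = c0 ∧ v ∉ D0 Om z a b ∧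
    ∀ g' v', Tra z a b g' v' → v' ∈ D0 Om z a b ∨ v' - v ∈ D0 Om z a b ∨ v' + v ∈ D0 Om z a b

section

variable [Finite G] {Om : Set (Subgroup G)} {K K1 K2 L L1 L2 : Subgroup G} {z t g g' x y w c c' u : G}
  {a b : Fin 3 → G} {v v' : Fin 3 × Fin 3}

/-- Z* in `X_z`: an involution of `X_z` central in the Sylow 2-subgroup `T` and weakly closed in `T` is central -/
theorem cent_of_weak (h : W2 Om) (hF : CF Om) (hz : InZ Om z) {T : Subgroup G} (hT : Syl T (CX Om z))
    (hu : u ∈ CX Om z) (hu2 : u * u = 1) (hu1 : u ≠ 1) (huT : ∀ s ∈ T, s * u = u * s)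
    (hw : ∀ x ∈ CX Om z, x * u * x⁻¹ ∈ T → x * u * x⁻¹ = u) : ∀ x ∈ CX Om z, x * u = u * x := by
  rcases zstar_sub hu hu2 hu1 with ⟨y, hy, h1, h2⟩ | ⟨N, hN, ho, hn, hc⟩
  · exfalso
    apply h1
    -- `u' = y u y⁻¹` is conjugate in `C_X(u)` into `T`
    have hTu : T ≤ CX Om z ⊓ centralizer {u} :=
      le_inf hT.1 (fun s hs => mem_centralizer_singleton_iff.2 (huT s hs))
    have hS : Syl T (CX Om z ⊓ centralizer {u}) := LB.syl_of_le hT hTu inf_le_left
    have hu' : y * u * y⁻¹ ∈ CX Om z ⊓ centralizer {u} :=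
      ⟨(CX Om z).mul_mem ((CX Om z).mul_mem hy hu) ((CX Om z).inv_mem hy), mem_centralizer_singleton_iff.2 h2.symm⟩
    have hsq : y * u * y⁻¹ * (y * u * y⁻¹) = 1 := by
      calc y * u * y⁻¹ * (y * u * y⁻¹) = y * (u * u) * y⁻¹ := by group
        _ = 1 := by rw [hu2]; group
    obtain ⟨n, ⟨hnX, hnu⟩, h3⟩ := LB.exists_conj_mem hS hu' (isPGroup_zpowers_of_sq hsq)
    have e : n * (y * u * y⁻¹) * n⁻¹ = (n * y) * u * (n * y)⁻¹ := by group
    rw [e] at h3
    have h4 := hw _ (mul_mem hnX hy) h3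
    rw [← e] at h4
    have h5 : n * u = u * n := mem_centralizer_singleton_iff.1 hnu
    calc y * u * y⁻¹ = n⁻¹ * (n * (y * u * y⁻¹) * n⁻¹) * n := by group
      _ = n⁻¹ * (u * n) := by rw [h4, mul_assoc]
      _ = u := by rw [← h5]; group
  · have h1 : N = ⊥ := by
      refine CX_odd h hF hz hN ?_ ?_
      · intro x hx
        rw [mem_normalizer_iff]
        intro n
        constructor
        · exact fun hn' => hn x hx n hn'
        · intro hn'
          have h2 := hn x⁻¹ (inv_mem hx) _ hn'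
          have e : x⁻¹ * (x * n * x⁻¹) * x⁻¹⁻¹ = n := by group
          rwa [e] at h2
      · intro h2
        exact (Nat.not_even_iff_odd.2 ho) (even_iff_two_dvd.2 h2)
    intro x hx
    have h2 := hc x hx
    rw [h1, mem_bot] at h2
    rw [mul_inv_eq_one, mul_inv_eq_iff_eq_mul] at h2
    exact h2.symm

/-- **THEOREM 1** -/
theorem thm_one (h : W2 Om) (hF : CF Om) (F : Frame Om z K1 K2 a b) (hn : (CC Om z).Nonempty) :
    (∀ g v, Tra z a b g v → v ∈ D0 Om z a b) ∨ ∃ c0 c1 c2, CaseS Om z a b c0 c1 c2 := by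
  by_cases hU : ∀ g v, Tra z a b g v → v ∈ D0 Om z a b
  · exact Or.inl hU
  right
  push Not at hU
  obtain ⟨g, v, hg, hv⟩ := hU
  have hz := F.k1.inZ
  have hz2 := hz.z2 h
  obtain ⟨T, hT⟩ := Hyp.exists_syl (CX Om z)
  have hzT := z_mem_of_syl h hz hT
  obtain ⟨c0, hc0, hc0T, hc0'⟩ := CC.exists_comm_of h hT hT.2.1 (fun s hs => CX_le hz h (hT.1 hs))
    (fun s hs => mem_normalizer_iff_cj.1 (le_normalizer hs)) hn
  -- Frattini
  obtain ⟨d, hd, hdT⟩ : ∃ d, Tra z a b d v ∧ cj d T = T := by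
    have h1 : Syl (cj g T) (CX Om z) := by
      have := hT.cj g
      rwa [cj_CX h hg.comm] at this
    obtain ⟨x, hx, h2⟩ := h1.exists_conj hT
    refine ⟨x * g, ?_, by rw [cj_mul, h2]⟩
    have := hg.mul hz2 (Tra.of_CX h F hx)
    rwa [add_zero] at this
  obtain ⟨c1, hc1e⟩ : ∃ c1, c1 = d * c0 * d⁻¹ := ⟨_, rfl⟩
  have hc1 : c1 ∈ CC Om z := by rw [hc1e]; exact CC.conj_comm h hc0 hd.comm
  have hc1T : c1 ∈ T := by
    rw [hc1e, ← hdT]; exact conj_mem_cj hc0T
  have hc1' : ∀ s ∈ T, s * c1 = c1 * s := by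
    intro s hs
    have h1 : d⁻¹ * s * d ∈ T := by rw [← mem_cj, hdT]; exact hs
    have h2 := hc0' _ h1
    rw [hc1e]
    calc s * (d * c0 * d⁻¹) = d * ((d⁻¹ * s * d) * c0) * d⁻¹ := by group
      _ = d * (c0 * (d⁻¹ * s * d)) * d⁻¹ := by rw [h2]
      _ = _ := by group
  have h01 : c0 * c1 = c1 * c0 := hc1' c0 hc0T
  obtain ⟨p0, hp0⟩ := CC.exists_dir h F hc0
  have hp1 : p0 + v ∈ DC Om z a b c1 := by rw [hc1e]; exact hd.dc h F hp0
  have hneg : ∀ {w : Fin 3 × Fin 3}, -w ∈ D0 Om z a b → w ∈ D0 Om z a b := by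
    intro w hw
    have := D0.neg hw
    rwa [neg_neg] at this
  have hvv : v + v = -v := by
    have key : ∀ v : Fin 3 × Fin 3, v + v = -v := by decide
    exact key v
  have n01 : c0 ≠ c1 := by
    intro e
    rw [← e] at hp1
    exact hv ((D0.iff h F hp0).2 hp1)
  obtain ⟨c2, hc2e⟩ : ∃ c2, c2 = z * c0 * c1 := ⟨_, rfl⟩
  have hc2 : c2 ∈ CC Om z := by rw [hc2e]; exact CC.third h F hc0 hc1 h01 n01
  have hc2T : c2 ∈ T := by rw [hc2e]; exact T.mul_mem (T.mul_mem hzT hc0T) hc1T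
  have hc2' : ∀ s ∈ T, s * c2 = c2 * s := by
    intro s hs
    have e1 : Commute s z := CX_le hz h (hT.1 hs)
    have e2 : Commute s c0 := hc0' s hs
    have e3 : Commute s c1 := hc1' s hs
    rw [hc2e]
    exact ((e1.mul_right e2).mul_right e3).eq
  have hp2 : p0 - v ∈ DC Om z a b c2 := by
    have h1 := DC.third h F hp0 hp1 h01 n01
    have key : ∀ p v : Fin 3 × Fin 3, -p - (p + v) = p - v := by decide
    rw [key, ← hc2e] at h1
    exact h1
  -- the sets `DC` are disjoint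
  have hsub : ∀ {c : G} {p q : Fin 3 × Fin 3}, p ∈ DC Om z a b c → q ∈ DC Om z a b c → q - p ∈ D0 Om z a b :=
    fun hp hq => D0.sub_mem hp hq
  have disj : ∀ {p : Fin 3 × Fin 3}, ¬ (p ∈ DC Om z a b c0 ∧ p ∈ DC Om z a b c1) ∧
      ¬ (p ∈ DC Om z a b c0 ∧ p ∈ DC Om z a b c2) ∧ ¬ (p ∈ DC Om z a b c1 ∧ p ∈ DC Om z a b c2) := by
    intro p
    refine ⟨fun ⟨h1, h2⟩ => hv ?_, fun ⟨h1, h2⟩ => hv ?_, fun ⟨h1, h2⟩ => hv ?_⟩
    · have h3 := D0.add h F (hsub h1 hp0) (hsub hp1 h2)
      have e : p0 - p + (p - (p0 + v)) = -v := by abel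
      rw [e] at h3
      exact hneg h3
    · have h3 := D0.add h F (hsub h1 hp0) (hsub hp2 h2)
      have e : p0 - p + (p - (p0 - v)) = v := by abel
      rwa [e] at h3
    · have h3 := D0.add h F (hsub h1 hp1) (hsub hp2 h2)
      have e : p0 + v - p + (p - (p0 - v)) = v + v := by abel
      rw [e, hvv] at h3
      exact hneg h3
  have n02 : c0 ≠ c2 := by
    rintro e
    exact (disj (p := p0)).2.1 ⟨hp0, e ▸ hp0⟩
  have n12 : c1 ≠ c2 := by
    rintro e
    exact (disj (p := p0 + v)).2.2 ⟨hp1, e ▸ hp1⟩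
  -- `CC ∩ T`
  have hall : ∀ c ∈ CC Om z, c ∈ T → c = c0 ∨ c = c1 ∨ c = c2 := by
    intro c hc hcT
    by_cases e0 : c = c0
    · exact Or.inl e0
    by_cases e1 : c = c1
    · exact Or.inr (Or.inl e1)
    · right; right
      rw [hc2e]
      exact CC.eq_three h hc0 hc1 hc h01 (hc0' c hcT).symm (hc1' c hcT).symm n01 (Ne.symm e0) (Ne.symm e1)
  -- weak closure
  have hweak : ∀ c ∈ CC Om z, c ∈ T → ∀ x ∈ CX Om z, x * c * x⁻¹ ∈ T → x * c * x⁻¹ = c := by
    intro c hc hcT x hx h1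
    have h2 : x * c * x⁻¹ ∈ CC Om z := CC.conj_comm h hc (CX_le hz h hx)
    have h3 := hall _ h2 h1
    have h4 : ∀ {p : Fin 3 × Fin 3}, p ∈ DC Om z a b c → p ∈ DC Om z a b (x * c * x⁻¹) :=
      fun hp => DC.conj_CX h F hp hx
    rcases hall c hc hcT with rfl | rfl | rfl
    · rcases h3 with h3 | h3 | h3
      · exact h3
      · exact absurd ⟨hp0, h3 ▸ h4 hp0⟩ disj.1
      · exact absurd ⟨hp0, h3 ▸ h4 hp0⟩ disj.2.1
    · rcases h3 with h3 | h3 | h3
      · exact absurd ⟨h3 ▸ h4 hp1, hp1⟩ disj.1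
      · exact h3
      · exact absurd ⟨hp1, h3 ▸ h4 hp1⟩ disj.2.2
    · rcases h3 with h3 | h3 | h3
      · exact absurd ⟨h3 ▸ h4 hp2, hp2⟩ disj.2.1
      · exact absurd ⟨h3 ▸ h4 hp2, hp2⟩ disj.2.2
      · exact h3
  have hne1 : ∀ c ∈ CC Om z, c ≠ 1 := by
    rintro c hc rfl
    exact n01 ((CC.eq_one h hc hc0).trans (CC.eq_one h hc hc1).symm)
  have hcent : ∀ c ∈ CC Om z, c ∈ T → (∀ s ∈ T, s * c = c * s) → ∀ x ∈ CX Om z, x * c = c * x :=
    fun c hc hcT hcs => cent_of_weak h hF hz hT (CC.mem_CX hc) (CC.sq hc) (hne1 c hc) hcs (hweak c hc hcT)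
  have cen0 := hcent c0 hc0 hc0T hc0'
  have cen1 := hcent c1 hc1 hc1T hc1'
  have cen2 := hcent c2 hc2 hc2T hc2'
  have hcc : ∀ c ∈ CC Om z, c = c0 ∨ c = c1 ∨ c = c2 := by
    intro c hc
    obtain ⟨x, hx, h1, h2⟩ := CC.exists_conj h hT hc
    have h3 : ∀ d ∈ CC Om z, (∀ x ∈ CX Om z, x * d = d * x) → x * c * x⁻¹ = d → c = d := by
      intro d _ hd1 hd2
      have h4 : c = x⁻¹ * d * x := by rw [← hd2]; group
      rw [h4, mul_assoc, ← hd1 x hx]; group
    rcases hall _ h1 h2 with h4 | h4 | h4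
    · exact Or.inl (h3 c0 hc0 cen0 h4)
    · exact Or.inr (Or.inl (h3 c1 hc1 cen1 h4))
    · exact Or.inr (Or.inr (h3 c2 hc2 cen2 h4))
  have hd1 : d * c1 * d⁻¹ = c2 := by
    have h1 : p0 - v ∈ DC Om z a b (d * c1 * d⁻¹) := by
      have h2 := hd.dc h F hp1
      have e : p0 + v + v = p0 - v := by rw [add_assoc, hvv, sub_eq_add_neg]
      rwa [e] at h2
    rcases hcc _ (CC.conj_comm h hc1 hd.comm) with h2 | h2 | h2
    · exact absurd ⟨h2 ▸ h1, hp2⟩ disj.2.1
    · exact absurd ⟨h2 ▸ h1, hp2⟩ disj.2.2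
    · exact h2
  have hd2 : d * c2 * d⁻¹ = c0 := by
    have h1 : p0 ∈ DC Om z a b (d * c2 * d⁻¹) := by
      have h2 := hd.dc h F hp2
      rwa [sub_add_cancel] at h2
    rcases hcc _ (CC.conj_comm h hc2 hd.comm) with h2 | h2 | h2
    · exact h2
    · exact absurd ⟨hp0, h2 ▸ h1⟩ disj.1
    · exact absurd ⟨hp0, h2 ▸ h1⟩ disj.2.1
  refine ⟨c0, c1, c2, ?_, n01, n02, n12, ?_, ?_, d, v, hd, hc1e.symm, hd1, hd2, hv, ?_⟩
  · ext c
    simp only [Set.mem_insert_iff, Set.mem_singleton_iff]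
    constructor
    · exact hcc c
    · rintro (rfl | rfl | rfl)
      · exact hc0
      · exact hc1
      · exact hc2
  · rw [hc2e]
    have hz0 := CC.comm_z h hc0
    have hz1 := CC.comm_z h hc1
    calc c0 * c1 * (z * c0 * c1) = c0 * (c1 * z) * c0 * c1 := by group
      _ = (c0 * z) * (c1 * c0) * c1 := by rw [hz1]; group
      _ = z * (c0 * c0) * (c1 * c1) := by rw [hz0, ← h01]; group
      _ = z := by rw [CC.sq hc0, CC.sq hc1, mul_one, mul_one]
  · intro c hc
    rcases hcc c hc with rfl | rfl | rfl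
    · exact cen0
    · exact cen1
    · exact cen2
  · intro g' v' hg'
    have h1 := hg'.dc h F hp0
    rcases hcc _ (CC.conj_comm h hc0 hg'.comm) with h2 | h2 | h2 <;> rw [h2] at h1
    · exact Or.inl ((D0.iff h F hp0).2 h1)
    · right; left
      have h3 := hsub hp1 h1
      have e : p0 + v' - (p0 + v) = v' - v := by abel
      rwa [e] at h3
    · right; right
      have h3 := hsub hp2 h1
      have e : p0 + v' - (p0 - v) = v' + v := by abel
      rwa [e] at h3

/-- (A) or the labels are non-trivial -/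
theorem CC.eq_singleton (h : W2 Om) (h1 : (1 : G) ∈ CC Om z) : CC Om z = {1} := by
  ext c
  rw [Set.mem_singleton_iff]
  exact ⟨fun hc => CC.eq_one h h1 hc, fun hc => by rw [hc]; exact h1⟩

end

end Cfsg.Agent.Cit.Nil.RTwo
end

-- part: Cit/Nil/RTwo/SLEnd
section
prune_inst 0x4001008005100000000180012800024400000000000030001f1000502010e10408002260148200d00000288402004006013180440001000000000000040240729100242001340000421000080b003180c00000000000000000000000000041000200400000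
set_option linter.all false
open scoped Cfsg.Agent.FastGrp

/-!
# (3.2): a translation of weight one centralising `X_z` gives `SL(2,3)` subnormal in `C(z)`

* `SLSub z` : a subnormal subgroup of `C(z)` containing `z`, isomorphic to `SL(2,3)`;
* `sl_end` (3.2), `sl_end_of_DC`.
-/

set_option autoImplicit false
set_option linter.style.haveILetI false
set_option linter.unusedSectionVars false
set_option maxHeartbeats 400000

namespace Cfsg.Agent.Cit.Nil.RTwo

open Subgroup Cfsg Cit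

variable {G : Type*} [Group G]

/-- the exit: `SL(2,3)` subnormal in `C(z)` -/
def SLSub (z : G) : Prop :=
  ∃ J : Subgroup G, J ≤ centralizer {z} ∧ z ∈ J ∧ (J.subgroupOf (centralizer {z})).IsSubnormal ∧
    Nonempty (J ≃* Matrix.SpecialLinearGroup (Fin 2) (ZMod 3))

theorem subnStep {J M C : Subgroup G} (hJM : J ≤ M) (hM : (M.subgroupOf C).IsSubnormal)
    (hn : ∀ m ∈ M, ∀ j ∈ J, m * j * m⁻¹ ∈ J) : (J.subgroupOf C).IsSubnormal := by
  refine Subgroup.IsSubnormal.step _ (M.subgroupOf C) (fun x hx => hJM hx) hM ⟨?_⟩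
  rintro ⟨⟨j, hjC⟩, hjM⟩ hj ⟨⟨m, hmC⟩, hmM⟩
  exact hn m hmM j hj

/-- a 3-element commutes with `k` if its square does -/
theorem comm_of_sq {d k : G} (hd : ∃ n : ℕ, d ^ 3 ^ n = 1) (h : d * d * k = k * (d * d)) : d * k = k * d := by
  obtain ⟨n, hn⟩ := hd
  have hodd : Odd (3 ^ n) := Odd.pow (by decide)
  obtain ⟨m, hm⟩ := hodd
  have h1 : (d * d) ^ (m + 1) = d := by
    rw [← pow_two, ← pow_mul]
    have e : 2 * (m + 1) = 3 ^ n + 1 := by omega
    rw [e, pow_succ, hn, one_mul]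
  have h2 : Commute (d * d) k := h
  have h3 := h2.pow_left (m + 1)
  rw [h1] at h3
  exact h3.eq

/-- a 3-element acting as an inner automorphism centralises -/
theorem comm_of_inn {d k z : G} (hz : z * z = 1) (hd : ∃ n : ℕ, d ^ 3 ^ n = 1) (hdz : d * z = z * d)
    (h : d * k * d⁻¹ = k ∨ d * k * d⁻¹ = z * k) : d * k = k * d := by
  apply comm_of_sq hd
  have h1 : d * (d * k * d⁻¹) * d⁻¹ = k := by
    rcases h with h | h
    · rw [h, h]
    · rw [h]
      calc d * (z * k) * d⁻¹ = (d * z) * k * d⁻¹ := by group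
        _ = z * (d * k * d⁻¹) := by rw [hdz]; group
        _ = k := by rw [h, ← mul_assoc, hz, one_mul]
  calc d * d * k = (d * (d * k * d⁻¹) * d⁻¹) * (d * d) := by group
    _ = _ := by rw [h1]

section

variable [Finite G] {Om : Set (Subgroup G)} {K K1 K2 L L1 L2 : Subgroup G} {z t g g' x y w c c' u d : G}
  {a b : Fin 3 → G} {v v' : Fin 3 × Fin 3}

theorem idx_key : ∀ i : Fin 3, -(0 : Fin 3) - i = i + i := by decide

theorem mul_idx (Q : Q3 K z a) {i j : Fin 3} (hij : i ≠ j) :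
    a i * a j = a (-i - j) ∨ a i * a j = z * a (-i - j) := by
  rcases i_cases hij with rfl | rfl
  · left
    have e : -i - (i + 1) = i + 2 := by revert i; decide
    rw [Q.mul, e]
  · right
    have e : -i - (i + 2) = i + 1 := by revert i; decide
    rw [Q.mul2', e]

/-- the isomorphism type of `K1⟨d⟩` -/
theorem sl_iso (Q : Q3 K z a) {i : Fin 3} (hi : i ≠ 0) (hdz : d * z = z * d)
    (hd : Act z a a d (Equiv.addRight i)) (hd3 : d ^ 3 = 1) :
    Nonempty ((K ⊔ zpowers d : Subgroup G) ≃* Matrix.SpecialLinearGroup (Fin 2) (ZMod 3)) := by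
  have hz2 := Q.z2
  have hzz := Q.zzx
  have hzd : ∀ u : G, d * (z * u) * d⁻¹ = z * (d * u * d⁻¹) := by
    intro u
    calc d * (z * u) * d⁻¹ = (d * z) * u * d⁻¹ := by group
      _ = (z * d) * u * d⁻¹ := by rw [hdz]
      _ = _ := by group
  have hzc : ∀ k ∈ K, z * k = k * z := fun k hk => Q.zcomm hk
  have hzcube : d * (d * (d * a 0 * d⁻¹) * d⁻¹) * d⁻¹ = a 0 := by
    have : d * (d * (d * a 0 * d⁻¹) * d⁻¹) * d⁻¹ = d ^ 3 * a 0 * (d ^ 3)⁻¹ := by
      simp only [pow_succ, pow_zero, one_mul]; group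
    rw [this, hd3]; group
  -- the three elements
  have hKd : ∀ k ∈ K, d * k * d⁻¹ ∈ K := by
    intro k hk
    rcases Q.cov k hk with rfl | rfl | ⟨j, rfl | rfl⟩
    · rw [mul_one, mul_inv_cancel]; exact one_mem K
    · rw [hdz, mul_inv_cancel_right]; exact Q.zmem
    · rcases hd j with h1 | h1 <;> rw [h1]
      · exact Q.mem _
      · exact K.mul_mem Q.zmem (Q.mem _)
    · rw [hzd]
      rcases hd j with h1 | h1 <;> rw [h1]
      · exact K.mul_mem Q.zmem (Q.mem _)
      · exact K.mul_mem Q.zmem (K.mul_mem Q.zmem (Q.mem _))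
  have hsq : ∀ k, k * k = z → (d * k * d⁻¹) * (d * k * d⁻¹) = z := by
    intro k hk
    calc (d * k * d⁻¹) * (d * k * d⁻¹) = d * (k * k) * d⁻¹ := by group
      _ = z := by rw [hk, hdz, mul_inv_cancel_right]
  obtain ⟨j', hj'⟩ : ∃ j', j' = d * a 0 * d⁻¹ := ⟨_, rfl⟩
  obtain ⟨k', hk'⟩ : ∃ k', k' = d * j' * d⁻¹ := ⟨_, rfl⟩
  have hj'K : j' ∈ K := by rw [hj']; exact hKd _ (Q.mem 0)
  have hk'K : k' ∈ K := by rw [hk']; exact hKd _ hj'K
  have hj'2 : j' * j' = z := by rw [hj']; exact hsq _ (Q.sq 0)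
  have hk'2 : k' * k' = z := by rw [hk']; exact hsq _ hj'2
  have hk'i : d * k' * d⁻¹ = a 0 := by rw [hk', hj']; exact hzcube
  have hj'i : j' = a i ∨ j' = z * a i := by
    have := hd 0
    rw [← hj'] at this
    simpa using this
  have hk'i2 : k' = a (i + i) ∨ k' = z * a (i + i) := by
    have h1 := hd i
    have e : (Equiv.addRight i) i = i + i := rfl
    rw [e] at h1
    rw [hk']
    rcases hj'i with h2 | h2
    · rw [h2]; exact h1
    · rw [h2, hzd]
      rcases h1 with h1 | h1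
      · right; rw [h1]
      · left; rw [h1, hzz]
  -- `a 0 * j' = k'` or `z k'`
  have hprod : a 0 * j' = k' ∨ a 0 * j' = z * k' := by
    have h1 := mul_idx Q (Ne.symm hi)
    have e : -(0 : Fin 3) - i = i + i := idx_key i
    rw [e] at h1
    have h2 : a 0 * j' = a 0 * a i ∨ a 0 * j' = z * (a 0 * a i) := by
      rcases hj'i with h2 | h2
      · left; rw [h2]
      · right; rw [h2, ← mul_assoc, ← Q.zc, mul_assoc]
    have h3 : a 0 * j' = a (i + i) ∨ a 0 * j' = z * a (i + i) := by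
      rcases h1 with h1 | h1 <;> rcases h2 with h2 | h2 <;> rw [h2, h1]
      · left; rfl
      · right; rfl
      · right; rfl
      · left; rw [hzz]
    rcases h3 with h3 | h3 <;> rcases hk'i2 with h4 | h4 <;> rw [h3, h4]
    · left; rfl
    · right; rw [hzz]
    · right; rfl
    · left; rfl
  have hne : a 0 * j' ≠ j' * a 0 := by
    intro e
    have h1 := Q.anti (Ne.symm hi)
    rcases hj'i with h2 | h2
    · rw [h2] at e
      rw [e, mul_assoc] at h1
      exact Q.z1 (mul_eq_right.1 h1.symm)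
    · rw [h2, ← mul_assoc, ← Q.zc, mul_assoc, mul_assoc] at e
      rw [mul_left_cancel e, mul_assoc] at h1
      exact Q.z1 (mul_eq_right.1 h1.symm)
  -- relations
  obtain ⟨i1, j1, hi1, hj1, hi12, hj12, hgen, hrel⟩ : ∃ i1 j1, i1 ∈ K ∧ j1 ∈ K ∧ i1 * i1 = z ∧ j1 * j1 = z ∧
      K ≤ closure {i1, j1, d} ∧ Transfer.SL23Recog.SLRel i1 j1 d := by
    have main : ∀ i1 j1 : G, i1 ∈ K → j1 ∈ K → i1 * i1 = z → j1 * j1 = z → i1 * j1 ≠ j1 * i1 →
        d * i1 * d⁻¹ = j1 → d * j1 * d⁻¹ = i1 * j1 → i1 ∈ K ∧ j1 ∈ K ∧ i1 * i1 = z ∧ j1 * j1 = z ∧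
        K ≤ closure {i1, j1, d} ∧ Transfer.SL23Recog.SLRel i1 j1 d := by
      intro i1 j1 h1 h2 h3 h4 h5 h6 h7
      have Q' := Q.of_pair h1 h2 h3 h4 h5
      refine ⟨h1, h2, h3, h4, ?_, ?_⟩
      · refine Q'.le_of_mem (i := 0) (j := 1) (by decide) ?_ ?_
        · exact subset_closure (by simp)
        · exact subset_closure (by simp)
      · refine { hi := ?_, hj := ?_, hji := ?_, hti := h6, htj := h7 }
        · rw [show (4 : ℕ) = 2 * 2 from rfl, pow_mul, pow_two i1, h3, pow_two, hz2]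
        · rw [pow_two, pow_two, h3, h4]
        · have e := Q'.conj_ne (i := 1) (j := 0) (by decide)
          have e1 : (![i1, j1, i1 * j1] : Fin 3 → G) 0 = i1 := rfl
          have e2 : (![i1, j1, i1 * j1] : Fin 3 → G) 1 = j1 := rfl
          rw [e1, e2] at e
          rw [e]
          have e3 := Q'.inv 0
          rw [e1] at e3
          exact e3.symm
    rcases hprod with h1 | h1
    · exact ⟨a 0, j', main _ _ (Q.mem 0) hj'K (Q.sq 0) hj'2 hne hj'.symm (by rw [← hk', h1])⟩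
    · refine ⟨z * a 0, z * j', main _ _ (K.mul_mem Q.zmem (Q.mem 0)) (K.mul_mem Q.zmem hj'K) ?_ ?_ ?_ ?_ ?_⟩
      · rw [mul_assoc, ← mul_assoc (a 0), ← Q.zc, mul_assoc, hzz, Q.sq]
      · rw [mul_assoc, ← mul_assoc j', ← hzc j' hj'K, mul_assoc, hzz, hj'2]
      · intro e
        apply hne
        rw [mul_assoc, ← mul_assoc (a 0), ← Q.zc, mul_assoc, hzz, mul_assoc, ← mul_assoc j', ← hzc j' hj'K, mul_assoc,
          hzz] at e
        exact e
      · rw [hzd, ← hj']
      · rw [hzd, ← hk', mul_assoc, ← mul_assoc (a 0), ← Q.zc, mul_assoc, hzz, h1]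
  have hJ : (K ⊔ zpowers d : Subgroup G) = closure {i1, j1, d} := by
    refine le_antisymm (sup_le hgen (zpowers_le.2 (subset_closure (by simp)))) ?_
    rw [closure_le]
    rintro x (rfl | rfl | rfl)
    · exact mem_sup_left hi1
    · exact mem_sup_left hj1
    · exact mem_sup_right (mem_zpowers _)
  rw [hJ]
  have hiP : i1 ∈ closure ({i1, j1, d} : Set G) := subset_closure (by simp)
  have hjP : j1 ∈ closure ({i1, j1, d} : Set G) := subset_closure (by simp)
  have hdP : d ∈ closure ({i1, j1, d} : Set G) := subset_closure (by simp)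
  have hd1 : d ≠ 1 := by
    rintro rfl
    apply hne
    rw [hj']; group
  have hcard : Nat.card (closure ({i1, j1, d} : Set G)) = 24 := by
    have h3 : Nat.card (closure ({i1, j1, d} : Set G)) ≤ 24 := (hrel.card_le hd3).2
    have h4 : 8 ∣ Nat.card (closure ({i1, j1, d} : Set G)) := by
      have h5 : Nat.card (closure ({i1, j1} : Set G)) = 8 :=
        Transfer.SL23Section.card_quaternion hrel.toQRel (by rw [pow_two, hi12]; exact Q.z1)
      rw [← h5]
      exact card_dvd_of_le (closure_mono (by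
        rintro x (rfl | rfl)
        · simp
        · simp))
    have h5 : 3 ∣ Nat.card (closure ({i1, j1, d} : Set G)) := by
      have h6 : orderOf (⟨d, hdP⟩ : closure ({i1, j1, d} : Set G)) = 3 := by
        rw [Subgroup.orderOf_mk]
        exact orderOf_eq_prime hd3 hd1
      rw [← h6]
      exact orderOf_dvd_natCard _
    have h7 : 24 ∣ Nat.card (closure ({i1, j1, d} : Set G)) := by
      rw [show (24 : ℕ) = 8 * 3 from rfl]
      exact Nat.Coprime.mul_dvd_of_dvd_of_dvd (by norm_num) h4 h5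
    exact le_antisymm h3 (Nat.le_of_dvd Nat.card_pos h7)
  refine Transfer.SL23Recog.sl23_of_relations
    (Transfer.SL23Section.slrel_subtype (closure ({i1, j1, d} : Set G)) hiP hjP hdP hrel)
    (Subtype.ext hd3) ?_ hcard
  have h3 := Subgroup.closure_closure_coe_preimage (k := ({i1, j1, d} : Set G))
  rw [← h3]
  congr 1
  ext ⟨x, hx⟩
  simp [Subtype.ext_iff]

/-! ### (3.2) -/

/-- `C(⟨K2, X_z⟩) ∩ C(z)` -/
def YY (Om : Set (Subgroup G)) (z : G) (K2 : Subgroup G) : Subgroup G :=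
  centralizer {z} ⊓ (centralizer (K2 : Set G) ⊓ centralizer (CX Om z : Set G))

theorem mem_YY : y ∈ YY Om z K2 ↔ y * z = z * y ∧ (∀ k ∈ K2, y * k = k * y) ∧ ∀ x ∈ CX Om z, y * x = x * y := by
  rw [YY, mem_inf, mem_inf, mem_centralizer_singleton_iff, mem_centralizer_iff, mem_centralizer_iff]
  constructor
  · rintro ⟨h1, h2, h3⟩
    exact ⟨h1, fun k hk => (h2 k hk).symm, fun x hx => (h3 x hx).symm⟩
  · rintro ⟨h1, h2, h3⟩
    exact ⟨h1, fun k hk => (h2 k hk).symm, fun x hx => (h3 x hx).symm⟩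

/-- the elements of `YY` acting as translations on `K1` -/
def YT (Om : Set (Subgroup G)) (z : G) (K2 : Subgroup G) (a : Fin 3 → G) (hz : z * z = 1) : Subgroup G where
  carrier := {y | y ∈ YY Om z K2 ∧ ∃ i : Fin 3, Act z a a y (Equiv.addRight i)}
  mul_mem' := by
    rintro x y ⟨hx, i, hi⟩ ⟨hy, j, hj⟩
    refine ⟨mul_mem hx hy, j + i, ?_⟩
    have h1 := hj.comp hz hi (mem_YY.1 hx).1
    have e : Equiv.addRight i * Equiv.addRight j = Equiv.addRight (j + i) := by
      ext k; show ((k + j + i : Fin 3) : ℕ) = ((k + (j + i) : Fin 3) : ℕ); rw [add_assoc]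
    rwa [e] at h1
  one_mem' := ⟨one_mem _, 0, fun i => Or.inl (by simp)⟩
  inv_mem' := by
    rintro x ⟨hx, i, hi⟩
    exact ⟨inv_mem hx, -i, hi.inv hz (mem_YY.1 hx).1⟩

theorem tra_key : ∀ i j : Fin 3, i ≠ 0 → ∃ n : Fin 3, (n : ℕ) • i = j := by decide

/-- **(3.2)** -/
theorem sl_end (h : W2 Om) (hF : CF Om) (F : Frame Om z K1 K2 a b) (hd : Tra z a b d v) (hv1 : v.1 ≠ 0)
    (hv2 : v.2 = 0) (h3 : ∃ n : ℕ, d ^ 3 ^ n = 1) (hX : ∀ x ∈ CX Om z, d * x = x * d) : SLSub z := by
  have hz := F.k1.inZ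
  have hz2 := hz.z2 h
  have hdz := hd.comm
  -- `d` centralises `K2`
  have hdK2 : ∀ k ∈ K2, d * k = k * d := by
    intro k hk
    refine comm_of_inn hz2 h3 hdz (Act.inner F.qb ?_ hdz k hk)
    have h1 := hd.b
    rw [hv2] at h1
    have e : Equiv.addRight (0 : Fin 3) = 1 := by ext i; simp
    rwa [e] at h1
  -- `d ^ 3 = 1`
  have hd3 : d ^ 3 = 1 := by
    have h4 := hd.pow hz2 3
    rw [three_smul_dir] at h4
    have h5 : ∃ n : ℕ, (d ^ 3) ^ 3 ^ n = 1 := by
      obtain ⟨n, hn⟩ := h3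
      exact ⟨n, by rw [← pow_mul, mul_comm, pow_mul, hn, one_pow]⟩
    have e : Equiv.addRight (0 : Fin 3) = 1 := by ext i; simp
    have h6 : ∀ k ∈ K1, d ^ 3 * k = k * d ^ 3 := by
      intro k hk
      refine comm_of_inn hz2 h5 h4.comm (Act.inner F.qa ?_ h4.comm k hk)
      have h7 := h4.a
      rwa [show (0 : Fin 3 × Fin 3).1 = 0 from rfl, e] at h7
    have h7 : d ^ 3 ∈ CX Om z := by
      rw [mem_CX]
      intro M hM k hk
      rcases F.k1.cases F.k2 h F.ne hM with rfl | rfl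
      · exact h6 k hk
      · have : Commute d k := hdK2 k hk
        exact (this.pow_left 3).eq
    have h8 : ∀ x ∈ CX Om z, d ^ 3 * x = x * d ^ 3 := by
      intro x hx
      have : Commute d x := hX x hx
      exact (this.pow_left 3).eq
    have h9 : zpowers (d ^ 3) = ⊥ := by
      refine CX_odd h hF hz (zpowers_le.2 h7) ?_ ?_
      · intro x hx
        rw [mem_normalizer_iff_cj]
        ext y
        rw [mem_cj]
        have hc : ∀ y ∈ zpowers (d ^ 3), x⁻¹ * y * x = y := by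
          rintro _ ⟨n, rfl⟩
          have h1 : Commute (d ^ 3) x := h8 x hx
          have h2 : (d ^ 3) ^ n * x = x * (d ^ 3) ^ n := (h1.zpow_left n).eq
          show x⁻¹ * (d ^ 3) ^ n * x = (d ^ 3) ^ n
          rw [mul_assoc, h2, inv_mul_cancel_left]
        have hc' : ∀ y ∈ zpowers (d ^ 3), x * y * x⁻¹ = y := by
          rintro _ ⟨n, rfl⟩
          have h1 : Commute (d ^ 3) x := h8 x hx
          have h2 : (d ^ 3) ^ n * x = x * (d ^ 3) ^ n := (h1.zpow_left n).eq
          show x * (d ^ 3) ^ n * x⁻¹ = (d ^ 3) ^ n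
          rw [← h2, mul_inv_cancel_right]
        constructor
        · intro hy
          have h1 := hc' _ hy
          have e : x * (x⁻¹ * y * x) * x⁻¹ = y := by group
          rw [e] at h1
          rw [h1]; exact hy
        · intro hy
          rw [hc y hy]; exact hy
      · rw [Nat.card_zpowers]
        obtain ⟨n, hn⟩ := h5
        intro h2
        have h10 := orderOf_dvd_of_pow_eq_one hn
        have h11 : 2 ∣ 3 ^ n := h2.trans h10
        have h12 := Nat.prime_two.dvd_of_dvd_pow h11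
        omega
    rwa [zpowers_eq_bot] at h9
  obtain ⟨J, hJ⟩ : ∃ J : Subgroup G, J = K1 ⊔ zpowers d := ⟨_, rfl⟩
  have hKJ : K1 ≤ J := by rw [hJ]; exact le_sup_left
  have hdJ : d ∈ J := by rw [hJ]; exact mem_sup_right (mem_zpowers d)
  have hK1z : ∀ k ∈ K1, k * z = z * k := fun k hk => F.k1.comm_z h hk
  have hiso : Nonempty (J ≃* Matrix.SpecialLinearGroup (Fin 2) (ZMod 3)) := by
    rw [hJ]; exact sl_iso F.qa hv1 hdz hd.a hd3
  -- the chain
  obtain ⟨N, hN⟩ : ∃ N : Subgroup G, N = centralizer {z} ⊓ normalizer (K2 : Set G) := ⟨_, rfl⟩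
  have hNC : N ≤ centralizer {z} := by rw [hN]; exact inf_le_left
  have hYN : YY Om z K2 ≤ N := by
    intro y hy
    obtain ⟨h1, h2, -⟩ := mem_YY.1 hy
    rw [hN]
    refine mem_inf.2 ⟨mem_centralizer_singleton_iff.2 h1, ?_⟩
    rw [mem_normalizer_iff_cj]
    ext k
    rw [mem_cj]
    constructor
    · intro hk
      have h3 := h2 _ hk
      have e : y * (y⁻¹ * k * y) = k * y := by group
      rw [e] at h3
      have h4 : k = y⁻¹ * k * y := mul_right_cancel h3
      rw [h4]; exact hk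
    · intro hk
      have h3 := h2 _ hk
      rw [mul_assoc, ← h3, inv_mul_cancel_left]; exact hk
  have hMY : YT Om z K2 a hz2 ≤ YY Om z K2 := fun y hy => hy.1
  have hJM : J ≤ YT Om z K2 a hz2 := by
    rw [hJ]
    refine sup_le ?_ (zpowers_le.2 ?_)
    · intro k hk
      refine ⟨mem_YY.2 ⟨hK1z k hk, fun l hl => F.k1.comm F.k2 h F.ne hk hl, fun x hx =>
        (mem_CX.1 hx _ F.k1 k hk).symm⟩, 0, ?_⟩
      have e : Equiv.addRight (0 : Fin 3) = 1 := by ext i; simp
      rw [e]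
      exact Act.of_inner F.qa (Inn.of_mem F.k1 h hk K1 F.k1)
    · exact ⟨mem_YY.2 ⟨hdz, hdK2, hX⟩, v.1, hd.a⟩
  have hJz : J ≤ centralizer {z} := hJM.trans (hMY.trans (hYN.trans hNC))
  -- `N` is normal in `C(z)`
  have sN : (N.subgroupOf (centralizer {z})).IsSubnormal := by
    refine subnStep (M := centralizer {z}) hNC ?_ ?_
    · rw [subgroupOf_self]; exact Subgroup.IsSubnormal.top
    · intro m hm n hn
      rw [hN] at hn ⊢
      have hmz := mem_centralizer_singleton_iff.1 hm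
      have hnz := mem_centralizer_singleton_iff.1 hn.1
      have hfn : Fx Om z n := by
        intro M hM
        rcases F.k1.cases F.k2 h F.ne hM with rfl | rfl
        · rcases F.k1.cases F.k2 h F.ne (F.k1.cj_comm h hnz) with h1 | h1
          · exact h1
          · exact absurd (cj_inj.1 (h1.trans (mem_normalizer_iff_cj.1 hn.2).symm)) F.ne
        · exact mem_normalizer_iff_cj.1 hn.2
      refine mem_inf.2 ⟨(centralizer {z}).mul_mem ((centralizer {z}).mul_mem hm hn.1) ((centralizer {z}).inv_mem hm), ?_⟩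
      rw [mem_normalizer_iff_cj, cj_mul, cj_mul]
      have h1 : m⁻¹ * z = z * m⁻¹ := by
        rw [inv_mul_eq_iff_eq_mul, ← mul_assoc, hmz, mul_inv_cancel_right]
      rw [hfn _ (F.k2.cj_comm h h1), cj_cj_inv]
  have sY : ((YY Om z K2).subgroupOf (centralizer {z})).IsSubnormal := by
    refine subnStep hYN sN ?_
    intro n hn y hy
    rw [hN] at hn
    have hnz := mem_centralizer_singleton_iff.1 hn.1
    have hnz' : n⁻¹ * z = z * n⁻¹ := by
      rw [inv_mul_eq_iff_eq_mul, ← mul_assoc, hnz, mul_inv_cancel_right]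
    obtain ⟨h1, h2, h3⟩ := mem_YY.1 hy
    refine mem_YY.2 ⟨?_, ?_, ?_⟩
    · rw [mul_assoc, hnz', ← mul_assoc, mul_assoc n, h1, ← mul_assoc, hnz]; group
    · intro k hk
      have h4 : n⁻¹ * k * n ∈ K2 := by
        rw [← mem_cj, mem_normalizer_iff_cj.1 hn.2]; exact hk
      have h5 := h2 _ h4
      calc n * y * n⁻¹ * k = n * (y * (n⁻¹ * k * n)) * n⁻¹ := by group
        _ = n * ((n⁻¹ * k * n) * y) * n⁻¹ := by rw [h5]
        _ = _ := by group
    · intro x hx
      have h4 := CX_conj_comm h hnz' hx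
      rw [inv_inv] at h4
      have h5 := h3 _ h4
      calc n * y * n⁻¹ * x = n * (y * (n⁻¹ * x * n)) * n⁻¹ := by group
        _ = n * ((n⁻¹ * x * n) * y) * n⁻¹ := by rw [h5]
        _ = _ := by group
  have sM : ((YT Om z K2 a hz2).subgroupOf (centralizer {z})).IsSubnormal := by
    refine subnStep hMY sY ?_
    rintro y hy m ⟨hm, i, hi⟩
    refine ⟨mul_mem (mul_mem hy hm) (inv_mem hy), ?_⟩
    obtain ⟨h1, h2, h3'⟩ := mem_YY.1 hy
    have hyK1 : cj y K1 = K1 := by
      have h4 : cj y K2 = K2 := by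
        have := hYN hy
        rw [hN] at this
        exact mem_normalizer_iff_cj.1 this.2
      rcases F.k1.cases F.k2 h F.ne (F.k1.cj_comm h h1) with h5 | h5
      · exact h5
      · exact absurd (cj_inj.1 (h5.trans h4.symm)) F.ne
    obtain ⟨σ, hσ⟩ := F.qa.exists_act F.qa hyK1 h1
    have h4 := (hσ.inv hz2 h1).comp hz2 hi (mem_YY.1 hm).1
    have h5 := h4.comp hz2 hσ h1
    have key : ∀ (σ : Equiv.Perm (Fin 3)) (i : Fin 3), ∃ j, σ * (Equiv.addRight i * σ⁻¹) = Equiv.addRight j := by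
      decide
    obtain ⟨j, hj⟩ := key σ i
    refine ⟨j, ?_⟩
    rw [hj, ← mul_assoc] at h5
    exact h5
  refine ⟨J, hJz, hKJ (F.qa.zmem), subnStep hJM sM ?_, hiso⟩
  -- `J` is normalised by `YT`
  rintro m ⟨hm, i, hi⟩ j hj
  obtain ⟨m1, m2, m3⟩ := mem_YY.1 hm
  obtain ⟨n, hn⟩ := tra_key v.1 i hv1
  have hdn := (hd.pow hz2 (n : ℕ)).inv hz2
  have hT : Tra z a b m (i, 0) := by
    refine ⟨m1, hi, fun j => Or.inl ?_⟩
    rw [m2 _ (F.qb.mem j), mul_inv_cancel_right]; simp
  have hT' := hT.mul hz2 hdn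
  obtain ⟨m', hm'⟩ : ∃ m', m' = (d ^ (n : ℕ))⁻¹ * m := ⟨_, rfl⟩
  rw [← hm'] at hT'
  have hact : Act z a a m' 1 := by
    have h1 := hT'.a
    have e : ((i, (0 : Fin 3)) + -((n : ℕ) • v)).1 = 0 := by
      show i + -((n : ℕ) • v.1) = 0
      rw [hn, add_neg_cancel]
    rw [e] at h1
    have e : Equiv.addRight (0 : Fin 3) = 1 := by ext i; simp
    rwa [e] at h1
  have hm'z := hT'.comm
  have hm'Y : m' ∈ YY Om z K2 := by
    rw [hm']
    exact mul_mem (inv_mem (pow_mem (hMY (hJM hdJ)) _)) hm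
  obtain ⟨-, q2, q3⟩ := mem_YY.1 hm'Y
  -- `m' = k x`
  obtain ⟨k, hk, hkc⟩ : ∃ k ∈ K1, ∀ l ∈ K1, k⁻¹ * m' * l = l * (k⁻¹ * m') := by
    rcases F.qa.inner_cases (Act.inner F.qa hact hm'z) with h1 | ⟨j, h1⟩
    · refine ⟨1, one_mem _, fun l hl => ?_⟩
      have h2 := h1 l hl
      rw [mul_inv_eq_iff_eq_mul] at h2
      rw [inv_one, one_mul, h2]
    · refine ⟨a j, F.qa.mem j, fun l hl => ?_⟩
      have h2 := h1 l hl
      calc (a j)⁻¹ * m' * l = (a j)⁻¹ * (m' * l * m'⁻¹) * m' := by group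
        _ = (a j)⁻¹ * (a j * l * (a j)⁻¹) * m' := by rw [h2]
        _ = _ := by group
  have hx : k⁻¹ * m' ∈ CX Om z := by
    rw [mem_CX]
    intro M hM l hl
    rcases F.k1.cases F.k2 h F.ne hM with rfl | rfl
    · exact hkc l hl
    · have e1 : Commute k l := F.k1.comm F.k2 h F.ne hk hl
      have e2 : Commute m' l := q2 l hl
      exact (e1.inv_left.mul_left e2).eq
  have hxJ : ∀ l ∈ J, k⁻¹ * m' * l = l * (k⁻¹ * m') := by
    have h1 : J ≤ centralizer {k⁻¹ * m'} := by
      rw [hJ]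
      refine sup_le ?_ (zpowers_le.2 ?_)
      · intro l hl
        exact mem_centralizer_singleton_iff.2 (hkc l hl).symm
      · exact mem_centralizer_singleton_iff.2 (hX _ hx)
    intro l hl
    exact (mem_centralizer_singleton_iff.1 (h1 hl)).symm
  have hmJ : m = (d ^ (n : ℕ) * k) * (k⁻¹ * m') := by rw [hm']; group
  have hp : d ^ (n : ℕ) * k ∈ J := mul_mem (pow_mem hdJ _) (hKJ hk)
  have e : m * j * m⁻¹ = (d ^ (n : ℕ) * k) * j * (d ^ (n : ℕ) * k)⁻¹ := by
    rw [hmJ]
    calc d ^ (n : ℕ) * k * (k⁻¹ * m') * j * (d ^ (n : ℕ) * k * (k⁻¹ * m'))⁻¹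
        = d ^ (n : ℕ) * k * ((k⁻¹ * m') * j) * (k⁻¹ * m')⁻¹ * (d ^ (n : ℕ) * k)⁻¹ := by group
      _ = d ^ (n : ℕ) * k * (j * (k⁻¹ * m')) * (k⁻¹ * m')⁻¹ * (d ^ (n : ℕ) * k)⁻¹ := by rw [hxJ j hj]
      _ = _ := by group
  rw [e]
  exact mul_mem (mul_mem hp hj) (inv_mem hp)

theorem Tra.swap (ht : Tra z a b g v) : Tra z b a g v.swap := ⟨ht.comm, ht.b, ht.a⟩

/-- weight one -/
def WOne (v : Fin 3 × Fin 3) : Prop := (v.1 ≠ 0 ∧ v.2 = 0) ∨ (v.1 = 0 ∧ v.2 ≠ 0)

/-- **(3.2)**, both coordinates -/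
theorem sl_end' (h : W2 Om) (hF : CF Om) (F : Frame Om z K1 K2 a b) (hd : Tra z a b d v) (hv : WOne v)
    (h3 : ∃ n : ℕ, d ^ 3 ^ n = 1) (hX : ∀ x ∈ CX Om z, d * x = x * d) : SLSub z := by
  rcases hv with ⟨h1, h2⟩ | ⟨h1, h2⟩
  · exact sl_end h hF F hd h1 h2 h3 hX
  · exact sl_end h hF F.swap hd.swap h2 h1 h3 hX

/-- **(3.2)** for a label central in `X_z` -/
theorem sl_end_of_D0 (h : W2 Om) (hF : CF Om) (F : Frame Om z K1 K2 a b) (hc : c ∈ CC Om z)
    (hcX : ∀ x ∈ CX Om z, x * c = c * x) (hv : v ∈ D0 Om z a b) (hw : WOne v) : SLSub z := by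
  obtain ⟨p, hp⟩ := CC.exists_dir h F hc
  have hq := (D0.iff h F hp).1 hv
  obtain ⟨d, hd, h3, -, hX⟩ := DC.exists_tra h F hp hq
  rw [add_sub_cancel_left] at hd
  exact sl_end' h hF F hd hw h3 (fun x hx => hX x hx (hcX x hx))

end

end Cfsg.Agent.Cit.Nil.RTwo

private theorem dce_d3331c33f6bf : _root_.True := by
  try have : _root_.True := by simp only [_root_.Cfsg.Agent.Cit.Nil.RTwo.YY.eq_1]
  exact _root_.True.intro
end

-- part: Cit/Nil/RTwo/AFive
section
prune_inst 0x400000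
set_option linter.all false
open scoped Cfsg.Agent.FastGrp

/-!
# (6.4), and the case (A), `k = 1`

* `hasLine` : (6.4);
* `AW.of` : the world (A), `k = 1`;
* `AW.eqEps` : its end.
-/

set_option autoImplicit false
set_option linter.style.haveILetI false
set_option linter.unusedSectionVars false
set_option maxHeartbeats 400000

namespace Cfsg.Agent.Cit.Nil.RTwo

open Subgroup Cfsg Cit

variable {G : Type*} [Group G]

section

variable [Finite G] {Om : Set (Subgroup G)} {K K1 K2 L M L1 L2 : Subgroup G} {z t u g r s s' x y w c c' : G}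
  {a b p q : Fin 3 → G}

theorem fin3_cases : ∀ m : Fin 3, m = 0 ∨ m = 1 ∨ m = 2 := by decide

/-! ### (6.4) -/

/-- an element of `Z ∩ C(z)` of type p or f centralises the direction it fixes -/
theorem cent_dir (h : W2 Om) (F : Frame Om z K1 K2 a b) (ht : InZ Om t) (hzt : z * t = t * z) (hni : ¬ Inn Om z t)
    {i j : Fin 3} (hw : Dir z a b w i j) (hfix : Dir z a b (t * w * t⁻¹) i j) : t * w = w * t := by
  have hne : z ≠ t := by
    rintro rfl
    apply hni
    intro K hK k hk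
    left
    rw [← hK.comm_z h hk, mul_inv_cancel_right]
  have htz : t * z = z * t := hzt.symm
  have htz' : t * z * t⁻¹ = z := by rw [htz, mul_inv_cancel_right]
  have ht2 := ht.z2 h
  have hmz : ∀ k : G, t * (z * k) * t⁻¹ = z * (t * k * t⁻¹) := by
    intro k
    calc t * (z * k) * t⁻¹ = (t * z * t⁻¹) * (t * k * t⁻¹) := by group
      _ = _ := by rw [htz']
  have hzz := F.qa.zzx
  -- it is enough to treat `a i b j`
  have hred : t * (a i * b j) * t⁻¹ = a i * b j → t * w = w * t := by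
    intro h1
    rw [← mul_inv_eq_iff_eq_mul]
    rcases hw with hw | hw
    · rw [hw, h1]
    · rw [hw, hmz, h1]
  apply hred
  rcases F.act_cases h htz with ⟨h1, h2, σ, τ, h3, h4⟩ | ⟨h1, h2, σ, τ, h3, h4⟩
  · -- type f
    have h5 := F.dir_conj htz h3 h4 hw
    obtain ⟨e1, e2⟩ := F.dir_unique h h5 hfix
    have hF : FT Om z t := by
      rcases tcases h F.k1.inZ ht hne hzt with h6 | h6 | h6
      · exact absurd h1 (h6.sw K1 F.k1)
      · exact h6
      · exact absurd h6.2.2.2.2 hni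
    -- on a member
    have key : ∀ {K : Subgroup G} {a : Fin 3 → G} {i : Fin 3}, Mem Om z K → Q3 K z a →
        (t * a i * t⁻¹ = a i ∨ t * a i * t⁻¹ = z * a i) → t * a i * t⁻¹ = z * a i := by
      intro K a i hK Q hi
      obtain ⟨x, qx, x0, x1, x2⟩ := hF.coord h hK
      obtain ⟨m, hm⟩ := qx.of_sq (Q.mem i) (Q.sq i)
      -- `m = 2`
      have h7 : t * x m * t⁻¹ = x m ∨ t * x m * t⁻¹ = z * x m := by
        rcases hm with hm | hm
        · rw [← hm]; exact hi
        · have h8 : x m = z * a i := by rw [hm, hzz]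
          rw [h8, hmz]
          rcases hi with hi | hi
          · left; rw [hi]
          · right; rw [hi]
      have hm2 : m = 2 := by
        rcases fin3_cases m with rfl | rfl | rfl
        · rw [x0] at h7
          exact absurd (qx.inj h7) (by decide)
        · rw [x1] at h7
          exact absurd (qx.inj h7) (by decide)
        · rfl
      subst hm2
      rcases hm with hm | hm
      · rw [hm, x2]
      · rw [hm, hmz, x2]
    have e3 := h3 i
    rw [e1] at e3
    have e4 := h4 j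
    rw [e2] at e4
    have k1 := key F.k1 F.qa e3
    have k2 := key F.k2 F.qb e4
    calc t * (a i * b j) * t⁻¹ = (t * a i * t⁻¹) * (t * b j * t⁻¹) := by group
      _ = z * a i * (z * b j) := by rw [k1, k2]
      _ = z * (a i * z) * b j := by group
      _ = z * (z * a i) * b j := by rw [F.qa.zc]
      _ = _ := by rw [hzz]
  · -- type p
    have h5 := F.dir_conj' h htz h3 h4 hw
    obtain ⟨e1, e2⟩ := F.dir_unique h h5 hfix
    have e3 := h3 i
    rw [e2] at e3
    have ett : ∀ k : G, t * (t * k * t⁻¹) * t⁻¹ = k := by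
      intro k
      calc t * (t * k * t⁻¹) * t⁻¹ = (t * t) * k * (t * t)⁻¹ := by group
        _ = k := by rw [ht2]; group
    rcases e3 with e3 | e3
    · have e4 : t * b j * t⁻¹ = a i := by rw [← e3, ett]
      calc t * (a i * b j) * t⁻¹ = (t * a i * t⁻¹) * (t * b j * t⁻¹) := by group
        _ = b j * a i := by rw [e3, e4]
        _ = _ := (F.ab h i j).symm
    · have e4 : t * b j * t⁻¹ = z * a i := by
        have e5 : b j = z * (t * a i * t⁻¹) := by rw [e3, hzz]
        rw [e5, hmz, ett]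
      calc t * (a i * b j) * t⁻¹ = (t * a i * t⁻¹) * (t * b j * t⁻¹) := by group
        _ = z * b j * (z * a i) := by rw [e3, e4]
        _ = z * (b j * z) * a i := by group
        _ = z * (z * b j) * a i := by rw [← F.qb.zc]
        _ = b j * a i := by rw [hzz]
        _ = _ := (F.ab h i j).symm

/-- (6.4) -/
theorem hasLine (h : W2 Om) (hn : ∀ z, InZ Om z → (CC Om z).Nonempty) : HasLine Om := by
  intro z t hz ht hc
  by_cases hti : TI Om z t
  · exact ⟨t, hti, rfl⟩
  by_cases hzt : z = t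
  · obtain ⟨c, s, l⟩ := hn z hz
    exact ⟨s, l.ti, by rw [← hzt]; exact l.ti.2.2.2.1.symm⟩
  have hni : ¬ Inn Om z t := fun h1 => hti ⟨hz, ht, hzt, hc, h1⟩
  have hP : IsPGroup 2 (zpowers t) := isPGroup_zpowers_of_sq (ht.z2 h)
  have hPz : ∀ s ∈ zpowers t, s * z = z * s := by
    intro s hs
    obtain ⟨n, rfl⟩ := mem_zpowers_iff.1 hs
    exact (Commute.zpow_left (show Commute t z from hc.symm) n).eq
  obtain ⟨T, -, -, c, hcc, -, hct⟩ := CC.exists_comm h hP hPz (hn z hz)
  obtain ⟨K1, K2, a, b, F⟩ := hz.exists_frame h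
  obtain ⟨p, hp, hfix⟩ := DC.exists_fixed h F hcc hP hPz hct
  obtain ⟨s, l, hd⟩ := hp
  have h1 := hfix t (mem_zpowers t) _ hd
  have h2 := cent_dir h F ht hc hni hd h1
  refine ⟨s, l.ti, ?_⟩
  have h3 : t * c = c * t := hct t (mem_zpowers t)
  have e : s = s * c * c := by rw [mul_assoc, l.sq, mul_one]
  calc s * t = (s * c) * (c * t) := by
        calc s * t = s * c * c * t := by rw [← e]
          _ = _ := by group
    _ = (s * c) * t * c := by rw [← h3]; group
    _ = t * (s * c) * c := by rw [← h2]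
    _ = t * (s * c * c) := by group
    _ = t * s := by rw [← e]

/-! ### The world (A), `k = 1` -/

/-- diagonal coordinates for a diagonal line of directions -/
theorem Frame.exists_diag (F : Frame Om z K1 K2 a b) (p v : Fin 3 × Fin 3) (h1 : v.1 ≠ 0) (h2 : v.2 ≠ 0) :
    ∃ a' b', Frame Om z K1 K2 a' b' ∧ ∀ w, (∃ i, w = a' i * b' i ∨ w = z * (a' i * b' i)) ↔
      (Dir z a b w p.1 p.2 ∨ Dir z a b w (p.1 + v.1) (p.2 + v.2) ∨ Dir z a b w (p.1 - v.1) (p.2 - v.2)) := by
  have hzz := F.qa.zzx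
  -- one factor
  have key : ∀ {K : Subgroup G} {a : Fin 3 → G}, Q3 K z a → ∀ p v : Fin 3, v ≠ 0 → ∃ a', Q3 K z a' ∧
      (a' 0 = a p ∨ a' 0 = z * a p) ∧ (a' 1 = a (p + v) ∨ a' 1 = z * a (p + v)) ∧
      (a' 2 = a (p - v) ∨ a' 2 = z * a (p - v)) := by
    intro K a Q p v hv
    have hc : v = 1 ∨ v = 2 := by revert v; decide
    rcases hc with rfl | rfl
    · refine ⟨_, Q.rot p, Or.inl ?_, Or.inl ?_, Or.inl ?_⟩
      · show a (0 + p) = a p
        rw [zero_add]
      · show a (1 + p) = a (p + 1)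
        rw [add_comm]
      · show a (2 + p) = a (p - 1)
        have : ∀ p : Fin 3, 2 + p = p - 1 := by decide
        rw [this]
    · refine ⟨_, Q.refl p, Or.inr ?_, Or.inr ?_, Or.inr ?_⟩
      · show z * a (p - 0) = z * a p
        rw [sub_zero]
      · show z * a (p - 1) = z * a (p + 2)
        have : ∀ p : Fin 3, p - 1 = p + 2 := by decide
        rw [this]
      · rfl
  obtain ⟨a', qa, a0, a1, a2⟩ := key F.qa p.1 v.1 h1
  obtain ⟨b', qb, b0, b1, b2⟩ := key F.qb p.2 v.2 h2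
  refine ⟨a', b', ⟨F.k1, F.k2, F.ne, qa, qb⟩, ?_⟩
  have hdir : ∀ {x y : G} {i j : Fin 3}, (x = a i ∨ x = z * a i) → (y = b j ∨ y = z * b j) → ∀ w,
      (w = x * y ∨ w = z * (x * y)) ↔ Dir z a b w i j := by
    intro x y i j hx hy w
    have e : x * y = a i * b j ∨ x * y = z * (a i * b j) := by
      rcases hx with rfl | rfl <;> rcases hy with rfl | rfl
      · exact Or.inl rfl
      · right; rw [← mul_assoc, ← F.qa.zc, mul_assoc]
      · right; rw [mul_assoc]
      · left; rw [mul_assoc, ← mul_assoc (a i), ← F.qa.zc, mul_assoc, hzz]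
    unfold Dir
    rcases e with e | e <;> rw [e]
    rw [hzz]
    exact or_comm
  intro w
  constructor
  · rintro ⟨i, hi⟩
    rcases fin3_cases i with rfl | rfl | rfl
    · exact Or.inl ((hdir a0 b0 w).1 hi)
    · exact Or.inr (Or.inl ((hdir a1 b1 w).1 hi))
    · exact Or.inr (Or.inr ((hdir a2 b2 w).1 hi))
  · rintro (hi | hi | hi)
    · exact ⟨0, (hdir a0 b0 w).2 hi⟩
    · exact ⟨1, (hdir a1 b1 w).2 hi⟩
    · exact ⟨2, (hdir a2 b2 w).2 hi⟩

instance decWOne : DecidablePred WOne := fun v => by unfold WOne; infer_instance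

/-- two independent vectors give a vector of weight one -/
theorem wOne_key : ∀ v u : Fin 3 × Fin 3, v ≠ 0 → u ≠ 0 → u ≠ v → u ≠ -v →
    WOne v ∨ WOne u ∨ WOne (u + v) ∨ WOne (u - v) := by
  decide

theorem wOne_key' : ∀ v : Fin 3 × Fin 3, v ≠ 0 → ¬ WOne v → v.1 ≠ 0 ∧ v.2 ≠ 0 := by
  decide

/-- in case (A) the type I neighbours are given by the directions in `DC 1` -/
theorem ti_iff_dir (h : W2 Om) (F : Frame Om z K1 K2 a b) (hA : CC Om z = {1}) :
    TI Om z t ↔ ∃ p ∈ DC Om z a b 1, Dir z a b t p.1 p.2 := by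
  constructor
  · intro hti
    obtain ⟨c, l⟩ := hti.exists_lab h
    have hc : c = 1 := by
      have h1 : c ∈ CC Om z := l.mem_CC
      rw [hA] at h1
      exact h1
    subst hc
    obtain ⟨i, j, hij⟩ : ∃ i j, Dir z a b (t * 1) i j := by
      obtain ⟨th, i, j, -, -, -, -, hd, -⟩ := l.theta h F
      exact ⟨i, j, hd⟩
    refine ⟨(i, j), ⟨t, l, hij⟩, ?_⟩
    rwa [mul_one] at hij
  · rintro ⟨p, ⟨t', l, hd⟩, hd'⟩
    have hd'' : Dir z a b (t * 1) p.1 p.2 := by rwa [mul_one]
    rcases F.eq_of_dir hd hd'' with h1 | h1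
    · rw [h1]; exact l.ti
    · rw [h1]; exact l.ti.mul h

/-- the world (A), `k = 1` -/
theorem AW.of (h : W2 Om) (hcls : ∀ z t, InZ Om z → InZ Om t → ∃ g, g * z * g⁻¹ = t)
    (hA : ∀ z, InZ Om z → CC Om z = {1})
    (hD : ∀ z K1 K2 a b, Frame Om z K1 K2 a b → ∃ v, v ≠ 0 ∧ v ∈ D0 Om z a b)
    (hno : ∀ z K1 K2 a b, Frame Om z K1 K2 a b → ∀ v ∈ D0 Om z a b, ¬ WOne v) : AW Om := by
  have hn : ∀ z, InZ Om z → (CC Om z).Nonempty := fun z hz => by rw [hA z hz]; exact ⟨1, rfl⟩
  refine ⟨h, hasLine h hn, hcls, ?_, ?_⟩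
  · intro z hz
    obtain ⟨K1, K2, a, b, F⟩ := hz.exists_frame h
    obtain ⟨v, hv0, hv⟩ := hD z K1 K2 a b F
    obtain ⟨hv1, hv2⟩ := wOne_key' v hv0 (hno z K1 K2 a b F v hv)
    obtain ⟨p, hp⟩ := CC.exists_dir h F (c := 1) (by rw [hA z hz]; rfl)
    obtain ⟨a', b', F', hdir⟩ := F.exists_diag p v hv1 hv2
    refine ⟨K1, K2, a', b', F', ?_⟩
    intro t
    rw [hdir, ti_iff_dir h F (hA z hz)]
    have hpv : p + v ∈ DC Om z a b 1 := (D0.iff h F hp).1 hv
    have hpv' : p - v ∈ DC Om z a b 1 := by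
      rw [sub_eq_add_neg]; exact (D0.iff h F hp).1 (D0.neg hv)
    constructor
    · rintro ⟨q, hq, hd⟩
      have h1 : q - p ∈ D0 Om z a b := D0.sub_mem hp hq
      by_cases e0 : q - p = 0
      · left; rwa [sub_eq_zero.1 e0] at hd
      by_cases e1 : q - p = v
      · right; left
        have : q = p + v := by rw [← e1]; abel
        rwa [this] at hd
      by_cases e2 : q - p = -v
      · right; right
        have : q = p - v := by rw [sub_eq_add_neg, ← e2]; abel
        rwa [this] at hd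
      exfalso
      rcases wOne_key v (q - p) hv0 e0 e1 e2 with h2 | h2 | h2 | h2
      · exact hno z K1 K2 a b F _ hv h2
      · exact hno z K1 K2 a b F _ h1 h2
      · exact hno z K1 K2 a b F _ (D0.add h F h1 hv) h2
      · exact hno z K1 K2 a b F _ (by rw [sub_eq_add_neg]; exact D0.add h F h1 (D0.neg hv)) h2
    · rintro (hd | hd | hd)
      · exact ⟨p, hp, hd⟩
      · exact ⟨_, hpv, hd⟩
      · exact ⟨_, hpv', hd⟩
  · intro z hz
    obtain ⟨K1, K2, a, b, F⟩ := hz.exists_frame h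
    obtain ⟨v, hv0, hv⟩ := hD z K1 K2 a b F
    obtain ⟨p, hp⟩ := CC.exists_dir h F (c := 1) (by rw [hA z hz]; rfl)
    have hpv : p + v ∈ DC Om z a b 1 := (D0.iff h F hp).1 hv
    obtain ⟨d, hd, ⟨n, hn⟩, -, hdX⟩ := DC.exists_tra h F hp hpv
    rw [add_sub_cancel_left] at hd
    refine ⟨d, hd.comm, ⟨3 ^ n, Odd.pow (by decide), hn⟩, fun x hx => hdX x hx (by simp), ?_⟩
    intro s hs
    obtain ⟨q, -, hq⟩ := (ti_iff_dir h F (hA z hz)).1 hs
    have h1 := hd.dir F hq
    have hne : q + v ≠ q := by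
      intro e
      exact hv0 (by simpa using e)
    constructor
    · intro e
      rw [e] at h1
      obtain ⟨e1, e2⟩ := F.dir_unique h h1 hq
      exact hne (Prod.ext e1 e2)
    · intro e
      rw [e] at h1
      have h2 : Dir z a b (z * s) q.1 q.2 := by
        rcases hq with hq | hq
        · exact Or.inr (by rw [hq])
        · exact Or.inl (by rw [hq, F.qa.zzx])
      obtain ⟨e1, e2⟩ := F.dir_unique h h1 h2
      exact hne (Prod.ext e1 e2)

namespace AW

variable (W : AW Om)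

include W

/-- a property of the lines on `z` which is invariant under `d` holds for all lines if it holds for one -/
theorem spread (hz : InZ Om z) (Pr : G → Prop) (h1 : ∀ s, TI Om z s → Pr s → Pr (z * s))
    (h2 : ∀ g, g * z = z * g → ∀ s, TI Om z s → Pr s → Pr (g * s * g⁻¹)) (hti : TI Om z s) (hti' : TI Om z s')
    (hs : Pr s) : Pr s' := by
  have h := W.w
  obtain ⟨d, hdz, -, -, hmv⟩ := W.d3 z hz
  have hdti : ∀ {s}, TI Om z s → TI Om z (d * s * d⁻¹) := by
    intro s hs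
    have := hs.conj h d
    rwa [hdz, mul_inv_cancel_right] at this
  obtain ⟨K1, K2, a, b, D⟩ := W.dg z hti.1
  have hwti : ∀ i, TI Om z (a i * b i) := fun i => (D.ti _).2 ⟨i, Or.inl rfl⟩
  have hd : ∀ {k : Fin 3}, Dir z a b (a k * b k) k k := Or.inl rfl
  have hf : ∀ i, ∃ j, d * (a i * b i) * d⁻¹ = a j * b j ∨ d * (a i * b i) * d⁻¹ = z * (a j * b j) :=
    fun i => (D.ti _).1 (hdti (hwti i))
  choose f hf using hf
  have hdz' : d * z * d⁻¹ = z := by rw [hdz, mul_inv_cancel_right]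
  have hdmz : ∀ k : G, d * (z * k) * d⁻¹ = z * (d * k * d⁻¹) := by
    intro k
    calc d * (z * k) * d⁻¹ = (d * z * d⁻¹) * (d * k * d⁻¹) := by group
      _ = _ := by rw [hdz']
  have hinj : Function.Injective f := by
    intro i j hij
    have h1 : d * (a i * b i) * d⁻¹ = d * (a j * b j) * d⁻¹ ∨ d * (a i * b i) * d⁻¹ = d * (z * (a j * b j)) * d⁻¹ := by
      rw [hdmz]
      rcases hf i with h3 | h3 <;> rcases hf j with h4 | h4
      · left; rw [h3, h4, hij]
      · right; rw [h3, h4, hij, D.zz]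
      · right; rw [h3, h4, hij]
      · left; rw [h3, h4, hij]
    have h2 : Dir z a b (a i * b i) j j := by
      rcases h1 with h1 | h1
      · exact Or.inl (mul_left_cancel (mul_right_cancel h1))
      · exact Or.inr (mul_left_cancel (mul_right_cancel h1))
    exact (D.fr.dir_unique h hd h2).1
  have hne : ∀ i, f i ≠ i := by
    intro i hi
    obtain ⟨h1, h2⟩ := hmv _ (hwti i)
    rcases hf i with h3 | h3 <;> rw [hi] at h3
    · exact h1 h3
    · exact h2 h3
  obtain ⟨i, hi⟩ := (D.ti s).1 hti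
  obtain ⟨j, hj⟩ := (D.ti s').1 hti'
  have key0 : Pr (a i * b i) := by
    rcases hi with hi | hi
    · rw [← hi]; exact hs
    · have : a i * b i = z * s := by rw [hi, D.zz]
      rw [this]
      exact h1 _ hti hs
  have keyf : ∀ k, Pr (a k * b k) → Pr (a (f k) * b (f k)) := by
    intro k hk
    have h3 := h2 d hdz _ (hwti k) hk
    rcases hf k with h4 | h4
    · rwa [h4] at h3
    · have : a (f k) * b (f k) = z * (d * (a k * b k) * d⁻¹) := by rw [h4, D.zz]
      rw [this]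
      exact h1 _ (hdti (hwti k)) h3
  have keyj : Pr (a j * b j) := by
    rcases AW2.fin_three f hinj hne i j with h3 | h3 | h3 <;> rw [h3]
    · exact key0
    · exact keyf _ key0
    · exact keyf _ (keyf _ key0)
  rcases hj with hj | hj
  · rw [hj]; exact keyj
  · rw [hj]; exact h1 _ (hwti j) keyj

/-- all lines have the same type -/
theorem one_or_two : (∀ z s, TI Om z s → ¬ PTwo Om z s) ∨ (∀ z s, TI Om z s → PTwo Om z s) := by
  have h := W.w
  by_cases h1 : ∀ z s, TI Om z s → ¬ PTwo Om z s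
  · exact Or.inl h1
  right
  push Not at h1
  obtain ⟨z, s, hti, h2⟩ := h1
  intro z' s' hti'
  obtain ⟨g, hg⟩ := W.cls z' z hti'.1 hti.1
  have hti'' := hti'.conj h g
  rw [hg] at hti''
  have h3 : PTwo Om z (g * s' * g⁻¹) := by
    refine W.spread hti.1 (PTwo Om z) (fun s hs h3 => h3.mul h hs) (fun g hg s hs h3 => ?_) hti hti'' h2
    have := h3.conj h g
    rwa [hg, mul_inv_cancel_right] at this
  have h4 := h3.conj h g⁻¹
  have e1 : g⁻¹ * z * g⁻¹⁻¹ = z' := by rw [← hg]; group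
  have e2 : g⁻¹ * (g * s' * g⁻¹) * g⁻¹⁻¹ = s' := by group
  rwa [e1, e2] at h4

/-- **(A), `k = 1`**: all the characters `eps` agree -/
theorem eqEps (hSC : SCe Om) (hz : InZ Om z) : EqEps Om := by
  have h := W.w
  rcases W.one_or_two with h1 | h1
  · rcases W.pone h1 with h2 | h2
    · exfalso
      have h3 := hSC (AS Om) (fun g z _ => (AS_conj h g).symm) (fun z hz x hx => by
        rw [mem_centralizer_singleton_iff]
        exact W.AS_comm hz hx z_mem_AS) h2 z hz
      have h4 : z ∈ AS Om z := z_mem_AS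
      rw [h3, mem_bot] at h4
      exact hz.z1 h h4
    · exact h2
  · exact (AW2.false_of ⟨W, h1⟩ hSC hz).elim

end AW

end

end Cfsg.Agent.Cit.Nil.RTwo
end

-- part: Cit/Nil/RTwo/Diag
section
prune_inst 0x400000
set_option linter.all false
open scoped Cfsg.Agent.FastGrp

/-!
# The shape of `D0`; the worlds (U) and (S)

* `Frame.cj`, `Dir.cj`, `DC.cj`, `Tra.cj`, `D0.cj`, `CaseS.cj` : conjugation;
* `D0.sub` : `D0` as a subgroup; `D0.swp` : an element of `C(z)` interchanging the members over `z`;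
* `D0.cases` : `D0` is everything or contains no vector of weight one; `D0.diag` : `U10.diag`;
* `UU Om z` : (U) at `z`; `SB Om` : the world (S); `dichotomy` : (U) everywhere or `SB`;
* `CaseS.exists_diag` : a transversal of diagonal direction.
-/

set_option autoImplicit false
set_option linter.style.haveILetI false
set_option linter.unusedSectionVars false
set_option maxHeartbeats 400000

namespace Cfsg.Agent.Cit.Nil.RTwo

open Subgroup Cfsg Cit

variable {G : Type*} [Group G]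

section

variable [Finite G] {Om : Set (Subgroup G)} {K K1 K2 L L1 L2 : Subgroup G} {z t g k x y w c c' u d : G}
  {a b : Fin 3 → G} {v v' p q : Fin 3 × Fin 3}

/-! ### Conjugation -/

theorem Frame.cj (F : Frame Om z K1 K2 a b) (h : W2 Om) (g : G) :
    Frame Om (g * z * g⁻¹) (Cit.cj g K1) (Cit.cj g K2) (fun i => g * a i * g⁻¹) (fun i => g * b i * g⁻¹) :=
  ⟨F.k1.cj h g, F.k2.cj h g, fun e => F.ne (cj_inj.1 e), F.qa.conj g, F.qb.conj g⟩

theorem Dir.cj {i j : Fin 3} (hd : Dir z a b w i j) (g : G) :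
    Dir (g * z * g⁻¹) (fun i => g * a i * g⁻¹) (fun i => g * b i * g⁻¹) (g * w * g⁻¹) i j := by
  rcases hd with rfl | rfl
  · left; group
  · right; group

theorem DC.cj (h : W2 Om) (hp : p ∈ DC Om z a b c) (g : G) :
    p ∈ DC Om (g * z * g⁻¹) (fun i => g * a i * g⁻¹) (fun i => g * b i * g⁻¹) (g * c * g⁻¹) := by
  obtain ⟨t, l, hd⟩ := hp
  refine ⟨_, l.conj h g, ?_⟩
  have h1 := hd.cj g
  have e : g * t * g⁻¹ * (g * c * g⁻¹) = g * (t * c) * g⁻¹ := by group
  rw [e]; exact h1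

theorem conj_conj_inv (g x : G) : g⁻¹ * (g * x * g⁻¹) * g⁻¹⁻¹ = x := by group

theorem DC.cj_iff (h : W2 Om) (g : G) :
    p ∈ DC Om (g * z * g⁻¹) (fun i => g * a i * g⁻¹) (fun i => g * b i * g⁻¹) (g * c * g⁻¹) ↔ p ∈ DC Om z a b c := by
  refine ⟨fun hp => ?_, fun hp => DC.cj h hp g⟩
  have h1 := DC.cj h hp g⁻¹
  simp only [conj_conj_inv] at h1
  exact h1

theorem Act.cj {x y : Fin 3 → G} {σ : Equiv.Perm (Fin 3)} (ha : Act z x y k σ) (g : G) :
    Act (g * z * g⁻¹) (fun i => g * x i * g⁻¹) (fun i => g * y i * g⁻¹) (g * k * g⁻¹) σ := by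
  intro i
  have e : g * k * g⁻¹ * (g * x i * g⁻¹) * (g * k * g⁻¹)⁻¹ = g * (k * x i * k⁻¹) * g⁻¹ := by group
  show g * k * g⁻¹ * (g * x i * g⁻¹) * (g * k * g⁻¹)⁻¹ = g * y (σ i) * g⁻¹ ∨ g * k * g⁻¹ * (g * x i * g⁻¹) *
    (g * k * g⁻¹)⁻¹ = g * z * g⁻¹ * (g * y (σ i) * g⁻¹)
  rw [e]
  rcases ha i with h1 | h1
  · left; rw [h1]
  · right; rw [h1]; group

theorem Tra.cj (ht : Tra z a b k v) (g : G) :
    Tra (g * z * g⁻¹) (fun i => g * a i * g⁻¹) (fun i => g * b i * g⁻¹) (g * k * g⁻¹) v where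
  comm := by
    calc g * k * g⁻¹ * (g * z * g⁻¹) = g * (k * z) * g⁻¹ := by group
      _ = g * (z * k) * g⁻¹ := by rw [ht.comm]
      _ = _ := by group
  a := ht.a.cj g
  b := ht.b.cj g

theorem Tra.of_cj (g : G) (ht : Tra (g * z * g⁻¹) (fun i => g * a i * g⁻¹) (fun i => g * b i * g⁻¹) k v) :
    Tra z a b (g⁻¹ * k * g⁻¹⁻¹) v := by
  have h1 := ht.cj g⁻¹
  simp only [conj_conj_inv] at h1
  exact h1

theorem D0.cj_iff (h : W2 Om) (g : G) :
    v ∈ D0 Om (g * z * g⁻¹) (fun i => g * a i * g⁻¹) (fun i => g * b i * g⁻¹) ↔ v ∈ D0 Om z a b := by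
  constructor
  · rintro ⟨c, p, hp, hq⟩
    obtain ⟨c', rfl⟩ : ∃ c', c = g * c' * g⁻¹ := ⟨g⁻¹ * c * g, by group⟩
    exact ⟨c', p, (DC.cj_iff h g).1 hp, (DC.cj_iff h g).1 hq⟩
  · rintro ⟨c, p, hp, hq⟩
    exact ⟨_, p, DC.cj h hp g, DC.cj h hq g⟩

theorem CC.cj_iff (h : W2 Om) (g : G) : g * c * g⁻¹ ∈ CC Om (g * z * g⁻¹) ↔ c ∈ CC Om z := by
  refine ⟨fun hc => ?_, fun hc => CC.conj h hc g⟩
  have h1 := CC.conj h hc g⁻¹
  rwa [conj_conj_inv, conj_conj_inv] at h1

theorem CaseS.cj {c0 c1 c2 : G} (S : CaseS Om z a b c0 c1 c2) (h : W2 Om) (g : G) :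
    CaseS Om (g * z * g⁻¹) (fun i => g * a i * g⁻¹) (fun i => g * b i * g⁻¹) (g * c0 * g⁻¹) (g * c1 * g⁻¹)
      (g * c2 * g⁻¹) where
  cc := by
    ext c
    obtain ⟨c', rfl⟩ : ∃ c', c = g * c' * g⁻¹ := ⟨g⁻¹ * c * g, by group⟩
    rw [CC.cj_iff h, S.cc]
    simp only [Set.mem_insert_iff, Set.mem_singleton_iff, mul_left_inj, mul_right_inj]
  n01 := fun e => S.n01 (mul_left_cancel (mul_right_cancel e))
  n02 := fun e => S.n02 (mul_left_cancel (mul_right_cancel e))
  n12 := fun e => S.n12 (mul_left_cancel (mul_right_cancel e))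
  mul := by
    rw [← S.mul]; group
  cen := by
    intro c hc x hx
    obtain ⟨c', rfl⟩ : ∃ c', c = g * c' * g⁻¹ := ⟨g⁻¹ * c * g, by group⟩
    obtain ⟨x', rfl⟩ : ∃ x', x = g * x' * g⁻¹ := ⟨g⁻¹ * x * g, by group⟩
    rw [CC.cj_iff h] at hc
    rw [CX_conj h] at hx
    have h1 := S.cen c' hc x' hx
    calc g * x' * g⁻¹ * (g * c' * g⁻¹) = g * (x' * c') * g⁻¹ := by group
      _ = g * (c' * x') * g⁻¹ := by rw [h1]
      _ = _ := by group
  ex := by
    obtain ⟨k, v, h1, h2, h3, h4, h5, h6⟩ := S.ex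
    refine ⟨g * k * g⁻¹, v, h1.cj g, ?_, ?_, ?_, fun h7 => h5 ((D0.cj_iff h g).1 h7), ?_⟩
    · rw [← h2]; group
    · rw [← h3]; group
    · rw [← h4]; group
    · intro k' v' hk'
      rw [D0.cj_iff h, D0.cj_iff h, D0.cj_iff h]
      exact h6 _ v' (Tra.of_cj g hk')

/-! ### `D0` as a subgroup -/

/-- `D0` -/
def D0.sub (h : W2 Om) (F : Frame Om z K1 K2 a b) (hn : (CC Om z).Nonempty) : AddSubgroup (Fin 3 × Fin 3) where
  carrier := D0 Om z a b
  add_mem' := fun h1 h2 => D0.add h F h1 h2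
  zero_mem' := D0.zero h F hn
  neg_mem' := fun h1 => D0.neg h1

/-- the directions of all lines -/
def DT (Om : Set (Subgroup G)) (z : G) (a b : Fin 3 → G) : Set (Fin 3 × Fin 3) := {p | ∃ c, p ∈ DC Om z a b c}

/-- `id` or `-` on `Fin 3` -/
def Sg (f : Fin 3 → Fin 3) : Prop := (∀ x, f x = x) ∨ ∀ x, f x = -x

theorem sg_perm : ∀ σ : Equiv.Perm (Fin 3), (∀ x y, σ (x + y) - σ x = y) ∨ (∀ x y, σ (x + y) - σ x = -y) := by
  decide

theorem exists_sg (σ : Equiv.Perm (Fin 3)) : ∃ f, Sg f ∧ ∀ x y, σ y - σ x = f (y - x) := by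
  rcases sg_perm σ with h | h
  · refine ⟨fun x => x, Or.inl fun _ => rfl, fun x y => ?_⟩
    have := h x (y - x)
    rwa [add_sub_cancel] at this
  · refine ⟨fun x => -x, Or.inr fun _ => rfl, fun x y => ?_⟩
    have := h x (y - x)
    rwa [add_sub_cancel] at this

/-- an element of `C(z)` interchanging the members over `z` -/
theorem D0.swp (h : W2 Om) (F : Frame Om z K1 K2 a b) (hg : g * z = z * g) (hsw : Sw Om z g) :
    ∃ f e, Sg f ∧ Sg e ∧ (∀ v ∈ D0 Om z a b, (f v.2, e v.1) ∈ D0 Om z a b) ∧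
      ∀ p ∈ DT Om z a b, ∀ q ∈ DT Om z a b, ∃ p' ∈ DT Om z a b, ∃ q' ∈ DT Om z a b,
        q' - p' = (f (q - p).2, e (q - p).1) := by
  rcases F.act_cases h hg with ⟨h1, -⟩ | ⟨-, -, σ, τ, h1, h2⟩
  · exact absurd h1 (hsw _ F.k1)
  obtain ⟨e, he, he'⟩ := exists_sg σ
  obtain ⟨f, hf, hf'⟩ := exists_sg τ
  have key : ∀ {p : Fin 3 × Fin 3} {c : G}, p ∈ DC Om z a b c → (τ p.2, σ p.1) ∈ DC Om z a b (g * c * g⁻¹) := by
    rintro p c ⟨t, l, hd⟩
    refine ⟨_, l.conj_comm h hg, ?_⟩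
    have h3 := F.dir_conj' h hg h1 h2 hd
    have e1 : g * t * g⁻¹ * (g * c * g⁻¹) = g * (t * c) * g⁻¹ := by group
    rw [e1]; exact h3
  refine ⟨f, e, hf, he, ?_, ?_⟩
  · rintro v ⟨c, p, hp, hq⟩
    have h3 := D0.sub_mem (key hp) (key hq)
    have e1 : ((τ (p + v).2, σ (p + v).1) : Fin 3 × Fin 3) - (τ p.2, σ p.1) = (f v.2, e v.1) := by
      refine Prod.ext ?_ ?_
      · show τ (p + v).2 - τ p.2 = f v.2
        rw [hf']
        have : (p + v).2 - p.2 = v.2 := add_sub_cancel_left _ _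
        rw [this]
      · show σ (p + v).1 - σ p.1 = e v.1
        rw [he']
        have : (p + v).1 - p.1 = v.1 := add_sub_cancel_left _ _
        rw [this]
    rwa [e1] at h3
  · rintro p ⟨c, hp⟩ q ⟨c', hq⟩
    refine ⟨_, ⟨_, key hp⟩, _, ⟨_, key hq⟩, ?_⟩
    refine Prod.ext ?_ ?_
    · show τ q.2 - τ p.2 = f (q - p).2
      rw [hf']; rfl
    · show σ q.1 - σ p.1 = e (q - p).1
      rw [he']; rfl

theorem Sg.ne {f : Fin 3 → Fin 3} (hf : Sg f) {x : Fin 3} (hx : x ≠ 0) : f x ≠ 0 := by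
  rcases hf with h | h
  · rw [h]; exact hx
  · rw [h]; exact neg_ne_zero.2 hx

theorem Sg.zero {f : Fin 3 → Fin 3} (hf : Sg f) : f 0 = 0 := by
  rcases hf with h | h
  · rw [h]
  · rw [h, neg_zero]

theorem Sg.or {f : Fin 3 → Fin 3} (hf : Sg f) (x : Fin 3) : f x = x ∨ f x = -x := by
  rcases hf with h | h
  · left; exact h x
  · right; exact h x

theorem gen_key : ∀ x y : Fin 3, x ≠ 0 → y ≠ 0 → ∀ w : Fin 3 × Fin 3, ∃ m n : Fin 3,
    w = (m : ℕ) • ((x, 0) : Fin 3 × Fin 3) + (n : ℕ) • ((0, y) : Fin 3 × Fin 3) := by decide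

/-- `D0` is everything or contains no vector of weight one -/
theorem D0.cases (h : W2 Om) (F : Frame Om z K1 K2 a b) (hn : (CC Om z).Nonempty)
    (hg : ∃ g, g * z = z * g ∧ Sw Om z g) :
    (∀ v, v ∈ D0 Om z a b) ∨ ∀ v ∈ D0 Om z a b, v = 0 ∨ (v.1 ≠ 0 ∧ v.2 ≠ 0) := by
  obtain ⟨g, hg1, hg2⟩ := hg
  obtain ⟨f, e, hf, he, hD, -⟩ := D0.swp h F hg1 hg2
  have key : ∀ x y : Fin 3, x ≠ 0 → y ≠ 0 → (x, 0) ∈ D0 Om z a b → (0, y) ∈ D0 Om z a b →
      ∀ v, v ∈ D0 Om z a b := by
    intro x y hx hy h1 h2 w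
    obtain ⟨m, n, hw⟩ := gen_key x y hx hy w
    rw [hw]
    exact (D0.sub h F hn).add_mem ((D0.sub h F hn).nsmul_mem h1 _) ((D0.sub h F hn).nsmul_mem h2 _)
  by_cases hw : ∃ v ∈ D0 Om z a b, ¬ (v = 0 ∨ (v.1 ≠ 0 ∧ v.2 ≠ 0))
  · left
    obtain ⟨⟨x, y⟩, hv, hv'⟩ := hw
    have h1 := hD _ hv
    push Not at hv'
    obtain ⟨hv0, hv1⟩ := hv'
    by_cases hx : x = 0
    · have hy : y ≠ 0 := fun e => hv0 (by rw [hx, e]; rfl)
      subst hx
      have h2 : ((f y, (0 : Fin 3)) : Fin 3 × Fin 3) ∈ D0 Om z a b := by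
        have := h1
        simp only [he.zero] at this
        exact this
      exact key _ _ (hf.ne hy) hy h2 hv
    · have hy : y = 0 := hv1 hx
      subst hy
      have h2 : (((0 : Fin 3), e x) : Fin 3 × Fin 3) ∈ D0 Om z a b := by
        have := h1
        simp only [hf.zero] at this
        exact this
      exact key _ _ hx (he.ne hx) hv h2
  · right
    push Not at hw
    exact hw

theorem diag_mul_key : ∀ v : Fin 3 × Fin 3, v.1 ≠ 0 → v.2 ≠ 0 → (∀ i : Fin 3, ∃ n : Fin 3, (i, i) = (n : ℕ) • v) ∨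
    (∀ i : Fin 3, ∃ n : Fin 3, ((i, -i) : Fin 3 × Fin 3) = (n : ℕ) • v) := by decide

/-- `U10.diag` of section 10 -/
theorem D0.diag (h : W2 Om) (F : Frame Om z K1 K2 a b) (hg : ∃ g, g * z = z * g ∧ Sw Om z g)
    (hv : v ∈ D0 Om z a b) (hv0 : v ≠ 0) (hp : p ∈ DC Om z a b c) :
    (∀ i, (p.1 + i, p.2 + i) ∈ DC Om z a b c) ∨ (∀ i, (p.1 + i, p.2 - i) ∈ DC Om z a b c) := by
  have hn : (CC Om z).Nonempty := ⟨c, DC.mem_CC hp⟩
  rcases D0.cases h F hn hg with h1 | h1
  · left
    intro i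
    exact (D0.iff h F hp).1 (h1 (i, i))
  · rcases h1 v hv with h2 | ⟨h2, h3⟩
    · exact absurd h2 hv0
    rcases diag_mul_key v h2 h3 with h4 | h4
    · left
      intro i
      obtain ⟨n, hn'⟩ := h4 i
      refine (D0.iff h F hp (v := (i, i))).1 ?_
      rw [hn']; exact (D0.sub h F hn).nsmul_mem hv _
    · right
      intro i
      obtain ⟨n, hn'⟩ := h4 i
      have h5 := (D0.iff h F hp (v := (i, -i))).1 (by rw [hn']; exact (D0.sub h F hn).nsmul_mem hv _)
      have e : ((p.1 + i, p.2 - i) : Fin 3 × Fin 3) = p + (i, -i) := by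
        refine Prod.ext rfl ?_
        show p.2 - i = p.2 + -i
        rw [sub_eq_add_neg]
      rw [e]; exact h5

/-- in the presence of a nontrivial label an element of `C(z)` interchanges the members over `z` -/
theorem exists_swap_of_ne (h : W2 Om) (l : Lab Om z t c) (hc : c ≠ 1) : ∃ g, g * z = z * g ∧ Sw Om z g := by
  have h1 : PTwo Om z t := by
    by_contra h2
    exact hc (l.eq_one h h2)
  obtain ⟨r, -, h3, h4⟩ := h1.symm h l.ti
  exact ⟨r, h3, h4⟩

/-! ### The dichotomy -/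

/-- (U) at `z` -/
def UU (Om : Set (Subgroup G)) (z : G) : Prop :=
  ∀ K1 K2 a b g v, Frame Om z K1 K2 a b → Tra z a b g v → v ∈ D0 Om z a b

/-- the world (S) -/
structure SB (Om : Set (Subgroup G)) : Prop where
  w : W2 Om
  cf : CF Om
  cls : ∀ z t, InZ Om z → InZ Om t → ∃ g, g * z * g⁻¹ = t
  s : ∀ z, InZ Om z → ∃ K1 K2 a b c0 c1 c2, Frame Om z K1 K2 a b ∧ CaseS Om z a b c0 c1 c2

/-- (U) everywhere or (S) everywhere -/
theorem dichotomy (h : W2 Om) (hF : CF Om) (hcls : ∀ z t, InZ Om z → InZ Om t → ∃ g, g * z * g⁻¹ = t)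
    (hI : ∃ z t, TI Om z t) : (∀ z, InZ Om z → UU Om z) ∨ SB Om := by
  by_cases hU : ∀ z, InZ Om z → UU Om z
  · exact Or.inl hU
  right
  push Not at hU
  obtain ⟨z0, hz0, hU⟩ := hU
  unfold UU at hU
  push Not at hU
  obtain ⟨K1, K2, a, b, g, v, F, ht, hv⟩ := hU
  have hn : (CC Om z0).Nonempty := by
    obtain ⟨z, t, hti⟩ := hI
    obtain ⟨c, l⟩ := hti.exists_lab h
    obtain ⟨k, hk⟩ := hcls z z0 hti.1 hz0
    exact ⟨_, _, hk ▸ l.conj h k⟩
  rcases thm_one h hF F hn with h1 | ⟨c0, c1, c2, S⟩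
  · exact absurd (h1 g v ht) hv
  · refine ⟨h, hF, hcls, fun z hz => ?_⟩
    obtain ⟨k, rfl⟩ := hcls z0 z hz0 hz
    exact ⟨_, _, _, _, _, _, _, F.cj h k, S.cj h k⟩

/-! ### (S): a diagonal transversal -/

theorem diag_key (P : AddSubgroup (Fin 3 × Fin 3)) (v : Fin 3 × Fin 3) (hv : v ∉ P) {f e : Fin 3 → Fin 3} (hf : Sg f)
    (he : Sg e) (hP : ∀ u ∈ P, (f u.2, e u.1) ∈ P)
    (hE : (f v.2, e v.1) ∈ P ∨ (f v.2, e v.1) - v ∈ P ∨ (f v.2, e v.1) + v ∈ P) :
    ∃ u ∈ P, (v + u).1 ≠ 0 ∧ (v + u).2 ≠ 0 := by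
  obtain ⟨x, y⟩ := v
  have two : ∀ x : Fin 3, x ≠ 0 → x + x ≠ 0 := by decide
  have hneg : ∀ {w : Fin 3 × Fin 3}, -w ∈ P → w ∈ P := fun {w} hw => by
    have := P.neg_mem hw; rwa [neg_neg] at this
  by_cases hx : x = 0 <;> by_cases hy : y = 0
  · exact absurd (by rw [hx, hy]; exact P.zero_mem) hv
  · subst hx
    simp only [he.zero] at hE
    rcases hE with h1 | h1 | h1
    · exfalso
      have h2 := hP _ h1
      simp only [hf.zero] at h2
      apply hv
      rcases he.or (f y) with h3 | h3 <;> rcases hf.or y with h4 | h4 <;> rw [h3, h4] at h2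
      · exact h2
      · have e1 : (((0 : Fin 3), -y) : Fin 3 × Fin 3) = -(0, y) := by simp
        rw [e1] at h2; exact hneg h2
      · have e1 : (((0 : Fin 3), -y) : Fin 3 × Fin 3) = -(0, y) := by simp
        rw [e1] at h2; exact hneg h2
      · rwa [neg_neg] at h2
    · refine ⟨-((f y, 0) - (0, y)), P.neg_mem h1, ?_, ?_⟩
      · show 0 + -(f y - 0) ≠ 0
        rw [zero_add, sub_zero]; exact neg_ne_zero.2 (hf.ne hy)
      · show y + -(0 - y) ≠ 0
        rw [zero_sub, neg_neg]; exact two y hy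
    · refine ⟨(f y, 0) + (0, y), h1, ?_, ?_⟩
      · show 0 + (f y + 0) ≠ 0
        rw [zero_add, add_zero]; exact hf.ne hy
      · show y + (0 + y) ≠ 0
        rw [zero_add]; exact two y hy
  · subst hy
    simp only [hf.zero] at hE
    rcases hE with h1 | h1 | h1
    · exfalso
      have h2 := hP _ h1
      simp only [he.zero] at h2
      apply hv
      rcases hf.or (e x) with h3 | h3 <;> rcases he.or x with h4 | h4 <;> rw [h3, h4] at h2
      · exact h2
      · have e1 : ((-x, (0 : Fin 3)) : Fin 3 × Fin 3) = -(x, 0) := by simp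
        rw [e1] at h2; exact hneg h2
      · have e1 : ((-x, (0 : Fin 3)) : Fin 3 × Fin 3) = -(x, 0) := by simp
        rw [e1] at h2; exact hneg h2
      · rwa [neg_neg] at h2
    · refine ⟨-((0, e x) - (x, 0)), P.neg_mem h1, ?_, ?_⟩
      · show x + -(0 - x) ≠ 0
        rw [zero_sub, neg_neg]; exact two x hx
      · show 0 + -(e x - 0) ≠ 0
        rw [zero_add, sub_zero]; exact neg_ne_zero.2 (he.ne hx)
    · refine ⟨(0, e x) + (x, 0), h1, ?_, ?_⟩
      · show x + (0 + x) ≠ 0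
        rw [zero_add]; exact two x hx
      · show 0 + (e x + 0) ≠ 0
        rw [zero_add, add_zero]; exact he.ne hx
  · exact ⟨0, P.zero_mem, by simpa using hx, by simpa using hy⟩

end

end Cfsg.Agent.Cit.Nil.RTwo
end

-- part: Cit/Nil/Comp/AO/BenCen
section
set_option linter.all false
open scoped Cfsg.Agent.FastGrp

/-!
# S1309 (6b), `r = 1`, COMP, AllOne, (M2), piece (P2): involutions in 2-subgroups of the groups of Bender's list (helper815)

`comm_of_concl` : in a group of Bender's list an involution of a 2-subgroup `P` is central in `P`.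
-/

set_option autoImplicit false

namespace Cfsg.Agent.Cit.Nil.Comp.AO

open Cfsg Cfsg.Agent.LieRecognition Cfsg.Agent.LieRecognition.HermHeis Cfsg.Agent.LieRecognition.PSUThreeSylow
open Cfsg.Agent.LieRecognition.SzMatrix Cfsg.Agent.BenderType.Inv Cfsg.Agent.BenderType.Classify

/-- the involutions are central -/
def IC (S : Type*) [Group S] : Prop := ∀ x y : S, x * x = 1 → x * y = y * x

theorem IC.congr {S T : Type*} [Group S] [Group T] (h : IC S) (e : S ≃* T) : IC T := by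
  intro x y hx
  apply e.symm.injective
  rw [map_mul, map_mul]
  exact h _ _ (by rw [← map_mul, hx, map_one])

theorem IC.of_comm {S : Type*} [Group S] (h : IsMulCommutative S) : IC S :=
  fun x y _ => h.is_comm.comm x y

theorem ic_heis {F : Type*} [Field F] [CharP F 2] {σ : F →+* F} [hσ : Fact (∀ x, σ (σ x) = x)] :
    IC (Heis σ) := by
  intro x y hx
  rw [HermHeis.mul_self_eq_one_iff] at hx
  rw [commute_iff, hx, zero_mul, map_zero, mul_zero]

theorem ic_unip {F : Type*} [Field F] {θ : F →+* F} {e : ℕ} (H : Good F θ e) : IC H.unip := by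
  rintro ⟨x, hx⟩ ⟨y, hy⟩ h1
  obtain ⟨a, b, rfl⟩ := (H.mem_unip_iff x).1 hx
  obtain ⟨c, d, rfl⟩ := (H.mem_unip_iff y).1 hy
  have h2 : H.u a b * H.u a b = 1 := congrArg Subtype.val h1
  have ha : a = 0 := by
    have h3 : H.u a b * H.u a b = H.u 0 0 := by rw [h2, H.u_zero]
    rw [H.u_mul] at h3
    have h4 := (H.u_inj h3).2
    have h5 : a * θ a = 0 := by
      have h6 := H.add_self b
      linear_combination h4 - h6
    rcases mul_eq_zero.1 h5 with h6 | h6
    · exact h6
    · exact (map_eq_zero θ).1 h6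
  subst ha
  apply Subtype.ext
  show H.u 0 b * H.u c d = H.u c d * H.u 0 b
  rw [H.u_mul, H.u_mul]
  congr 1
  · ring
  · rw [map_zero]
    ring

/-- the involutions of the Sylow 2-subgroups of the groups of Bender's list are central -/
theorem ic_of_concl {G : Type*} [Group G] [Finite G] (hG : Concl G) (S : Sylow 2 G) :
    IC (S : Subgroup G) := by
  have : Fact (Nat.Prime 2) := ⟨Nat.prime_two⟩
  rcases hG with ⟨F, i1, i2, ⟨k, -, hF⟩, ⟨e⟩⟩ | ⟨F, i1, i2, m, hm, hF, ⟨e⟩⟩ |
      ⟨F, i1, i2, k, hk, hF, ⟨e⟩⟩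
  · by_contra hcon
    refine not_psl S (fun hc => hcon (IC.of_comm hc)) hF e
  · have H := good hF
    have hcF : Nat.card F = 2 ^ (2 * m + 1) := by rw [Nat.card_eq_fintype_card, hF]
    have hodd : ¬ 2 ∣ H.unip.index := by
      have h1 := Subgroup.card_mul_index H.unip
      rw [(S1163.result hm hF).1, H.card_unip, hcF, mul_assoc] at h1
      have h2 := Nat.eq_of_mul_eq_mul_left (by positivity) h1
      rw [h2]
      intro h
      rcases (Nat.Prime.dvd_mul Nat.prime_two).mp h with h | h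
      · have h1 : 1 ≤ 2 ^ (2 * m + 1) := Nat.one_le_two_pow
        have h2 : 2 ∣ 2 ^ (2 * m + 1) := dvd_pow_self 2 (by omega)
        omega
      · have h2 : 2 ∣ (2 ^ (2 * m + 1)) ^ 2 := dvd_pow (dvd_pow_self 2 (by omega)) (by omega)
        omega
    have hpg : IsPGroup 2 H.unip := by
      apply IsPGroup.of_card (n := (2 * m + 1) * 2)
      rw [H.card_unip, hcF, ← pow_mul]
    have : Finite ↥(Cfsg.Lie.Sz F (2 ^ (m + 1))) := Finite.of_equiv G e.toEquiv
    let T : Sylow 2 ↥(Cfsg.Lie.Sz F (2 ^ (m + 1))) := S.mapSurjective (f := e.toMonoidHom) e.surjective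
    have h1 : IC (T : Subgroup ↥(Cfsg.Lie.Sz F (2 ^ (m + 1)))) :=
      (ic_unip H).congr ((hpg.toSylow hodd).equiv T)
    exact h1.congr (e.subgroupMap (S : Subgroup G)).symm
  · have hF' : Nat.card F = (2 ^ k) ^ 2 := by rw [Nat.card_eq_fintype_card, hF]
    obtain ⟨h2, σ, hσ, hs, -, h⟩ := exists_heis_equiv F (show 1 ≤ k by omega) hF'
    obtain ⟨f⟩ := h (S.mapSurjective (f := e.toMonoidHom) e.surjective)
    exact (ic_heis.congr f).congr (e.subgroupMap (S : Subgroup G)).symm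

/-- an involution of a 2-subgroup of a group of Bender's list is central in it -/
theorem comm_of_concl {G : Type*} [Group G] [Finite G] (hG : Concl G) {P : Subgroup G} (hP : IsPGroup 2 P)
    {x y : G} (hx : x ∈ P) (hy : y ∈ P) (hxx : x * x = 1) : x * y = y * x := by
  obtain ⟨S, hS⟩ := hP.exists_le_sylow
  exact congrArg Subtype.val (ic_of_concl hG S ⟨x, hS hx⟩ ⟨y, hS hy⟩ (Subtype.ext hxx))

end Cfsg.Agent.Cit.Nil.Comp.AO
end

-- part: Cit/CloBenZ
section
set_option linter.all false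
open scoped Cfsg.Agent.FastGrp

/-!
# Involutions are central in the Sylow 2-subgroups of the groups of Bender's list
-/

set_option autoImplicit false

namespace Cfsg.Agent.Cit.CloBen

open Cfsg Cfsg.Agent.LieRecognition Cfsg.Agent.LieRecognition.HermHeis Cfsg.Agent.LieRecognition.PSUThreeSylow
open Cfsg.Agent.LieRecognition.SzMatrix Cfsg.Agent.BenderType.Inv Cfsg.Agent.BenderType.Classify

/-- elements with `x * x = 1` are central -/
def IC (S : Type*) [Group S] : Prop :=
  ∀ x y : S, x * x = 1 → x * y = y * x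

theorem IC.congr {S T : Type*} [Group S] [Group T] (h : IC S) (e : S ≃* T) : IC T := by
  intro x y hx
  apply e.symm.injective
  rw [map_mul, map_mul]
  refine h (e.symm x) _ ?_
  rw [← map_mul, hx, map_one]

theorem IC.of_comm {S : Type*} [Group S] (h : IsMulCommutative S) : IC S :=
  fun x y _ => h.is_comm.comm x y

theorem ic_heis {F : Type*} [Field F] [CharP F 2] {σ : F →+* F} [hσ : Fact (∀ x, σ (σ x) = x)] :
    IC (Heis σ) := by
  intro x y hx
  rw [HermHeis.mul_self_eq_one_iff] at hx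
  rw [commute_iff, hx, zero_mul, map_zero, mul_zero]

theorem ic_unip {F : Type*} [Field F] {θ : F →+* F} {e : ℕ} (H : Good F θ e) : IC H.unip := by
  rintro ⟨x, hx⟩ ⟨y, hy⟩ h1
  obtain ⟨a, b, rfl⟩ := (H.mem_unip_iff x).1 hx
  obtain ⟨c, d, rfl⟩ := (H.mem_unip_iff y).1 hy
  have h4 : H.u a b * H.u a b = H.u 0 0 := (congrArg Subtype.val h1).trans H.u_zero.symm
  rw [H.u_mul] at h4
  have h6 := (H.u_inj h4).2
  have ha : a = 0 := by
    have h7 : a * θ a = 0 := by
      have h8 := H.add_self b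
      linear_combination h6 - h8
    rcases mul_eq_zero.1 h7 with h | h
    · exact h
    · rwa [map_eq_zero] at h
  subst ha
  apply Subtype.ext
  show H.u 0 b * H.u c d = H.u c d * H.u 0 b
  rw [H.u_mul, H.u_mul]
  congr 1
  · ring
  · rw [map_zero]; ring

theorem ic_of_concl {G : Type*} [Group G] [Finite G] (hG : Concl G) (S : Sylow 2 G) :
    IC (S : Subgroup G) := by
  have : Fact (Nat.Prime 2) := ⟨Nat.prime_two⟩
  rcases hG with ⟨F, i1, i2, ⟨k, -, hF⟩, ⟨e⟩⟩ | ⟨F, i1, i2, m, hm, hF, ⟨e⟩⟩ |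
      ⟨F, i1, i2, k, hk, hF, ⟨e⟩⟩
  · by_contra hcon
    refine not_psl S (fun hc => hcon (IC.of_comm hc)) hF e
  · have H := good hF
    have hcF : Nat.card F = 2 ^ (2 * m + 1) := by rw [Nat.card_eq_fintype_card, hF]
    have hodd : ¬ 2 ∣ H.unip.index := by
      have h1 := Subgroup.card_mul_index H.unip
      rw [(S1163.result hm hF).1, H.card_unip, hcF, mul_assoc] at h1
      have h2 := Nat.eq_of_mul_eq_mul_left (by positivity) h1
      rw [h2]
      intro h
      rcases (Nat.Prime.dvd_mul Nat.prime_two).mp h with h | h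
      · have h1 : 1 ≤ 2 ^ (2 * m + 1) := Nat.one_le_two_pow
        have h2 : 2 ∣ 2 ^ (2 * m + 1) := dvd_pow_self 2 (by omega)
        omega
      · have h2 : 2 ∣ (2 ^ (2 * m + 1)) ^ 2 := dvd_pow (dvd_pow_self 2 (by omega)) (by omega)
        omega
    have hpg : IsPGroup 2 H.unip := by
      apply IsPGroup.of_card (n := (2 * m + 1) * 2)
      rw [H.card_unip, hcF, ← pow_mul]
    have : Finite ↥(Cfsg.Lie.Sz F (2 ^ (m + 1))) := Finite.of_equiv G e.toEquiv
    let T : Sylow 2 ↥(Cfsg.Lie.Sz F (2 ^ (m + 1))) := S.mapSurjective (f := e.toMonoidHom) e.surjective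
    have h1 : IC (T : Subgroup ↥(Cfsg.Lie.Sz F (2 ^ (m + 1)))) :=
      (ic_unip H).congr ((hpg.toSylow hodd).equiv T)
    exact h1.congr (e.subgroupMap (S : Subgroup G)).symm
  · have hF' : Nat.card F = (2 ^ k) ^ 2 := by rw [Nat.card_eq_fintype_card, hF]
    obtain ⟨h2, σ, hσ, hs, -, h⟩ := exists_heis_equiv F (show 1 ≤ k by omega) hF'
    obtain ⟨f⟩ := h (S.mapSurjective (f := e.toMonoidHom) e.surjective)
    exact (ic_heis.congr f).congr (e.subgroupMap (S : Subgroup G)).symm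

/-- In a group of Bender's list involutions are central in the Sylow 2-subgroups. -/
theorem cen_of_concl {G : Type*} [Group G] [Finite G] (hG : Concl G) (S : Sylow 2 G) {x y : G}
    (hx : x ∈ S) (hy : y ∈ S) (h2 : x * x = 1) : x * y = y * x :=
  congrArg Subtype.val (ic_of_concl hG S ⟨x, hx⟩ ⟨y, hy⟩ (Subtype.ext h2))

end Cfsg.Agent.Cit.CloBen
end
end
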